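import Mathlib
import Cfsg.Agent.Base
import Cfsg.Agent.Lib.TH3.KL
import Cfsg.Agent.Lib.CO3.Eng

/-! The subgroups of the model given by lists of codes, and tests for intersections. -/

set_option autoImplicit false

namespace H18.CO

open Subgroup H54 H2 H93.R3
open scoped commutatorElement Pointwise

local notation:max "𝐍(" A ")" => Subgroup.normalizer (SetLike.coe A)
local notation:max "𝐂(" A ")" => Subgroup.centralizer (SetLike.coe A)

universe u

/- numbers of the generators: `x12 = 6561`, `x23 = 2187`, `e33 = 729`, `x13 = 243`, `e23 = 81`,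
`e13 = 27`, `e22 = 9`, `e12 = 3`, `e11 = 1` -/
def LS : List ℕ := [6561, 2187, 729, 243, 81, 27, 9, 3, 1]
def LE1 : List ℕ := [2187, 729, 243, 81, 27, 9, 3, 1]
def LE2 : List ℕ := [6561, 729, 243, 81, 27, 9, 3, 1]
def LE3 : List ℕ := [6561, 2187, 243, 81, 27, 9, 3, 1]
def LP : List ℕ := [729, 243, 81, 27, 9, 3, 1]
def LV : List ℕ := [2187, 243, 81, 27, 9, 3, 1]
def LF : List ℕ := [243, 81, 27, 9, 3, 1]
def LF3 : List ℕ := [243, 27, 9, 3, 1]
def LA : List ℕ := [729, 81, 27, 9, 3, 1]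
def LH : List ℕ := [81, 27, 9, 3, 1]
def LT : List ℕ := [27, 9, 3, 1]
def LW : List ℕ := [9, 3, 1]
def LY : List ℕ := [27, 3, 1]
def LL : List ℕ := [3, 1]
def LZ : List ℕ := [1]
def LU : List ℕ := [2187, 243, 9, 3, 1]
/-- the regular elements `x12 * x23` and `x12 * x23 ^ 2` -/
def rr (b : Bool) : ℕ := cond b 10935 8748
def LR (b : Bool) : List ℕ := [rr b, 729, 243, 81, 27, 9, 3, 1]
def LE4 (b : Bool) : List ℕ := [rr b, 729, 81, 27, 9, 3, 1]
def LF4 (b : Bool) : List ℕ := [cond b 90 99, cond b 36 45, 3, 1]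

noncomputable def nb (a : Bool) : Bool := Bool.rec true false a

theorem nb_eq (a : Bool) : nb a = true ↔ ¬ a = true := by cases a <;> simp [nb]

/-- `H ≤ ⟨A ++ B⟩` polycyclic, every nontrivial product of elements of `A` passes the test `f` -/
noncomputable def cvB (f : ℕ → Bool) (H A B : List ℕ) : Bool :=
  band (leB (em H) (em A ++ em B)) (band (pcb (em A ++ em B))
    (band (allE (fun t => bor (Nat.beq t 0) (f t)) (em A) 0) (leB (em B) (em H))))

/-- the check for `H ⊓ C(L) = B` -/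
noncomputable def ceQ (H A B L : List ℕ) : Bool :=
  band (cvB (fun t => anyL (fun y => nb (co t y)) (em L)) H A B) (ceB (em B) (em L))

/-- the check for `H ⊓ rc L K = B` -/
noncomputable def rcQ (H A B L K : List ℕ) : Bool :=
  band (cvB (fun t => anyL (fun y => (tb (em K)).nm (len (em K)) (cm t y)) (em L)) H A B)
    (band (lgB (em K)) (cmB (em B) (em L) (em K)))

/-- the check for `H ⊓ N(L) = B` -/
noncomputable def nmQ (H A B L : List ℕ) : Bool :=
  band (cvB (fun t => anyL (fun y => (tb (em L)).nm (len (em L)) (cg t y)) (em L)) H A B)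
    (band (lgB (em L)) (nmB (em B) (em L)))

/-- the check for `H ⊓ L = B` -/
noncomputable def meQ (H A B L : List ℕ) : Bool :=
  band (cvB (fun t => (tb (em L)).nm (len (em L)) t) H A B) (band (lgB (em L)) (leB (em B) (em L)))

noncomputable def cms (P : List (ℕ × ℕ)) : List ℕ :=
  List.rec (motive := fun _ => List ℕ) [] (fun p _ ih => cm (enc p.1) (enc p.2) :: ih) P

/-- the check for `⁅A, B⁆ ⊔ K = C` -/
noncomputable def cmQ (A B K C : List ℕ) (P : List (ℕ × ℕ)) : Bool :=
  band (cmB (em A) (em B) (em C)) (band (leB (em K) (em C)) (band (leB (em C) (cms P ++ em K))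
    (allL (fun p => band ((tb (em A)).mem (enc p.1)) ((tb (em B)).mem (enc p.2))) P)))

variable {Γ : Type u} [Group Γ] {S P : Subgroup Γ} {el : ℕ → Γ}

/-- the group generated by the elements with the given numbers -/
noncomputable abbrev G (el : ℕ → Γ) (L : List ℕ) : Subgroup Γ := gp el (em L)

theorem av_cms : ∀ Q : List (ℕ × ℕ), AV (cms Q)
  | [] => fun _ h => absurd h List.not_mem_nil
  | p :: L => fun y hy => by
    rcases List.mem_cons.1 (show y ∈ cm (enc p.1) (enc p.2) :: cms L from hy) with rfl | h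
    exacts [(val_enc _).cm (val_enc _), av_cms L y h]

theorem G_nil : G el [] = ⊥ := gp_nil
theorem G_one (x : ℕ) : G el [x] = zpowers (el (enc x)) := gp_one _
theorem G_cons (x : ℕ) (L : List ℕ) : G el (x :: L) = G el L ⊔ zpowers (el (enc x)) := gp_cons _ _

namespace Md
variable [Finite Γ] (m : Md S el) {H A B L K C : List ℕ}
include m

omit [Finite Γ] in
theorem cms_le {Q : List (ℕ × ℕ)} (h : ∀ p ∈ Q, el (enc p.1) ∈ G el A ∧ el (enc p.2) ∈ G el B) :
    gp el (cms Q) ≤ ⁅G el A, G el B⁆ := by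
  induction Q with
  | nil => exact gp_nil.le.trans bot_le
  | cons p Q ih =>
    rw [show cms (p :: Q) = H18.CO.cm (enc p.1) (enc p.2) :: cms Q from rfl, gp_cons,
      m.cm (val_enc _) (val_enc _)]
    exact sup_le (ih fun q hq => h q (List.mem_cons_of_mem _ hq)) (zpowers_le_of_mem
      (commutator_mem_commutator (h p List.mem_cons_self).1 (h p List.mem_cons_self).2))

theorem cmQ {Q : List (ℕ × ℕ)} (e : cmQ A B K C Q = true) : ⁅G el A, G el B⁆ ⊔ G el K = G el C := by
  simp only [H18.CO.cmQ, band_eq_true, allL_iff] at e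
  refine le_antisymm (sup_le (m.cmB (av_em _) (av_em _) (av_em _) e.1) (m.leB (av_em _) (av_em _) e.2.1))
    ((m.leB (av_em _) ((av_cms _).append (av_em _)) e.2.2.1).trans ?_)
  rw [gp_append]
  exact sup_le_sup_right (m.cms_le fun p hp => ⟨m.memB (av_em _) (val_enc _) (e.2.2.2 p hp).1,
    m.memB (av_em _) (val_enc _) (e.2.2.2 p hp).2⟩) _

theorem cmQ0 {Q : List (ℕ × ℕ)} (e : H18.CO.cmQ A B [] C Q = true) : ⁅G el A, G el B⁆ = G el C := by
  rw [← m.cmQ e, G_nil, sup_bot_eq]

theorem cvB {f : ℕ → Bool} (e : cvB f H A B = true) (hB : G el B ≤ P)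
    (hf : ∀ t, Val t → f t = true → el t ∉ P) : G el H ⊓ P = G el B := by
  simp only [H18.CO.cvB, band_eq_true] at e
  have a := (av_em A).append (av_em B)
  refine le_antisymm ((inf_le_inf_right _ (m.leB (av_em _) a e.1)).trans
    (m.inf_le a e.2.1 e.2.2.1 hB fun t v c d => ?_)) (le_inf (m.leB (av_em _) (av_em _) e.2.2.2) hB)
  rcases (bor_eq_true _ _).1 c with c | c
  · rw [Nat.eq_of_beq_eq_true c, m.one]; exact one_mem _
  · exact absurd d (hf t v c)

theorem ceQ (e : ceQ H A B L = true) : G el H ⊓ 𝐂(G el L) = G el B := by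
  simp only [H18.CO.ceQ, band_eq_true] at e
  refine m.cvB e.1 (m.ceB (av_em _) (av_em _) e.2) fun t v c d => ?_
  obtain ⟨y, hy, c⟩ := (anyL_iff _ _).1 c
  exact (nb_eq _).1 c ((m.co v (av_em _ y hy)).2 (comm_eq_one d (mem_gp hy)))

/-- a property of all elements -/
theorem allG {f : ℕ → Bool} (e : pcb (em L) = true) (e' : allE f (em L) 0 = true) {z : Γ}
    (hz : z ∈ G el L) : ∃ t, Val t ∧ f t = true ∧ z = el t := by
  obtain ⟨t, v, c, k, hk, d⟩ := m.cover (L := []) (by simpa using av_em L) (by simpa using e) val_zero e'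
    (by simpa using hz)
  rw [gp_nil, mem_bot] at hk
  exact ⟨t, v, c, by rwa [m.one, one_mul, hk, mul_one] at d⟩

variable [Fact (Nat.Prime 3)] (pS : IsPGroup 3 S)
include pS

theorem rcQ (e : rcQ H A B L K = true) : G el H ⊓ relCentralizer (G el L) (G el K) = G el B := by
  simp only [H18.CO.rcQ, band_eq_true] at e
  have e2 := e.2.2
  rw [H18.CO.cmB, band_eq_true] at e2
  refine m.cvB e.1 (le_rc (m.nmB (av_em _) (av_em _) e2.1) (m.cmB (av_em _) (av_em _) (av_em _) e.2.2))
    fun t v c d => ?_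
  obtain ⟨y, hy, c⟩ := (anyL_iff _ _).1 c
  exact m.nmemB pS (av_em _) e.2.1 (v.cm (av_em _ y hy)) c
    (m.cm v (av_em _ y hy) ▸ (mem_rc.1 d).2 _ (mem_gp hy))

theorem nmQ (e : nmQ H A B L = true) : G el H ⊓ 𝐍(G el L) = G el B := by
  simp only [H18.CO.nmQ, band_eq_true] at e
  refine m.cvB e.1 (m.nmB (av_em _) (av_em _) e.2.2) fun t v c d => ?_
  obtain ⟨y, hy, c⟩ := (anyL_iff _ _).1 c
  exact m.nmemB pS (av_em _) e.2.1 (v.cg (av_em _ y hy)) c
    (m.cg v (av_em _ y hy) ▸ conj_mem d (mem_gp hy))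

theorem meQ (e : meQ H A B L = true) : G el H ⊓ G el L = G el B := by
  simp only [H18.CO.meQ, band_eq_true] at e
  exact m.cvB e.1 (m.leB (av_em _) (av_em _) e.2.2) fun t v c => m.nmemB pS (av_em _) e.2.1 v c

theorem lgG (e : H18.CO.lgB (em L) = true) : lg 3 (G el L) = (em L).length := m.lgB pS (av_em _) e

theorem lg_S : lg 3 S ≤ 9 := by
  have : Nat.card S ≤ Nat.card (Fin 19683) := Nat.card_le_card_of_surjective
    (fun n : Fin 19683 => (⟨el (enc n), m.mem _⟩ : S)) fun ⟨g, hg⟩ => by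
      obtain ⟨x, v, rfl⟩ := m.sur g hg
      obtain ⟨n, hn, rfl⟩ := v.ex
      exact ⟨⟨n, hn⟩, rfl⟩
  rw [card_eq pS, Nat.card_eq_fintype_card, Fintype.card_fin, show 19683 = 3 ^ 9 by norm_num] at this
  exact (Nat.pow_le_pow_iff_right (by norm_num)).1 this

theorem top : G el LS = S :=
  eq_of_lg pS (m.gp_le_S _) ((m.lg_S pS).trans (m.lgG pS (L := LS) (by decide +kernel)).ge)

end Md

theorem co3lst_eq : True := trivial

end H18.CO
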