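import Mathlib
import Cfsg.Agent.Base
import Cfsg.Agent.Lib.CO3.Lst

/-! Fusion systems over a Sylow `3`-subgroup of `Co₁`: actions on generators, standard forms. -/

set_option autoImplicit false
set_option maxRecDepth 100000

namespace H18.CO

open Subgroup H54 H2 H93.R3 H18.TH
open scoped commutatorElement Pointwise

local notation:max "𝐍(" A ")" => Subgroup.normalizer (SetLike.coe A)
local notation:max "𝐂(" A ")" => Subgroup.centralizer (SetLike.coe A)

universe u v

/-- `a * c ^ d` -/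
noncomputable def mp (a c d : ℕ) : ℕ :=
  Nat.rec (motive := fun _ => ℕ) a (fun e _ =>
    Nat.rec (motive := fun _ => ℕ) (mu a c) (fun _ _ => mu (mu a c) c) e) d

noncomputable def ebA (M : List ℕ) (n : ℕ) : ℕ → ℕ → ℕ :=
  List.rec (motive := fun _ => ℕ → ℕ → ℕ) (fun _ a => a) (fun c _ ih p a =>
    force (mp a (enc c) (Nat.mod (Nat.div n p) 3)) (ih (Nat.div p 3))) M

/-- the code of the image of the element with number `n`, `M` the numbers of the images of the generators -/
noncomputable def eb (M : List ℕ) (n : ℕ) : ℕ := ebA M n 6561 0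

noncomputable def dmA (M : List ℕ) (n : ℕ) : ℕ → Bool :=
  List.rec (motive := fun _ => ℕ → Bool) (fun p => Nat.beq p 0) (fun c _ ih p =>
    band (bor (Nat.ble 1 c) (Nat.beq (Nat.mod (Nat.div n p) 3) 0)) (ih (Nat.div p 3))) M

/-- only generators with a given image occur in the element with number `n` -/
noncomputable def dm (M : List ℕ) (n : ℕ) : Bool := band (Nat.ble n 19682) (dmA M n 6561)

/-- the composition -/
noncomputable def cp (M N : List ℕ) : List ℕ :=
  List.rec (motive := fun _ => List ℕ) [] (fun n _ ih => force (dec (eb M n)) fun y => y :: ih) N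

/-- conjugation by the element with number `s` on the generators in `N` -/
noncomputable def cn0 (s : ℕ) (N : List ℕ) : List ℕ :=
  List.rec (motive := fun _ => List ℕ) [] (fun n _ ih =>
    force (dec (cg (enc s) (enc n))) fun y => y :: ih) N

/-- the generators of `A` -/
def IA : List ℕ := [0, 0, 729, 0, 81, 27, 9, 3, 1]

def tau (a b c : Bool) : List ℕ :=
  [cond a 13122 6561, cond b 4374 2187, cond c 1458 729, cond (xor a b) 486 243, cond (xor b c) 162 81,
    cond (xor a (xor b c)) 54 27, cond c 18 9, cond (xor a c) 6 3, cond c 2 1]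
def w1 : List ℕ := [0, 486, 729, 2187, 54, 81, 1, 6, 9]
def w2 (b : Bool) : List ℕ := [486, 0, cond b 10 9, 6561, 162, 3, cond b 731 729, 54, 1]
def w3 : List ℕ := [6561, 162, 0, 54, 2187, 243, 9, 3, 1]

/-- the right sides of the relations `a j * a i = a i * ⋯` for `i < j` -/
def rw0 (j i : ℕ) : List ℕ :=
  if (j, i) = (1, 0) then [1, 3, 3] else if (j, i) = (4, 0) then [4, 5, 5]
  else if (j, i) = (6, 0) then [6, 7, 7, 8] else if (j, i) = (7, 0) then [7, 8]
  else if (j, i) = (2, 1) then [2, 4, 4, 6] else if (j, i) = (4, 1) then [4, 6]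
  else if (j, i) = (5, 1) then [5, 7, 7] else if (j, i) = (3, 2) then [3, 5, 8, 8]
  else if (j, i) = (4, 3) then [4, 7, 7] else if (j, i) = (5, 3) then [5, 8] else [j]

variable {Γ : Type u} [Group Γ] {Γ' : Type v} [Group Γ'] {S H : Subgroup Γ} {el : ℕ → Γ} {el' : ℕ → Γ'}
  {g h : Γ} {M N : List ℕ} {n : ℕ}

/-- the defining relations -/
structure Pc (a : ℕ → Γ) : Prop where
  cb : ∀ i < 9, a i ^ 3 = 1
  rw : ∀ j < 9, ∀ i < j, a j * a i = a i * ((rw0 j i).map a).prod

/-- `g` maps the generators to the elements with the numbers in `M` (`0`: no condition) -/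
def Ac (el : ℕ → Γ) (g : Γ) (M : List ℕ) : Prop :=
  List.Forall₂ (fun x y => y = 0 ∨ g * el (enc x) * g⁻¹ = el (enc y)) LS M

/-- the automorphisms induced on `S` are inner-diagonal -/
def Tw (S : Subgroup Γ) (el : ℕ → Γ) : Prop :=
  ∀ g ∈ 𝐍(S), ∃ s ∈ S, ∃ a b c, Ac el (s * g) (tau a b c)

/-- the standard generators -/
structure Gn (el : ℕ → Γ) (b : Bool) : Prop where
  t1 : ∃ g, Ac el g (tau true false false)
  t3 : ∃ g, Ac el g (tau false true false)
  w1 : ∃ g, Ac el g w1
  w2 : ∃ g, Ac el g (w2 b)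
  w3 : ∃ g, Ac el g w3

def Dl (el : ℕ → Γ) : Prop := ∃ g, Ac el g (tau false false true)

def Nd (S : Subgroup Γ) (el : ℕ → Γ) : Prop := ∀ g ∈ 𝐍(S), g * el (enc 1) * g⁻¹ = el (enc 1)

/-- the map induced by `g` on `H` is induced in the second group -/
def Rz (el : ℕ → Γ) (el' : ℕ → Γ') (H : Subgroup Γ) (g : Γ) : Prop :=
  ∃ k : Γ', ∀ x y, Val x → Val y → el x ∈ H → g * el x * g⁻¹ = el y → k * el' x * k⁻¹ = el' y

/-- the candidates for essential subgroups -/
def Cls (S : Subgroup Γ) (el : ℕ → Γ) : Prop := ∀ E, Es S E →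
  E = G el LE1 ∨ E = G el LE2 ∨ E = G el LE3 ∨ ∃ b, ∃ s ∈ S, E = cn s (G el (LE4 b))

/-- `N(E)` is not `3`-closed modulo `C(E)` -/
def Mv (S E : Subgroup Γ) : Prop := ¬ 𝐍(E) ≤ 𝐍(E) ⊓ 𝐍(S ⊓ 𝐍(E)) ⊔ 𝐂(E)

/-- elements of order `9` do not occur in the automizer of `X` -/
def E9 (X : Subgroup Γ) : Prop := ∀ g ∈ 𝐍(X), g ^ 9 ∈ 𝐂(X) → g ^ 3 ∈ 𝐂(X)

theorem dec_chk : allLt (fun n => band (Nat.beq (dec (enc n)) n) (Nat.beq (eb LS n) (enc n))) 19683 = true := by
  decide +kernel

theorem dec_enc (h : n < 19683) : dec (enc n) = n ∧ eb LS n = enc n := by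
  have := (allLt_iff _ _).1 dec_chk n h
  rwa [band_eq_true, Nat.beq_eq, Nat.beq_eq] at this

theorem Val.enc_dec {x : ℕ} (h : Val x) : enc (dec x) = x ∧ dec x < 19683 := by
  obtain ⟨n, hn, rfl⟩ := h.ex
  rw [(dec_enc hn).1]; exact ⟨rfl, hn⟩

theorem enc_zero : enc 0 = 0 := by decide +kernel

theorem Val.mp {a c : ℕ} (ha : Val a) (hc : Val c) : ∀ d, Val (mp a c d)
  | 0 => ha
  | 1 => ha.mu hc
  | _ + 2 => (ha.mu hc).mu hc

theorem val_ebA (n : ℕ) : ∀ (M : List ℕ) (p : ℕ) {a : ℕ}, Val a → Val (ebA M n p a)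
  | [], _, _, h => h
  | c :: M, p, a, h => by
    show Val (force (mp a (enc c) (Nat.mod (Nat.div n p) 3)) (ebA M n (Nat.div p 3)))
    rw [force_eq]; exact val_ebA n M _ (h.mp (val_enc _) _)

theorem val_eb (M : List ℕ) (n : ℕ) : Val (eb M n) := val_ebA n M _ val_zero

theorem cp_cons (M : List ℕ) (n : ℕ) (N : List ℕ) : cp M (n :: N) = dec (eb M n) :: cp M N := force_eq _ _
theorem cn0_cons (s n : ℕ) (N : List ℕ) : cn0 s (n :: N) = dec (cg (enc s) (enc n)) :: cn0 s N :=
  force_eq _ _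

theorem Ac.of_cent (h : Ac el g M) {c : Γ} (hc : ∀ x y, (x, y) ∈ LS.zip M → y ≠ 0 →
    c * el (enc x) * c⁻¹ = el (enc x)) : Ac el (g * c) M := by
  rw [Ac, List.forall₂_iff_zip] at h ⊢
  refine ⟨h.1, fun {x y} e => (eq_or_ne y 0).imp_right fun k => ?_⟩
  rw [← (h.2 e).resolve_left k, ← hc x y e k]
  simp only [hc x y e k, mul_inv_rev]
  rw [show g * c * el (enc x) * (c⁻¹ * g⁻¹) = g * (c * el (enc x) * c⁻¹) * g⁻¹ by group, hc x y e k]

theorem Ac.get (h : Ac el g M) {x y : ℕ} (e : (x, y) ∈ LS.zip M) (k : y ≠ 0) :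
    g * el (enc x) * g⁻¹ = el (enc y) := ((List.forall₂_iff_zip.1 h).2 e).resolve_left k

/-- forget some of the conditions -/
theorem Ac.res (h : Ac el g M) (e : List.Forall₂ (fun y z => z = 0 ∨ z = y) M N) : Ac el g N := by
  unfold Ac at h ⊢
  generalize LS = L at h ⊢
  induction h generalizing N with
  | nil => cases e; exact .nil
  | cons a _ ih =>
    cases e with
    | cons b e => exact .cons (b.elim Or.inl fun b => b ▸ a) (ih e)

namespace Md
variable (m : Md S el)
include m

theorem mp {a c : ℕ} (ha : Val a) (hc : Val c) : ∀ {d}, d < 3 → el (mp a c d) = el a * el c ^ d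
  | 0, _ => by rw [pow_zero, mul_one]; rfl
  | 1, _ => by rw [pow_one]; exact m.mul ha hc
  | 2, _ => by rw [pow_two, ← mul_assoc, ← m.mul ha hc]; exact m.mul (ha.mu hc) hc

theorem ebA : ∀ {L M : List ℕ}, List.Forall₂ (fun x y => y = 0 ∨ g * el (enc x) * g⁻¹ = el (enc y)) L M →
    ∀ {p a b : ℕ}, dmA M n p = true → Val a → Val b → g * el a * g⁻¹ = el b →
      g * el (ebA L n p a) * g⁻¹ = el (ebA M n p b)
  | _, _, .nil, _, _, _, _, _, _, e => e
  | _, _, .cons (a := x) (b := y) (l₁ := L) (l₂ := M) k r, p, a, b, d, va, vb, e => by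
    have d' : band (bor (Nat.ble 1 y) (Nat.beq (Nat.mod (Nat.div n p) 3) 0))
      (dmA M n (Nat.div p 3)) = true := d
    rw [band_eq_true, bor_eq_true, Nat.ble_eq, Nat.beq_eq] at d'
    show g * el (force (H18.CO.mp a (enc x) (Nat.mod (Nat.div n p) 3)) (H18.CO.ebA L n (Nat.div p 3))) * g⁻¹ =
      el (force (H18.CO.mp b (enc y) (Nat.mod (Nat.div n p) 3)) (H18.CO.ebA M n (Nat.div p 3)))
    rw [force_eq, force_eq]
    refine ebA r d'.2 (va.mp (val_enc _) _) (vb.mp (val_enc _) _) ?_
    have l : Nat.mod (Nat.div n p) 3 < 3 := Nat.mod_lt _ (by norm_num)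
    rw [m.mp va (val_enc _) l, m.mp vb (val_enc _) l, ← e]
    rcases d'.1 with c | c
    · rw [← k.resolve_left (by omega), conj_pow]; group
    · rw [c]; simp

/-- the image of an element -/
theorem ap (h : Ac el g M) (d : dm M n = true) : g * el (enc n) * g⁻¹ = el (eb M n) := by
  rw [dm, band_eq_true, Nat.ble_eq] at d
  rw [← (dec_enc (Nat.lt_succ_of_le d.1)).2]
  exact m.ebA h d.2 val_zero val_zero (by rw [m.one]; group)

theorem ap' (h : Ac el g M) (d : dm M n = true) : g * el (enc n) * g⁻¹ = el (enc (dec (eb M n))) := by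
  rw [(val_eb M n).enc_dec.1]; exact m.ap h d

theorem ac_mul (a : Ac el g M) (b : Ac el h N) (d : allL (dm M) N = true) : Ac el (g * h) (cp M N) := by
  rw [allL_iff] at d
  unfold Ac at b ⊢
  generalize LS = L at b ⊢
  induction b with
  | nil => exact .nil
  | @cons x y _ _ k _ ih =>
    rw [cp_cons]
    refine .cons ?_ (ih fun z hz => d z (List.mem_cons_of_mem _ hz))
    have e := m.ap' a (d y List.mem_cons_self)
    rcases k with rfl | k
    · rw [enc_zero, m.one, mul_one, mul_inv_cancel, eq_comm, m.eq_one (val_enc _)] at e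
      exact Or.inl ((dec_enc (val_eb M 0).enc_dec.2).1.symm.trans (by rw [e]; rfl))
    · right; rw [← e, ← k]; group

/-- an element of `S` times `h` -/
theorem ac_cn (s : ℕ) (b : Ac el h N) : Ac el (el (enc s) * h) (cn0 s N) := by
  unfold Ac at b ⊢
  generalize LS = L at b ⊢
  induction b with
  | nil => exact .nil
  | @cons x y _ _ k _ ih =>
    rw [cn0_cons]
    refine .cons ?_ ih
    have v := (val_enc s).cg (val_enc y)
    rcases k with rfl | k
    · refine Or.inl ?_
      have e := m.cg (val_enc s) (val_enc 0)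
      rw [enc_zero, m.one, mul_one, mul_inv_cancel, ← enc_zero, m.eq_one v] at e
      rw [e]; rfl
    · right; rw [v.enc_dec.1, m.cg (val_enc s) (val_enc y), ← k]; group

omit m in
theorem ac_one (e : List.Forall₂ (fun y z => z = 0 ∨ z = y) LS N) : Ac el 1 N :=
  Ac.res (M := LS) (List.forall₂_same.2 fun _ _ => Or.inr (by group)) e

/-- `g` normalises a group if the images of the generators lie in it -/
theorem ac_norm [Finite Γ] {L : List ℕ} (a : Ac el g M)
    (e : allL (fun n => band (dm M n) ((H18.CO.tb (em L)).mem (eb M n))) L = true) : g ∈ 𝐍(G el L) := by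
  refine norm_of fun y hy => ?_
  have : ∀ L' : List ℕ, y ∈ em L' → ∃ n ∈ L', y = enc n := fun L' => by
    induction L' with
    | nil => exact fun h => absurd h List.not_mem_nil
    | cons x L' ih =>
      intro h
      rcases List.mem_cons.1 (show y ∈ enc x :: em L' from h) with rfl | h
      · exact ⟨x, List.mem_cons_self, rfl⟩
      · obtain ⟨n, a, b⟩ := ih h; exact ⟨n, List.mem_cons_of_mem _ a, b⟩
  obtain ⟨n, hn, rfl⟩ := this L hy
  have := (allL_iff _ _).1 e n hn
  rw [band_eq_true] at this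
  rw [m.ap a this.1]
  exact m.memB (av_em _) (val_eb _ _) this.2

end Md

theorem co3defs_eq : True := trivial

end H18.CO
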