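import Mathlib
import Cfsg.Agent.Base
import Cfsg.Agent.Lib.CO3.Defs

set_option autoImplicit false
set_option maxRecDepth 100000

namespace H18.CO

open Subgroup H54 H2 H90 H91 H93.R3 H18.TH Cfsg Cfsg.FusionSystem
open scoped commutatorElement Pointwise

local notation:max "𝐍(" A ")" => Subgroup.normalizer (SetLike.coe A)
local notation:max "𝐂(" A ")" => Subgroup.centralizer (SetLike.coe A)

universe u v

variable {Γ : Type u} [Group Γ] [Finite Γ] {Γ' : Type v} [Group Γ'] [Finite Γ'] {S E : Subgroup Γ}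
  {S' : Subgroup Γ'} {el : ℕ → Γ} {el' : ℕ → Γ'} {g : Γ} {b : Bool}

/-- facts on the model -/
structure Ok (S : Subgroup Γ) (el : ℕ → Γ) : Prop where
  wA : ∀ g, cn g (G el LA) ≤ S → g ∈ 𝐍(G el LA)
  eaA : EA 3 (G el LA)
  sA : S ≤ 𝐍(G el LA)
  cA : S ⊓ 𝐂(G el LA) ≤ G el LA
  s3 : ∀ s ∈ S, s ^ 3 ∈ G el LA
  zS : S ⊓ 𝐂(S) = G el LZ
  nS1 : 𝐍(S) ≤ 𝐍(G el LE1)
  nS2 : 𝐍(S) ≤ 𝐍(G el LE2)
  nS3 : 𝐍(S) ≤ 𝐍(G el LE3)
  phS : ph S = G el LF
  ph1 : ph (G el LE1) = G el LH
  ph2 : ph (G el LE2) = G el LY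
  ph3 : ph (G el LE3) = G el LF3
  ph4 : ∀ b, ph (G el (LE4 b)) = G el (LF4 b)
  phR : ∀ b, ph (G el (LR b)) = G el LH
  z1 : G el LE1 ⊓ 𝐂(G el LE1) = G el LW
  z2 : G el LE2 ⊓ 𝐂(G el LE2) = G el LZ
  z3 : G el LE3 ⊓ 𝐂(G el LE3) = G el LZ
  n3V : 𝐍(G el LE3) ≤ 𝐍(G el LV)
  nVW : 𝐍(G el LV) ≤ 𝐍(G el LW)
  nP : 𝐍(G el LP) ≤ 𝐍(G el LH) ⊓ 𝐍(G el LT)
  nR : ∀ b, 𝐍(G el (LR b)) ≤ 𝐍(G el LP)
  sR : ∀ b, S ≤ 𝐍(G el (LR b))
  n4 : ∀ b, S ⊓ 𝐍(G el (LE4 b)) = G el (LR b)
  c4 : ∀ b, ∀ a ∈ G el LA, (el (enc (rr b)) * a) ^ 3 = 1 →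
    ∃ c ∈ G el LA, c * el (enc (rr b)) * c⁻¹ = el (enc (rr b)) * a

namespace CH

set_option linter.unusedSectionVars false

noncomputable def pwB (H A K : List ℕ) : Bool :=
  band (leB (em H) (em A ++ em K)) (band (pcb (em A ++ em K)) (allE (fun t =>
    band ((tb (em K)).mem (cu t)) (allL (fun y => (tb (em K)).mem (cg t y)) (em K))) (em A) 0))

def KS : List (List ℕ) := [[9, 3, 1], [729, 27, 1], [900, 33, 1], [819, 30, 1], [45, 3, 1], [36, 3, 1]]

noncomputable def fxB (t : ℕ) : Bool := bor (Nat.beq t 0) (anyL (fun K => band (pcb (em K))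
  (allE (fun a => bor (nb (co a t)) ((tb (em K)).mem a)) (em LA) 0)) KS)

/-- outside `X` and `X'` the element `y` is moved twice modulo `K` -/
noncomputable def enB (A B X X' K : List ℕ) (y : ℕ) : Bool :=
  allE (fun t => bor ((tb (em X)).mem t) (bor ((tb (em X')).mem t)
    (allE (fun u => (tb (em K)).nm (len (em K)) (cm (cm (enc y) u) u)) (em B) t))) (em A) 0

theorem eqns_CH : True := by
  have := @pwB.eq_1
  have := @KS.eq_1
  have := @fxB.eq_1
  have := @enB.eq_1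
  trivial

theorem eng {X Y : Subgroup Γ} {a x : Γ} (hX : a ∈ 𝐍(X)) (hY : a ∈ 𝐍(Y))
    (h : ∀ y ∈ X, ⁅⁅y, x⁆, x⁆ ∈ Y) : ∀ y ∈ X, ⁅⁅y, a * x * a⁻¹⁆, a * x * a⁻¹⁆ ∈ Y := fun y hy => by
  have := conj_mem hY (h _ (conj_mem' hX hy))
  rwa [conj_comm, conj_comm, show a * (a⁻¹ * y * a) * a⁻¹ = y by group] at this

variable (m : Md S el) {H A B C K X X' : List ℕ}
include m

theorem leG (e : leB (em A) (em B) = true) : G el A ≤ G el B := m.leB (av_em _) (av_em _) e
theorem ceG (e : ceB (em A) (em B) = true) : G el A ≤ 𝐂(G el B) := m.ceB (av_em _) (av_em _) e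
theorem nmG (e : nmB (em A) (em B) = true) : G el A ≤ 𝐍(G el B) := m.nmB (av_em _) (av_em _) e

theorem pw (e : pwB H A K = true) : ∀ z ∈ G el H, z ^ 3 ∈ G el K := fun z hz => by
  simp only [pwB, band_eq_true] at e
  have a := (av_em A).append (av_em K)
  obtain ⟨t, v, c, k, hk, d⟩ := m.cover a e.2.1 val_zero e.2.2 (m.leB (av_em _) a e.1 hz)
  rw [m.one, one_mul] at d
  rw [band_eq_true, allL_iff] at c
  have n : el t ∈ 𝐍(G el K) := Md.norm_of fun y hy => m.cg v (av_em _ y hy) ▸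
    m.memB (av_em _) (v.cg (av_em _ y hy)) (c.2 y hy)
  have h3 : el t ^ 3 ∈ G el K := m.cu v ▸ m.memB (av_em _) v.cu c.1
  rw [d, show (el t * k) ^ 3 = el t ^ 3 * ((el t)⁻¹ * ((el t)⁻¹ * k * el t) * el t) *
    ((el t)⁻¹ * k * el t) * k by simp only [pow_succ, pow_zero]; group]
  exact mul_mem (mul_mem (mul_mem h3 (conj_mem' n (conj_mem' n hk))) (conj_mem' n hk)) hk

theorem enG {x : ℕ} (e : pcb (em A) = true)
    (e' : allE (fun y => (tb (em K)).mem (cm (cm y (enc x)) (enc x))) (em A) 0 = true) :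
    ∀ y ∈ G el A, ⁅⁅y, el (enc x)⁆, el (enc x)⁆ ∈ G el K := fun y hy => by
  obtain ⟨t, v, c, rfl⟩ := m.allG e e' hy
  rw [← m.cm v (val_enc x), ← m.cm (v.cm (val_enc x)) (val_enc x)]
  exact m.memB (av_em _) ((v.cm (val_enc x)).cm (val_enc x)) c

variable (pS : IsPGroup 3 S)
include pS

theorem phq {Q : List (ℕ × ℕ)} (e : cmQ H H [] K Q = true) (e' : pwB H A K = true) :
    ph (G el H) = G el K :=
  have p := pS.to_le (m.gp_le_S (em H))
  le_antisymm ((ph_le p).2 ⟨(m.cmQ0 e).le, pw m e'⟩) ((m.cmQ0 e).ge.trans (eq_ph p).comm)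

theorem en {y : ℕ} (e1 : leB (em H) (em A ++ em B) = true) (e2 : pcb (em A ++ em B) = true)
    (e3 : pcb (em B) = true) (e4 : lgB (em K) = true) (e : enB A B X X' K y = true)
    (l : G el B ≤ G el X) (l' : G el B ≤ G el X') {z : Γ} (hz : z ∈ G el H)
    (c : ⁅⁅el (enc y), z⁆, z⁆ ∈ G el K) : z ∈ G el X ∨ z ∈ G el X' := by
  have a := (av_em A).append (av_em B)
  obtain ⟨t, v, d, k, hk, f⟩ := m.cover a e2 val_zero e (m.leB (av_em _) a e1 hz)
  rw [m.one, one_mul] at f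
  simp only [bor_eq_true] at d
  rcases d with d | d | d
  · exact Or.inl (f ▸ mul_mem (m.memB (av_em _) v d) (l hk))
  · exact Or.inr (f ▸ mul_mem (m.memB (av_em _) v d) (l' hk))
  · obtain ⟨u, w, d', k', hk', f'⟩ := m.cover (L := []) (by simpa using av_em B) (by simpa using e3) v d
      (by simpa using hk)
    rw [gp_nil, mem_bot] at hk'
    rw [hk', mul_one, ← f] at f'
    rw [f', ← m.cm (val_enc y) w, ← m.cm ((val_enc y).cm w) w] at c
    exact absurd c (m.nmemB pS (av_em _) e4 (((val_enc y).cm w).cm w) d')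

theorem sA : S ≤ 𝐍(G el LA) := m.top pS ▸ nmG m (A := LS) (by decide +kernel)

omit pS in
theorem eaA : EA 3 (G el LA) := ⟨ceG m (by decide +kernel), fun x hx =>
  mem_bot.1 (G_nil (el := el) ▸ pw m (A := LA) (K := []) (by decide +kernel) x hx)⟩

theorem fx {t : Γ} (ht : t ∈ S) (h : t ∉ G el LA) : lg 3 (G el LA ⊓ 𝐂(zpowers t)) ≤ 3 := by
  have a := (av_em [6561, 2187, 243]).append (av_em LA)
  obtain ⟨u, v, c, k, hk, d⟩ := m.cover (f := fxB) a (by decide +kernel) val_zero (by decide +kernel)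
    (m.leB (av_em LS) a (by decide +kernel) ((m.top pS).ge ht))
  rw [m.one, one_mul] at d
  rcases (bor_eq_true _ _).1 c with c | c
  · rw [Nat.eq_of_beq_eq_true c, m.one, one_mul] at d
    exact absurd (d ▸ hk) h
  obtain ⟨K, hK, c⟩ := (anyL_iff _ _).1 c
  rw [band_eq_true] at c
  refine (lg_mono (Y := G el K) fun z hz => ?_).trans ((m.lg_le (av_em K) c.1).trans ?_)
  · obtain ⟨y, w, c', rfl⟩ := m.allG (by decide +kernel) c.2 hz.1
    refine m.memB (av_em _) w (((bor_eq_true _ _).1 c').resolve_left fun n => (nb_eq _).1 n ?_)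
    rw [m.co w v, ← mem_cent_zpowers]
    have h1 : zpowers (el u) ≤ zpowers t ⊔ G el LA := zpowers_le_of_mem (by
      rw [eq_mul_inv_of_mul_eq d.symm]
      exact mul_mem (mem_sup_left (mem_zpowers t)) (mem_sup_right (inv_mem hk)))
    exact cent_anti h1 (cent_sup (A := zpowers (el y)) (zpowers_le_of_mem hz.2)
      (zpowers_le_of_mem ((eaA m).comm hz.1)) (mem_zpowers _))
  · clear c
    revert K
    decide

theorem cS : ⁅S, S⁆ = G el LF := by
  have := m.cmQ0 (A := LS) (B := LS) (C := LF)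
    (Q := [(6561, 2187), (6561, 81), (6561, 9), (2187, 729), (2187, 81), (6561, 3)]) (by decide +kernel)
  rwa [m.top pS] at this

theorem wA (g : Γ) (h : cn g (G el LA) ≤ S) : g ∈ 𝐍(G el LA) := by
  have lA : lg 3 (G el LA) = 6 := m.lgG pS (by decide +kernel)
  have AS : G el LA ≤ S := m.gp_le_S _
  by_cases c : cn g (G el LA) ≤ G el LA
  · exact mem_norm (cn_le_iff.1 c)
  obtain ⟨t, ht, n⟩ := SetLike.not_le_iff_exists.1 c
  have eB := (eaA m).cn g
  have nB := h.trans (sA m pS)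
  have l1 := lg_sup' (p := 3) nB
  have l2 := (lg_mono (p := 3) (inf_le_inf_left (G el LA)
    (eB.comm.trans (cent_anti (zpowers_le_of_mem ht))))).trans (fx m pS (h ht) n)
  have l3 := m.lg_S pS
  rw [lg_cn, lA] at l1
  have s : S ≤ G el LA ⊔ cn g (G el LA) := le_of_lg pS (sup_le AS h) (by omega)
  have r1 : S ≤ relCentralizer (cn g (G el LA)) (G el LA) := s.trans (sup_le
    (le_rc le_normalizer (comm_le_l nB)) (le_rc nB ((comm_le_bot.2 eB.comm).trans bot_le)))
  have r2 : S ≤ relCentralizer S (G el LA) := s.trans (sup_le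
    (le_rc le_normalizer (comm_le_l (sA m pS))) (le_rc nB (comm_le_symm (comm_le_of_rc r1))))
  exact absurd (((cS m pS).ge.trans (comm_le_of_rc r2)) (mem_gp List.mem_cons_self))
    (m.nmemB pS (av_em LA) (by decide +kernel) (val_enc 243) (by decide +kernel))

theorem nA (h : G el LA ≤ E) (h' : E ≤ S) : 𝐍(E) ≤ 𝐍(G el LA) :=
  fun g hg => wA m pS g ((cn_le h hg).trans h')

theorem zS : S ⊓ 𝐂(S) = G el LZ := by
  have := m.ceQ (H := LS) (A := [6561, 2187, 729, 243, 81, 27, 9, 3]) (B := LZ) (L := LS) (by decide +kernel)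
  rwa [m.top pS] at this

theorem nS1 : 𝐍(S) ≤ 𝐍(G el LE1) := by
  have a := m.rcQ pS (H := LS) (A := [6561, 2187, 729, 243, 81, 27, 9]) (B := LL) (L := LS) (K := LZ)
    (by decide +kernel)
  have c := m.ceQ (H := LS) (A := [6561]) (B := LE1) (L := LL) (by decide +kernel)
  rw [m.top pS] at a c
  rw [← c, ← a, ← zS m pS]
  exact norm_inf le_rfl (norm_cent (norm_inf le_rfl (norm_rc le_rfl (norm_inf le_rfl (norm_cent le_rfl)))))

omit pS in
theorem cP : ⁅G el LP, G el LP⁆ = G el LY :=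
  m.cmQ0 (Q := [(729, 243), (243, 81), (243, 27)]) (by decide +kernel)

theorem nS2 : 𝐍(S) ≤ 𝐍(G el LE2) := by
  have a := m.cmQ (A := LS) (B := LS) (K := LA) (C := LP) (Q := [(6561, 2187)]) (by decide +kernel)
  have c := m.rcQ pS (H := LS) (A := [2187]) (B := LE2) (L := LA) (K := LY) (by decide +kernel)
  rw [m.top pS] at a c
  have n := nA m pS (m.gp_le_S _) le_rfl
  have n' : 𝐍(S) ≤ 𝐍(G el LP) := a ▸ norm_sup (norm_comm le_rfl le_rfl) n
  rw [← c, ← cP m]
  exact norm_inf le_rfl (norm_rc n (norm_comm n' n'))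

omit pS in
theorem z1 : G el LE1 ⊓ 𝐂(G el LE1) = G el LW :=
  m.ceQ (A := [2187, 729, 243, 81, 27]) (by decide +kernel)

omit pS in
theorem z3 : G el LE3 ⊓ 𝐂(G el LE3) = G el LZ :=
  m.ceQ (A := [6561, 2187, 243, 81, 27, 9, 3]) (by decide +kernel)

theorem nS3 : 𝐍(S) ≤ 𝐍(G el LE3) := fun a ha => by
  have c := m.rcQ pS (H := LS) (A := [6561, 729]) (B := LV) (L := LF) (K := LW) (by decide +kernel)
  rw [m.top pS] at c
  have n1 := nS1 m pS
  have nW : 𝐍(S) ≤ 𝐍(G el LW) := z1 m ▸ norm_inf n1 (norm_cent n1)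
  have nV : 𝐍(S) ≤ 𝐍(G el LV) := c ▸ norm_inf le_rfl (norm_rc (cS m pS ▸ norm_comm le_rfl le_rfl) nW)
  have l : G el LV ≤ G el LE3 := leG m (by decide +kernel)
  have k := (en m pS (H := LS) (A := [6561, 729]) (B := LV) (X := LE3) (X' := LE1) (K := LW) (y := 2187)
    (by decide +kernel) (by decide +kernel) (by decide +kernel) (by decide +kernel) (by decide +kernel) l
    (leG m (by decide +kernel)) ((m.top pS).ge (conj_mem ha (m.mem (enc 6561))))
    (eng (nV ha) (nW ha) (enG m (by decide +kernel) (by decide +kernel)) _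
      (mem_gp List.mem_cons_self))).resolve_right fun k => m.nmemB pS (av_em LE1) (by decide +kernel)
        (val_enc 6561) (by decide +kernel) (mem_of_conj (n1 ha) k)
  refine mem_norm (cn_le_iff.1 ((cn_mono (G_cons 6561 LV).le).trans ?_))
  rw [cn_sup]
  refine sup_le (((cn_eq (nV ha)).le).trans l) (cn_le_iff.2 fun x hx => ?_)
  obtain ⟨n, rfl⟩ := mem_zpowers_iff.1 hx
  rw [← conj_zpow]
  exact zpow_mem k n

theorem n3V : 𝐍(G el LE3) ≤ 𝐍(G el LV) := by
  rw [← m.ceQ (H := LE3) (A := [6561]) (B := LV) (L := LL) (by decide +kernel),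
    ← m.rcQ pS (H := LE3) (A := [6561, 2187, 243, 81, 27, 9]) (B := LL) (L := LE3) (K := LZ)
      (by decide +kernel), ← z3 m]
  exact norm_inf le_rfl (norm_cent (norm_inf le_rfl (norm_rc le_rfl (norm_inf le_rfl (norm_cent le_rfl)))))

theorem nP : 𝐍(G el LP) ≤ 𝐍(G el LH) ⊓ 𝐍(G el LT) := by
  have n := nA m pS (E := G el LP) (leG m (by decide +kernel)) (m.gp_le_S _)
  refine le_inf ?_ ?_
  · rw [← m.rcQ pS (H := LA) (A := [729]) (B := LH) (L := LP) (K := LW) (by decide +kernel),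
      ← m.ceQ (H := LP) (A := [729, 243, 81, 27]) (B := LW) (L := LP) (by decide +kernel)]
    exact norm_inf n (norm_rc le_rfl (norm_inf le_rfl (norm_cent le_rfl)))
  · rw [← m.rcQ pS (H := LA) (A := [729, 81]) (B := LT) (L := LP) (K := LZ) (by decide +kernel),
      ← m.cmQ0 (A := LY) (B := LP) (C := LZ) (Q := [(27, 243)]) (by decide +kernel), ← cP m]
    exact norm_inf n (norm_rc le_rfl (norm_comm (norm_comm le_rfl le_rfl) le_rfl))

theorem nR (b : Bool) : 𝐍(G el (LR b)) ≤ 𝐍(G el LP) := fun a ha => by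
  have n := nA m pS (E := G el (LR b)) (leG m (by cases b <;> decide +kernel)) (m.gp_le_S _)
  have c := m.ceQ (H := LR b) (A := [rr b, 729, 243, 81, 27, 9, 3]) (B := LZ) (L := LR b)
    (by cases b <;> decide +kernel)
  have nZ : 𝐍(G el (LR b)) ≤ 𝐍(G el LZ) := c ▸ norm_inf le_rfl (norm_cent le_rfl)
  have k := (en m pS (H := LR b) (A := [rr b]) (B := LP) (X := LP) (X' := LP) (K := LZ) (y := 729)
    (by cases b <;> decide +kernel) (by cases b <;> decide +kernel) (by decide +kernel) (by decide +kernel)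
    (by cases b <;> decide +kernel) le_rfl le_rfl
    (conj_mem ha (m.memB (av_em _) (val_enc 243) (by cases b <;> decide +kernel)))
    (eng (n ha) (nZ ha) (enG m (by decide +kernel) (by decide +kernel)) _
      (mem_gp List.mem_cons_self))).elim id id
  refine mem_norm (cn_le_iff.1 ((cn_mono ((leG m (B := 243 :: LA) (by decide +kernel)).trans
    (G_cons 243 LA).le)).trans ?_))
  rw [cn_sup]
  refine sup_le (((cn_eq (n ha)).le).trans (leG m (by decide +kernel))) (cn_le_iff.2 fun x hx => ?_)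
  obtain ⟨n, rfl⟩ := mem_zpowers_iff.1 hx
  rw [← conj_zpow]
  exact zpow_mem k n

theorem c4 (b : Bool) {a : Γ} (ha : a ∈ G el LA) (e : (el (enc (rr b)) * a) ^ 3 = 1) :
    ∃ c ∈ G el LA, c * el (enc (rr b)) * c⁻¹ = el (enc (rr b)) * a := by
  have r : ∀ {X : Subgroup Γ}, G el [rr b] ≤ X → el (enc (rr b)) ∈ X := fun h => h (mem_gp List.mem_cons_self)
  have h4 : a ∈ G el (LF4 b) := by
    obtain ⟨t, v, c, rfl⟩ := m.allG (f := fun t => bor (nb (Nat.beq (cu (mu (enc (rr b)) t)) 0))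
      ((tb (em (LF4 b))).mem t)) (by decide +kernel) (by cases b <;> decide +kernel) ha
    refine m.memB (av_em _) v (((bor_eq_true _ _).1 c).resolve_left fun n => (nb_eq _).1 n ?_)
    rw [← m.mul (val_enc _) v, ← m.cu ((val_enc _).mu v), m.eq_one ((val_enc _).mu v).cu] at e
    rw [e]; rfl
  have l1 : lg 3 (G el LA) = 6 := m.lgG pS (by decide +kernel)
  have l2 : lg 3 (G el (LF4 b)) = 4 := (m.lgG pS (by cases b <;> decide +kernel)).trans rfl
  have l3 : lg 3 (G el LA ⊓ cz (el (enc (rr b))) ⊥) ≤ 2 := by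
    refine (lg_mono ?_).trans ((m.lgG pS (L := [cond b 42 48, 1]) (by cases b <;> decide +kernel)).trans rfl).le
    rw [← m.ceQ (H := LA) (A := [729, 81, 9, 3]) (B := [cond b 42 48, 1]) (L := [rr b])
      (by cases b <;> decide +kernel), G_one]
    exact inf_le_inf_left _ fun x hx => mem_cent_zpowers.2 (mem_bot.1 (mem_cz.1 hx).2)
  obtain ⟨x, hx, c⟩ := exists_comm_of_lg (p := 3) (a := el (enc (rr b))) (X := G el LA) (U := G el (LF4 b))
    (pS.to_le (m.gp_le_S (em LA))) (pS.to_le (m.gp_le_S (em (LF4 b)))) bot_le (norm_bot _)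
    (fun x hx => comm_mem (m.cmB (C := em (LF4 b)) (av_em LA) (av_em [rr b]) (av_em _)
      (by cases b <;> decide +kernel)) hx (r le_rfl))
    (by rw [lg_bot]; omega) (inv_mem (conj_mem (r (nmG m (by cases b <;> decide +kernel))) h4))
  refine ⟨x, hx, ?_⟩
  rw [mem_bot, mul_inv_eq_one, commutatorElement_def] at c
  exact mul_right_cancel c

end CH

open CH in
theorem Md.ok (m : Md S el) (pS : IsPGroup 3 S) : Ok S el := by
  have t := m.top pS
  refine
    { wA := wA m pS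
      eaA := eaA m
      sA := sA m pS
      cA := t ▸ (m.ceQ (H := LS) (A := [6561, 2187, 243]) (B := LA) (L := LA) (by decide +kernel)).le
      s3 := fun s hs => pw m (H := LS) (A := [6561, 2187, 243]) (by decide +kernel) s (t.ge hs)
      zS := zS m pS
      nS1 := nS1 m pS
      nS2 := nS2 m pS
      nS3 := nS3 m pS
      phS := t ▸ phq m pS (H := LS) (A := [6561, 2187, 729])
        (Q := [(6561, 2187), (6561, 81), (6561, 9), (2187, 729), (2187, 81), (6561, 3)]) (by decide +kernel)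
        (by decide +kernel)
      ph1 := phq m pS (A := [2187, 729, 243])
        (Q := [(2187, 729), (2187, 81), (2187, 27), (729, 243), (243, 27)]) (by decide +kernel)
        (by decide +kernel)
      ph2 := phq m pS (A := [6561, 729, 243, 81, 9]) (Q := [(6561, 81), (6561, 9), (6561, 3)])
        (by decide +kernel) (by decide +kernel)
      ph3 := phq m pS (A := [6561, 2187, 81]) (Q := [(6561, 2187), (6561, 81), (6561, 9), (2187, 81), (6561, 3)])
        (by decide +kernel) (by decide +kernel)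
      ph4 := fun b => phq m pS (A := [rr b, 729, 9]) (Q := [(rr b, 729), (rr b, 81), (rr b, 27), (rr b, 9)])
        (by cases b <;> decide +kernel) (by cases b <;> decide +kernel)
      phR := fun b => phq m pS (A := [rr b, 729, 243])
        (Q := [(rr b, 729), (rr b, 81), (rr b, 27), (rr b, 9), (729, 243)])
        (by cases b <;> decide +kernel) (by cases b <;> decide +kernel)
      z1 := z1 m
      z2 := m.ceQ (A := [6561, 729, 243, 81, 27, 9, 3]) (by decide +kernel)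
      z3 := z3 m
      n3V := n3V m pS
      nVW := ?_
      nP := nP m pS
      nR := nR m pS
      sR := fun b => t ▸ nmG m (A := LS) (by cases b <;> decide +kernel)
      n4 := fun b => t ▸ m.nmQ pS (H := LS) (A := [2187]) (by cases b <;> decide +kernel)
      c4 := fun b _ ha => c4 m pS b ha }
  rw [← m.cmQ0 (A := LV) (B := LV) (C := LW) (Q := [(2187, 81), (2187, 27), (243, 27)]) (by decide +kernel)]
  exact norm_comm le_rfl le_rfl

theorem Ok.nA (o : Ok S el) (h : G el LA ≤ E) (h' : E ≤ S) : 𝐍(E) ≤ 𝐍(G el LA) :=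
  fun g hg => o.wA g ((cn_le h hg).trans h')

end H18.CO
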