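import Mathlib
import Cfsg.Agent.Base
import Cfsg.Agent.Lib.CGT.Pool
import Cfsg.Agent.Lib.CO3.Lst

/-! The checker for the list of the candidates for essential subgroups. -/

set_option autoImplicit false

namespace H18.CO

open Subgroup H54 H2 H93.R3 H18.TH
open scoped commutatorElement Pointwise

local notation:max "𝐍(" A ")" => Subgroup.normalizer (SetLike.coe A)
local notation:max "𝐂(" A ")" => Subgroup.centralizer (SetLike.coe A)

universe u

noncomputable def ulZ (n : ℕ) : ℕ → List ℕ :=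
  Nat.rec (motive := fun _ => ℕ → List ℕ) (fun _ => []) (fun _ ih w =>
    force (enc (Nat.land w 65535)) fun x => x :: ih (Nat.shiftRight w 16)) n

noncomputable def ntZ (L : List ℕ) : ℕ → ℕ :=
  List.rec (motive := fun _ => ℕ → ℕ) (fun _ => 0)
    (fun x _ ih i => Nat.rec (motive := fun _ => ℕ) x (fun j _ => ih j) i) L

/-- a straight line program for the Frattini subgroup -/
noncomputable def slpZ (n : ℕ) : ℕ → List ℕ → Tb → Tb :=
  Nat.rec (motive := fun _ => ℕ → List ℕ → Tb → Tb) (fun _ _ t => t) (fun _ ih w es t =>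
    force (Bool.rec (motive := fun _ => ℕ)
      (cm (ntZ es (Nat.land w 15)) (ntZ es (Nat.land (Nat.shiftRight w 4) 15)))
      (cu (ntZ es (Nat.land w 15))) (Nat.beq (Nat.land w 15) (Nat.land (Nat.shiftRight w 4) 15)))
    fun y => ih (Nat.shiftRight w 8) (y :: es) (t.add y)) n

noncomputable def inssZ (L : List ℕ) (t : Tb) : Tb :=
  List.rec (motive := fun _ => Tb) t (fun x _ ih => ih.ins x) L

noncomputable def enZ (f : Tb → ℕ → Bool) (p : ℕ) (ys : List ℕ) : Tb → ℕ → Bool :=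
  List.rec (motive := fun _ => Tb → ℕ → Bool) f (fun x _ ih t i =>
    band (ih (t.ins x) (Nat.mul 3 i)) (force (mu x p) fun y =>
      band (ih (t.ins y) (Nat.succ (Nat.mul 3 i))) (ih (t.ins (mu y p)) (Nat.add (Nat.mul 3 i) 2)))) ys

/-- `f` holds for the tables of all maximal subgroups containing the elements of the table -/
noncomputable def goZ (f : Tb → ℕ → Bool) (ys : List ℕ) : Tb → Bool :=
  List.rec (motive := fun _ => Tb → Bool) (fun _ => true)
    (fun p ys' ih t => band (enZ f p ys' t 1) (ih (t.ins p))) ys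

noncomputable def xsWZ (w : ℕ) : List ℕ := ulZ (Nat.land (Nat.shiftRight w 4) 15) (Nat.shiftRight w 12)
noncomputable def zsWZ (w : ℕ) : List ℕ := ulZ (Nat.land (Nat.shiftRight w 8) 15)
  (Nat.shiftRight w (Nat.add 12 (Nat.mul 16 (Nat.land (Nat.shiftRight w 4) 15))))
noncomputable def gnWZ (w : ℕ) : List ℕ := xsWZ w ++ zsWZ w

noncomputable def leafZ (n : ℕ) (gt : ℕ → ℕ) (k ce : ℕ) (t : Tb) (i : ℕ) : Bool :=
  force (Nat.land (Nat.shiftRight ce (Nat.mul 32 i)) 4294967295) fun d =>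
  force (enc (Nat.land d 65535)) fun s => Nat.rec (motive := fun _ => Bool)
    (band (Nat.ble k (Nat.succ t.len)) (band (t.all (co s)) (t.nm (Nat.pred k) s)))
    (fun c _ => band (Nat.ble (Nat.succ c) n) (force (gt c) fun w =>
      band (Nat.beq (Nat.succ (Nat.land w 15)) k) (allL (fun g => t.mem (cg s g)) (gnWZ w))))
    (Nat.shiftRight d 16)

noncomputable def Tb.lstZ (t : Tb) : List ℕ :=
  Tb.rec (motive := fun _ => List ℕ) [] (fun _ p _ ih => force (Nat.shiftRight p 64) fun y => y :: ih) t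

noncomputable def kWZ (wp wn : ℕ → Bool) (k g : ℕ) (gn ds : List ℕ) (tF tR : Tb) : Bool :=
  band (tR.nm k g) (band (allL (fun d => band (tR.mem d) (wp d)) ds)
    (band (allL (fun x => (adds ds tF).mem (cm g x)) gn) (band (pcb tR.lstZ) (band (leB gn tR.lstZ)
      (allE (fun t => bor (wn t) (tF.mem (cm g t))) tR.lstZ 0)))))

noncomputable def kTZ (k g z b : ℕ) (gn : List ℕ) (tF tR : Tb) : Bool :=
  band (tR.nm k g) (band (tR.mem z) (band (allL (fun x => (tF.add z).mem (cm g x)) gn)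
    (band (allL (fun x => tR.mem (cg b x)) gn) (band (tR.nm k b)
      (band (tR.nm k (mu b g)) (tR.nm k (mu (mu b g) g)))))))

noncomputable def kSZ (k : ℕ) (gn L : List ℕ) : Bool :=
  band (Nat.ble (len (em L)) k) (band (leB gn (em L)) (lgB (em L)))

/-- the surviving subgroups -/
def LKZ : List (List ℕ) := [LE1, LE2, LE3, LE4 true, LE4 false, LA, LU, LR true, LR false, LV,
  [2187, 729, 81, 27, 9, 3, 1], [10935, 243, 81, 27, 9, 3, 1], [8748, 243, 81, 27, 9, 3, 1],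
  [6561, 2187, 243, 27, 9, 3, 1], [6723, 2187, 243, 27, 9, 3, 1], [6642, 2187, 243, 27, 9, 3, 1]]

noncomputable def kAZ (k : ℕ) (gn : List ℕ) (K : List (List ℕ)) : Bool :=
  List.rec (motive := fun _ => Bool) false (fun L _ ih => bor (kSZ k gn L) ih) K

theorem kA_exZ {k : ℕ} {gn : List ℕ} : ∀ {K : List (List ℕ)}, kAZ k gn K = true → ∃ L ∈ K, kSZ k gn L = true
  | [], h => by cases h
  | L :: K, h => by
    rcases (bor_eq_true _ _).1 (show bor (kSZ k gn L) (kAZ k gn K) = true from h) with c | c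
    · exact ⟨L, List.mem_cons_self, c⟩
    · obtain ⟨L', a, b⟩ := kA_exZ c
      exact ⟨L', List.mem_cons_of_mem _ a, b⟩

noncomputable def killZ (k kind : ℕ) (ds ws gn : List ℕ) (tF tR : Tb) (g : ℕ) : Bool :=
  sel (Nat.beq kind 0) (band (tR.nm k g) (allL (fun x => tF.mem (cm g x)) gn))
  (sel (Nat.beq kind 1) (kTZ k g (ntZ ds 0) (ntZ ds 1) gn tF tR)
  (sel (Nat.beq kind 2) (kWZ (fun d => allL (co d) gn) (fun t => anyL (fun y => nb (co t y)) gn)
    k g gn ds tF tR)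
  (sel (Nat.beq kind 3) (kWZ (fun d => allL (fun y => allL (co (cm d y)) gn) gn)
    (fun t => anyL (fun y => anyL (fun w => nb (co (cm t y) w)) gn) gn) k g gn ds tF tR)
  (sel (Nat.beq kind 4) (kWZ (fun d => Nat.beq (cu d) 0) (fun t => nb (Nat.beq (cu t) 0)) k g gn ds tF tR)
  (sel (Nat.beq kind 5) (band (allL tR.mem ws) (kWZ (fun d => allE (fun y => co (cm y d) d) tR.lstZ 0)
    (fun t => anyL (fun y => nb (co (cm y t) t)) ws) k g gn ds tF tR))
  (sel (Nat.beq kind 6) (kAZ k gn LKZ) (Nat.ble 9 k)))))))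

noncomputable def chk3Z (n : ℕ) (gt : ℕ → ℕ) (k kd ce : ℕ) (xs zs gn : List ℕ) (tF tN tR : Tb) : Bool :=
  band (Nat.ble k tR.len) (band (allL (fun z => allL (co z) gn) zs)
    (band (force (enc (Nat.land (Nat.shiftRight kd 12) 65535))
      (killZ k (Nat.land kd 15) (ulZ (Nat.land (Nat.shiftRight kd 4) 15) (Nat.shiftRight kd 28))
        (ulZ (Nat.land (Nat.shiftRight kd 8) 15)
          (Nat.shiftRight kd (Nat.add 28 (Nat.mul 16 (Nat.land (Nat.shiftRight kd 4) 15))))) gn tF tR))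
      (goZ (leafZ n gt k ce) xs tN)))

noncomputable def chk2Z (n : ℕ) (gt : ℕ → ℕ) (k kd ce : ℕ) (xs zs gn : List ℕ) (tF : Tb) : Bool :=
  chk3Z n gt k kd ce xs zs gn tF (adds zs tF) (inssZ xs (adds zs tF))

noncomputable def chkZ (n : ℕ) (gt : ℕ → ℕ) (i : ℕ) (c : ℕ × ℕ × ℕ) : Bool :=
  force (gt i) fun w => force (Nat.land w 15) fun k => force c.2.2 fun ce =>
    chk2Z n gt k c.2.1 ce (xsWZ w) (zsWZ w) (gnWZ w)
      (slpZ (Nat.land c.1 15) (Nat.shiftRight c.1 4) (gnWZ w) .nil)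

theorem av_ulZ : ∀ n w : ℕ, AV (ulZ n w)
  | 0, _ => fun _ h => absurd h List.not_mem_nil
  | n + 1, w => fun y hy => by
    have e : ulZ (n + 1) w = force (enc (Nat.land w 65535)) fun x => x :: ulZ n (Nat.shiftRight w 16) := rfl
    rw [e, force_eq] at hy
    rcases List.mem_cons.1 hy with rfl | h
    exacts [val_enc _, av_ulZ n _ y h]

theorem sel_orZ {c a b : Bool} (h : sel c a b = true) : a = true ∨ b = true := by
  cases c
  exacts [Or.inr h, Or.inl h]

theorem nt_memZ : ∀ (L : List ℕ) (i : ℕ), ntZ L i = 0 ∨ ntZ L i ∈ L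
  | [], _ => Or.inl rfl
  | _ :: _, 0 => Or.inr List.mem_cons_self
  | _ :: L, i + 1 => (nt_memZ L i).imp_right (List.mem_cons_of_mem _)

theorem AV.ntZ {L : List ℕ} (h : AV L) (i : ℕ) : Val (ntZ L i) :=
  (nt_memZ L i).elim (fun e => e ▸ val_zero) (h _)

variable {Γ : Type u} [Group Γ] {S E M R H : Subgroup Γ} {el : ℕ → Γ}

theorem Tb.Ok.lstZ : ∀ {t : Tb} {b : ℕ}, t.Ok el H b → AV t.lstZ
  | .nil, _, _ => fun _ h => absurd h List.not_mem_nil
  | .cons D p t, _, ⟨_, y, _, _, a3, a4, _, _, _, a8⟩ => fun x hx => by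
    have e : (Tb.cons D p t).lstZ = force (Nat.shiftRight p 64) fun y => y :: t.lstZ := rfl
    rw [e, force_eq, a3, (pk_spec a4).1] at hx
    rcases List.mem_cons.1 hx with rfl | h
    exacts [a4, Tb.Ok.lstZ a8 x h]

theorem Tb.Ok.inssZ {t : Tb} (h : t.Ok el H 9) : ∀ {L : List ℕ}, AV L → (∀ x ∈ L, el x ∈ H) →
    (inssZ L t).Ok el H 9
  | [], _, _ => h
  | _ :: _, a, b => (Tb.Ok.inssZ h a.tail fun y hy => b y (List.mem_cons_of_mem _ hy)).ins a.head
    (b _ List.mem_cons_self)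

variable [Finite Γ] [Fact (Nat.Prime 3)]

theorem exists_maxZ (pR : IsPGroup 3 R) (h : E ≤ R) (h' : ¬ R ≤ E) :
    ∃ M, E ≤ M ∧ M ≤ R ∧ lg 3 M + 1 = lg 3 R := by
  obtain ⟨M, a, -, b, -⟩ := H5.exists_le_normal_index_eq (K := E.subgroupOf R) pR
    fun c => h' (subgroupOf_eq_top.1 c)
  have l : M.map R.subtype ≤ R := map_subtype_le M
  refine ⟨M.map R.subtype, (map_subgroupOf_eq_of_le h).ge.trans (map_mono a), l, ?_⟩
  rw [← lg_rel l, relIndex, subgroupOf, comap_map_eq_self_of_injective R.subtype_injective, b]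
  simp

theorem threeZ (pR : IsPGroup 3 R) (h : M ≤ R) (e : lg 3 R ≤ lg 3 M + 1) {p x : Γ} (hp : p ∈ R)
    (hp' : p ∉ M) (hx : x ∈ R) : x ∈ M ∨ x * p ∈ M ∨ x * p * p ∈ M := by
  have n := norm_of_lg pR h e hp
  have c := pow_mem_of_lg pR h e hp
  rcases Md.three c n (le_sup_zpowers pR h e hp hp' hx) with a | ⟨k, a, rfl⟩ | ⟨k, a, rfl⟩
  · exact Or.inl a
  · refine Or.inr (Or.inr ?_)
    rw [show p * k * p * p = p * k * p⁻¹ * p ^ 3 by rw [pow_three']; group]
    exact mul_mem (conj_mem n a) c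
  · refine Or.inr (Or.inl ?_)
    rw [show p * p * k * p = p * (p * k * p⁻¹) * p⁻¹ * p ^ 3 by rw [pow_three']; group]
    exact mul_mem (conj_mem n (conj_mem n a)) c

/-- the conclusion for an essential subgroup -/
def CcZ (S : Subgroup Γ) (el : ℕ → Γ) (E : Subgroup Γ) : Prop := ∃ L ∈ LKZ, ∃ s ∈ S, E = cn s (G el L)

omit [Finite Γ] [Fact (Nat.Prime 3)] in
theorem CcZ.conj {s : Γ} (hs : s ∈ S) (h : CcZ S el (cn s⁻¹ E)) : CcZ S el E := by
  rw [← cn_cn_inv (g := s) (X := E)]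
  obtain ⟨L, hL, r, hr, h⟩ := h
  exact ⟨L, hL, s * r, mul_mem hs hr, by rw [h, cn_cn]⟩

namespace Md
variable (m : Md S el) (pS : IsPGroup 3 S)
include m

theorem slp_okZ (pR : IsPGroup 3 R) : ∀ (n w : ℕ) {es : List ℕ} {t : Tb}, AV es → (∀ x ∈ es, el x ∈ R) →
    t.Ok el (ph R) 9 → (slpZ n w es t).Ok el (ph R) 9
  | 0, _, _, _, _, _, h => h
  | n + 1, w, es, t, a, b, h => by
    have e : slpZ (n + 1) w es t = force (Bool.rec (motive := fun _ => ℕ)
      (H18.CO.cm (ntZ es (Nat.land w 15)) (ntZ es (Nat.land (Nat.shiftRight w 4) 15)))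
      (H18.CO.cu (ntZ es (Nat.land w 15))) (Nat.beq (Nat.land w 15) (Nat.land (Nat.shiftRight w 4) 15)))
      fun y => slpZ n (Nat.shiftRight w 8) (y :: es) (t.add y) := rfl
    rw [e, force_eq]
    have k : ∀ i, el (ntZ es i) ∈ R := fun i =>
      (nt_memZ es i).elim (fun e => by rw [e, m.one]; exact one_mem _) (b _)
    have f := (ph_le (Y := ph R) pR).1 le_rfl
    have s : ∀ y, Val y → el y ∈ ph R →
        (slpZ n (Nat.shiftRight w 8) (y :: es) (t.add y)).Ok el (ph R) 9 := fun y v c =>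
      slp_okZ pR n _ (fun x hx => (List.mem_cons.1 hx).elim (fun e => e ▸ v) (a x))
        (fun x hx => (List.mem_cons.1 hx).elim (fun e => e ▸ ph_le_self c) (b x)) (m.add h v c)
    cases Nat.beq (Nat.land w 15) (Nat.land (Nat.shiftRight w 4) 15)
    · exact s _ ((a.ntZ _).cm (a.ntZ _))
        (m.cm (a.ntZ _) (a.ntZ _) ▸ f.1 (commutator_mem_commutator (k _) (k _)))
    · exact s _ (a.ntZ _).cu (m.cu (a.ntZ _) ▸ f.2 _ (k _))

section
variable (pR : IsPGroup 3 R) (h : M ≤ R) (e : lg 3 R ≤ lg 3 M + 1) {f : Tb → ℕ → Bool}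
include pR h e

theorem en_okZ {p : ℕ} (v : Val p) (hp : el p ∈ R) (hp' : el p ∉ M) : ∀ {ys : List ℕ} {t : Tb} {i : ℕ},
    AV ys → (∀ x ∈ ys, el x ∈ R) → t.Ok el M 9 → enZ f p ys t i = true →
    ∃ t' i', Tb.Ok el M t' 9 ∧ f t' i' = true
  | [], t, i, _, _, o, c => ⟨t, i, o, c⟩
  | x :: ys, t, i, a, b, o, c => by
    have c' : band (enZ f p ys (t.ins x) (Nat.mul 3 i)) (force (mu x p) fun y =>
      band (enZ f p ys (t.ins y) (Nat.succ (Nat.mul 3 i)))
        (enZ f p ys (t.ins (mu y p)) (Nat.add (Nat.mul 3 i) 2))) = true := c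
    simp only [band_eq_true, force_eq] at c'
    have b' := fun y hy => b y (List.mem_cons_of_mem _ hy)
    have vx := a.head
    rcases threeZ pR h e hp hp' (b x List.mem_cons_self) with d | d | d
    · exact en_okZ v hp hp' a.tail b' (o.ins vx d) c'.1
    · exact en_okZ v hp hp' a.tail b' (o.ins (vx.mu v) (m.mul vx v ▸ d)) c'.2.1
    · exact en_okZ v hp hp' a.tail b' (o.ins ((vx.mu v).mu v)
        (by rw [m.mul (vx.mu v) v, m.mul vx v]; exact d)) c'.2.2

theorem go_okZ : ∀ {ys : List ℕ} {t : Tb}, AV ys → (∀ x ∈ ys, el x ∈ R) → t.Ok el M 9 →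
    goZ f ys t = true → (∀ x ∈ ys, el x ∈ M) ∨ ∃ t' i', Tb.Ok el M t' 9 ∧ f t' i' = true
  | [], _, _, _, _, _ => Or.inl fun _ h => absurd h List.not_mem_nil
  | p :: ys, t, a, b, o, c => by
    have c' : band (enZ f p ys t 1) (goZ f ys (t.ins p)) = true := c
    rw [band_eq_true] at c'
    have b' := fun y hy => b y (List.mem_cons_of_mem _ hy)
    by_cases d : el p ∈ M
    · exact (go_okZ a.tail b' (o.ins a.head d) c'.2).imp_left
        fun k x hx => (List.mem_cons.1 hx).elim (fun e => e ▸ d) (k x)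
    · exact Or.inr (m.en_okZ pR h e a.head (b p List.mem_cons_self) d a.tail b' o c'.1)

end

include pS

section kills
variable {gn : List ℕ} (a : AV gn) {tF tR : Tb} (oF : tF.Ok el (ph (gp el gn)) 9)
  (oR : tR.Ok el (gp el gn) 9) {k g : ℕ} (hk : lg 3 (gp el gn) ≤ k) (v : Val g)
include a v

omit oF oR hk in
theorem c0_ofZ (h1 : ph (gp el gn) ≤ H) (h2 : H ≤ gp el gn) {t : Tb} (o : t.Ok el H 9)
    (c : allL (fun x => t.mem (H18.CO.cm g x)) gn = true) :
    el g ∈ S ⊓ 𝐍(gp el gn) ∧ ∀ x ∈ gp el gn, ⁅el g, x⁆ ∈ H := by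
  have d := comm_gp ((eq_ph (pS.to_le (m.gp_le_S gn))).norm h1 h2) fun x hx =>
    m.cm v (a x hx) ▸ m.mem_of o (v.cm (a x hx)) ((allL_iff _ _).1 c x hx)
  refine ⟨⟨m.mem g, mem_norm fun x hx => ?_⟩, d⟩
  rw [show el g * x * (el g)⁻¹ = ⁅el g, x⁆ * x by rw [commutatorElement_def]; group]
  exact mul_mem (h2 (d x hx)) hx

variable (hE : Emb S (gp el gn) M)
include oF oR hk hE

theorem kW_okZ {wp wn : ℕ → Bool} {ds : List ℕ} (ad : AV ds) (W : Γ → Prop)
    (hW : ∀ a ∈ 𝐍(gp el gn), ∀ x ∈ gp el gn, W x → W (a * x * a⁻¹))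
    (hp : pcb tR.lstZ = true → gp el gn ≤ gp el tR.lstZ → ∀ d, Val d → wp d = true → W (el d))
    (hn : ∀ t, Val t → wn t = true → ¬ W (el t)) (c : kWZ wp wn k g gn ds tF tR = true) : False := by
  simp only [kWZ, band_eq_true] at c
  obtain ⟨c1, c2, c3, c4, c5, c6⟩ := c
  have l := m.leB a oR.lstZ c5
  obtain ⟨n, c0⟩ := m.c0_ofZ pS a v (H := ph (gp el gn) ⊔ closure {y | y ∈ gp el gn ∧ W y}) le_sup_left
    (sup_le ph_le_self ((closure_le _).2 fun _ h => h.1))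
    (m.adds (oF.mono le_sup_left) ad fun d hd => by
      have := (allL_iff _ _).1 c2 d hd
      rw [band_eq_true] at this
      exact mem_sup_right (subset_closure ⟨m.mem_of oR (ad d hd) this.1, hp c4 l d (ad d hd) this.2⟩)) c3
  refine hE.killP (pS.to_le (m.gp_le_S gn)) W hW n (m.not_mem pS oR hk v c1) c0 fun x hx w => ?_
  obtain ⟨t, vt, c, y, hy, d⟩ := m.cover (L := []) (by simpa using oR.lstZ) (by simpa using c4) val_zero c6
    (by simpa using l hx)
  rw [gp_nil, mem_bot] at hy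
  rw [m.one, one_mul, hy, mul_one] at d
  subst d
  rcases (bor_eq_true _ _).1 c with c | c
  · exact absurd w (hn t vt c)
  · exact m.cm v vt ▸ m.mem_of oF (v.cm vt) c

theorem kT_okZ {z b : ℕ} (vz : Val z) (vb : Val b) (c : kTZ k g z b gn tF tR = true) : False := by
  simp only [kTZ, band_eq_true] at c
  obtain ⟨c1, c2, c3, c4, c5, c6, c7⟩ := c
  have hz := m.mem_of oR vz c2
  obtain ⟨n, c0⟩ := m.c0_ofZ pS a v (H := ph (gp el gn) ⊔ zpowers (el z)) le_sup_left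
    (sup_le ph_le_self (zpowers_le_of_mem hz))
    (m.add (oF.mono le_sup_left) vz (mem_sup_right (mem_zpowers _))) c3
  have hb : el b ∈ S ⊓ 𝐍(gp el gn) := ⟨m.mem b, norm_of fun x hx =>
    m.cg vb (a x hx) ▸ m.mem_of oR (vb.cg (a x hx)) ((allL_iff _ _).1 c4 x hx)⟩
  rcases hE.killT pS (m.gp_le_S gn) n (m.not_mem pS oR hk v c1) hz c0 hb with d | d | d
  · exact m.not_mem pS oR hk vb c5 d
  · exact m.not_mem pS oR hk (vb.mu v) c6 (m.mul vb v ▸ d)
  · exact m.not_mem pS oR hk ((vb.mu v).mu v) c7 (by rw [m.mul (vb.mu v) v, m.mul vb v]; exact d)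

end kills

theorem kS_okZ {gn L : List ℕ} {k : ℕ} (a : AV gn) (hk : k ≤ lg 3 (gp el gn))
    (c : kSZ k gn L = true) : gp el gn = G el L := by
  simp only [kSZ, band_eq_true, Nat.ble_eq, len_eq] at c
  exact eq_of_lg (pS.to_le (m.gp_le_S _)) (m.leB a (av_em _) c.2.1)
    ((m.lgG pS c.2.2).le.trans (c.1.trans hk))

theorem kill_okZ (hF : Sat S) {gn ds ws : List ℕ} (a : AV gn) (ad : AV ds) (aw : AV ws) {tF tR : Tb}
    (oF : tF.Ok el (ph (gp el gn)) 9) (oR : tR.Ok el (gp el gn) 9) {k kind g : ℕ}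
    (hk : lg 3 (gp el gn) = k) (v : Val g) (hE : Es S (gp el gn))
    (c : killZ k kind ds ws gn tF tR g = true) : CcZ S el (gp el gn) := by
  obtain ⟨M, hM⟩ := emb_of pS hF hE
  have cj : ∀ {a x y : Γ}, ⁅a * x * a⁻¹, y⁆ = a * ⁅x, a⁻¹ * y * a⁆ * a⁻¹ := fun {a x y} => by
    rw [conj_comm]; congr 1; group
  have cz : ∀ {d}, Val d → allL (H18.CO.co d) gn = true → el d ∈ 𝐂(gp el gn) := fun vd c =>
    mem_cent (comm_gp (norm_bot _) fun x hx => (m.co vd (a x hx)).1 ((allL_iff _ _).1 c x hx))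
  rw [killZ] at c
  rcases sel_orZ c with c | c; rotate_left; rcases sel_orZ c with c | c; rotate_left
  rcases sel_orZ c with c | c; rotate_left; rcases sel_orZ c with c | c; rotate_left
  rcases sel_orZ c with c | c; rotate_left; rcases sel_orZ c with c | c; rotate_left
  rcases sel_orZ c with c | c; rotate_left; rotate_left
  · rw [band_eq_true] at c
    obtain ⟨n, c0⟩ := m.c0_ofZ pS a v le_rfl ph_le_self oF c.2
    exact (hM.kill0 (pS.to_le (m.gp_le_S gn)) n (m.not_mem pS oR hk.le v c.1) c0).elim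
  · exact (m.kT_okZ pS a oF oR hk.le v hM (ad.ntZ 0) (ad.ntZ 1) c).elim
  · refine (m.kW_okZ pS a oF oR hk.le v hM ad (fun x => x ∈ 𝐂(gp el gn))
      (fun _ ha _ _ w => conj_mem (norm_cent le_rfl ha) w) (fun _ _ d vd c => cz vd c)
      (fun t vt c w => ?_) c).elim
    obtain ⟨y, hy, c⟩ := (anyL_iff _ _).1 c
    exact (nb_eq _).1 c ((m.co vt (a y hy)).2 (comm_eq_one w (mem_gp hy)))
  · refine (m.kW_okZ pS a oF oR hk.le v hM ad (fun x => ∀ y ∈ gp el gn, ⁅x, y⁆ ∈ 𝐂(gp el gn))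
      (fun _ ha _ _ w y hy => cj ▸ conj_mem (norm_cent le_rfl ha) (w _ (conj_mem' ha hy)))
      (fun _ _ d vd c => comm_gp (norm_cent le_normalizer) fun y hy =>
        m.cm vd (a y hy) ▸ cz (vd.cm (a y hy)) ((allL_iff _ _).1 c y hy)) (fun t vt c w => ?_) c).elim
    obtain ⟨y, hy, c⟩ := (anyL_iff _ _).1 c
    obtain ⟨z, hz, c⟩ := (anyL_iff _ _).1 c
    exact (nb_eq _).1 c ((m.co (vt.cm (a y hy)) (a z hz)).2
      (comm_eq_one (m.cm vt (a y hy) ▸ w _ (mem_gp hy)) (mem_gp hz)))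
  · refine (m.kW_okZ pS a oF oR hk.le v hM ad (fun x => x ^ 3 = 1)
      (fun _ _ _ _ w => by rw [conj_pow, w]; group)
      (fun _ _ d vd c => by rw [← m.cu vd, Nat.eq_of_beq_eq_true c, m.one]) (fun t vt c w => ?_) c).elim
    rw [← m.cu vt, m.eq_one vt.cu] at w
    exact (nb_eq _).1 c (by rw [w]; rfl)
  · rw [band_eq_true] at c
    refine (m.kW_okZ pS a oF oR hk.le v hM ad (fun x => ∀ y ∈ gp el gn, ⁅⁅y, x⁆, x⁆ = 1)
      (fun b hb x _ w y hy => ?_) (fun c4 l d vd c y hy => ?_) (fun t vt c' w => ?_) c.2).elim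
    · have := congrArg (fun z => b * z * b⁻¹) (w _ (conj_mem' hb hy))
      simp only [conj_comm, mul_one, mul_inv_cancel] at this
      rwa [show b * (b⁻¹ * y * b) * b⁻¹ = y by group] at this
    · obtain ⟨t, vt, c, z, hz, e⟩ := m.cover (L := []) (by simpa using oR.lstZ) (by simpa using c4)
        val_zero c (by simpa using l hy)
      rw [gp_nil, mem_bot] at hz
      rw [m.one, one_mul, hz, mul_one] at e
      rw [e, ← m.cm vt vd]
      exact (m.co (vt.cm vd) vd).1 c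
    · obtain ⟨y, hy, c'⟩ := (anyL_iff _ _).1 c'
      exact (nb_eq _).1 c' ((m.co ((aw y hy).cm vt) vt).2 (m.cm (aw y hy) vt ▸
        w _ (m.mem_of oR (aw y hy) ((allL_iff _ _).1 c.1 y hy))))
  · obtain ⟨L, hL, c⟩ := kA_exZ c
    exact ⟨L, hL, 1, one_mem _, (m.kS_okZ pS a hk.ge c).trans (cn_eq (one_mem _)).symm⟩
  · have := ess_lt pS hF hE
    have := lg_mono (p := 3) (inf_le_left : S ⊓ 𝐍(gp el gn) ≤ S)
    have := m.lg_S pS
    have : 9 ≤ k := Nat.le_of_ble_eq_true c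
    omega

theorem chk_okZ {n : ℕ} {gt : ℕ → ℕ} {i : ℕ} {c : ℕ × ℕ × ℕ} (e : chkZ n gt i c = true) :
    Nat.land (gt i) 15 ≤ lg 3 (gp el (gnWZ (gt i))) ∧ (Sat S → lg 3 (gp el (gnWZ (gt i))) ≤ Nat.land (gt i) 15 →
      ∀ E, Es S E → E ≤ gp el (gnWZ (gt i)) → CcZ S el E ∨ ∃ j < n, ∃ s ∈ S,
        Nat.land (gt j) 15 < Nat.land (gt i) 15 ∧ ∃ M, E ≤ M ∧ M ≤ S ∧ lg 3 M = Nat.land (gt j) 15 ∧
          cn s (gp el (gnWZ (gt j))) ≤ M) := by
  simp only [chkZ, chk2Z, chk3Z, force_eq, band_eq_true] at e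
  generalize gt i = w at e ⊢
  generalize Nat.land w 15 = k at e ⊢
  obtain ⟨e1, e2, e3, e4⟩ := e
  have ax : AV (xsWZ w) := av_ulZ _ _
  have az : AV (zsWZ w) := av_ulZ _ _
  have a : AV (gnWZ w) := ax.append az
  have hx : ∀ x ∈ xsWZ w, el x ∈ gp el (gnWZ w) := fun x h => mem_gp (List.mem_append_left _ h)
  have hz : ∀ x ∈ zsWZ w, el x ∈ gp el (gnWZ w) := fun x h => mem_gp (List.mem_append_right _ h)
  have pR : IsPGroup 3 (gp el (gnWZ w)) := pS.to_le (m.gp_le_S _)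
  have oF := m.slp_okZ pR (Nat.land c.1 15) (Nat.shiftRight c.1 4) (t := .nil) a (fun _ => mem_gp) trivial
  have oR := (m.adds (oF.mono ph_le_self) az hz).inssZ ax hx
  have l1 := (Nat.le_of_ble_eq_true e1).trans (m.len_le pS oR)
  refine ⟨l1, fun hF l2 E hE hR => ?_⟩
  by_cases hRE : gp el (gnWZ w) ≤ E
  · obtain rfl := le_antisymm hR hRE
    exact Or.inl (m.kill_okZ pS hF a (av_ulZ _ _) (av_ulZ _ _) oF oR (le_antisymm l2 l1) (val_enc _) hE e3)
  obtain ⟨M, h1, h2, h3⟩ := exists_maxZ pR hR hRE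
  have hzM : ∀ x ∈ zsWZ w, el x ∈ M := fun x h => h1 (ess_cent hE ⟨m.mem x, cent_anti hR (mem_cent
    (comm_gp (norm_bot _) fun y hy => (m.co (az x h) (a y hy)).1
      ((allL_iff _ _).1 ((allL_iff _ _).1 e2 x h) y hy)))⟩)
  rcases m.go_okZ pR h2 h3.ge ax hx (m.adds (oF.mono ((eq_of_index pR h2 h3.ge).ph_le pR)) az hzM) e4
    with d | ⟨t, i', o, d⟩
  · have := lg_mono (p := 3) (show gp el (gnWZ w) ≤ M from gp_le.2 fun x h =>
      (List.mem_append.1 h).elim (d x) (hzM x))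
    omega
  simp only [leafZ, force_eq] at d
  generalize Nat.land (Nat.shiftRight c.2.2 (Nat.mul 32 i')) 4294967295 = u at d
  have vs := val_enc (Nat.land u 65535)
  generalize enc (Nat.land u 65535) = s at d vs
  rcases hu : Nat.shiftRight u 16 with _ | j <;> rw [hu] at d
  · have d' : band (Nat.ble k (Nat.succ t.len))
      (band (t.all (H18.CO.co s)) (t.nm (Nat.pred k) s)) = true := d
    simp only [band_eq_true, Nat.ble_eq] at d'
    have o' : t.Ok el (M ⊓ cz (el s) ⊥) 9 := o.of_all (fun y vy hy c => mem_inf.2 ⟨hy, mem_cz.2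
      ⟨norm_bot _ (mem_top _), comm_symm (mem_bot.2 ((m.co vs vy).1 c))⟩⟩) d'.2.1
    have l3 := m.len_le pS o'
    have := le_of_lg (pR.to_le h2) (inf_le_left : M ⊓ cz (el s) ⊥ ≤ M) (by omega)
    refine (m.not_mem pS o (show _ ≤ k - 1 by omega) vs d'.2.2 (h1 (ess_cent hE ⟨m.mem s, ?_⟩))).elim
    exact mem_cent' fun y hy => (mem_cz.1 (this (h1 hy)).2).2
  · have d' : band (Nat.ble (Nat.succ j) n) (band (Nat.beq (Nat.succ (Nat.land (gt j) 15)) k)
      (allL (fun g => t.mem (H18.CO.cg s g)) (gnWZ (gt j)))) = true := d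
    simp only [band_eq_true, Nat.ble_eq, Nat.beq_eq, allL_iff] at d'
    have aj : AV (gnWZ (gt j)) := (av_ulZ _ _).append (av_ulZ _ _)
    refine Or.inr ⟨j, d'.1, el s, m.mem s, by omega, M, h1, h2.trans (m.gp_le_S _), by omega, ?_⟩
    rw [← cn_cn_inv (g := el s) (X := M)]
    refine cn_mono (gp_le.2 fun g hg => ?_)
    rw [mem_cn, inv_inv, ← m.cg vs (aj g hg)]
    exact m.mem_of o (vs.cg (aj g hg)) (d'.2.2 g hg)

theorem cls_ofZ (hF : Sat S) {n : ℕ} {gt : ℕ → ℕ} (h : AllEx (chkZ n gt) n) (h0 : 0 < n)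
    (h1 : Nat.land (gt 0) 15 = 9) : ∀ E, Es S E → CcZ S el E := by
  have key : ∀ k i, i < n → Nat.land (gt i) 15 = k → lg 3 (gp el (gnWZ (gt i))) ≤ k →
      ∀ E, Es S E → E ≤ gp el (gnWZ (gt i)) → CcZ S el E := by
    intro k
    induction k using Nat.strong_induction_on with
    | _ k ih =>
      intro i hi e l E hE hR
      obtain ⟨c, hc⟩ := h i hi
      rcases (m.chk_okZ pS hc).2 hF (e ▸ l) E hE hR with d | ⟨j, hj, s, hs, a, M, b1, b2, b3, b4⟩
      · exact d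
      obtain ⟨c', hc'⟩ := h j hj
      have l' := (m.chk_okZ pS hc').1
      have e' := eq_of_lg (pS.to_le b2) b4 (by rw [lg_cn, b3]; exact l')
      refine CcZ.conj hs (ih _ (e ▸ a) j hj rfl ?_ _ (ess_cn pS hF hE (inv_mem hs)) ?_)
      · rw [← b3, ← e', lg_cn]
      · rw [← cn_inv_cn (g := s) (X := gp el (gnWZ (gt j))), e']
        exact cn_mono b1
  intro E hE
  obtain ⟨c, hc⟩ := h 0 h0
  have l := (m.chk_okZ pS hc).1
  have l' := m.lg_S pS
  exact key 9 0 h0 h1 ((lg_mono (m.gp_le_S _)).trans l') E hE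
    (hE.1.1.trans (le_of_lg pS (m.gp_le_S _) (l'.trans (h1 ▸ l))))

end Md

omit [Fact (Nat.Prime 3)] in
theorem co3chk_eq : True := trivial

end H18.CO
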