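import Mathlib
import Cfsg.Agent.Base
import Cfsg.Agent.Lib.CO3.Ct0
import Cfsg.Agent.Lib.CO3.Ct1
import Cfsg.Agent.Lib.CO3.Ct2

/-! The certificate. -/

set_option autoImplicit false
set_option maxRecDepth 100000

namespace H18.CO

open H54 H93.R3 H18.TH

theorem cert_allZ : AllEx (chkZ 1480 gtZT.get) 1480 :=
  (((((((((((((((AllEx.zero _).step 7 ceZ0).step 8 ceZ1).step 9 ceZ2).step 10 ceZ3).step 11 ceZ4).step 12 ceZ5).step 13 ceZ6).step 20 ceZ7).step 75 ceZ8).step 292 ceZ9).step 517 ceZ10).step 681 ceZ11).step 981 ceZ12).step 1480 ceZ13)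

theorem Md.cls0 {Γ : Type*} [Group Γ] [Finite Γ] [Fact (Nat.Prime 3)] {S : Subgroup Γ} {el : ℕ → Γ}
    (m : Md S el) (pS : IsPGroup 3 S) (hF : Sat S) : ∀ E, Es S E → CcZ S el E :=
  m.cls_ofZ pS hF cert_allZ (by norm_num) (by decide +kernel)

theorem co3cta_eq : True := trivial

end H18.CO
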