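import Mathlib
import Cfsg.Agent.Base
import Cfsg.Agent.Lib.CO3.Defs

set_option autoImplicit false
set_option maxRecDepth 100000

namespace H18.CO

open Subgroup H54 H2 H90 H91 H93.R3 H18.TH Cfsg Cfsg.FusionSystem
open scoped commutatorElement Pointwise

local notation:max "𝐍(" A ")" => Subgroup.normalizer (SetLike.coe A)
local notation:max "𝐂(" A ")" => Subgroup.centralizer (SetLike.coe A)

universe u v

variable {G₀ : Type u} [Group G₀] [Finite G₀]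

def mX6 : Matrix (Fin 6) (Fin 6) (ZMod 3) :=
  !![1, 0, 0, 0, 0, 0; 0, 1, 0, 0, 0, 0; 0, 1, 1, 0, 0, 0; 0, 0, 0, 1, 0, 0; 0, 0, 0, 1, 1, 0; 0, 0, 0, 1, 2, 1]
def mY6 : Matrix (Fin 6) (Fin 6) (ZMod 3) :=
  !![1, 0, 0, 0, 0, 0; 1, 1, 0, 0, 0, 0; 0, 0, 1, 0, 0, 0; 1, 2, 0, 1, 0, 0; 0, 0, 1, 0, 1, 0; 0, 0, 0, 0, 0, 1]
def mX5 : Matrix (Fin 5) (Fin 5) (ZMod 3) :=
  !![1, 0, 0, 0, 0; 1, 1, 0, 0, 0; 0, 0, 1, 0, 0; 0, 0, 1, 1, 0; 0, 0, 1, 2, 1]
def mY5 : Matrix (Fin 5) (Fin 5) (ZMod 3) :=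
  !![1, 0, 0, 0, 0; 0, 1, 0, 0, 0; 1, 0, 1, 0, 0; 0, 2, 0, 1, 0; 0, 0, 0, 0, 1]

/-- a sum over free orbits -/
theorem KA.sum_free {H X A : Type*} [Group H] [Fintype H] [MulAction H X] [AddCommGroup A] (f : X → A)
    (hf : ∀ x, ∑ t : H, f (t • x) = 0) (s : Finset X) : (∀ x ∈ s, ∀ t : H, t • x ∈ s) →
    (∀ x ∈ s, ∀ t : H, t • x = x → t = 1) → ∑ x ∈ s, f x = 0 := by
  classical
  induction s using Finset.strongInduction with
  | H s ih =>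
    intro h1 h2
    rcases s.eq_empty_or_nonempty with rfl | ⟨x, hx⟩
    · rfl
    have ho : Finset.univ.image (fun t : H => t • x) ⊆ s := fun y hy => by
      obtain ⟨t, -, rfl⟩ := Finset.mem_image.1 hy
      exact h1 x hx t
    rw [← Finset.sum_sdiff ho, Finset.sum_image fun t _ u _ e => by
      have := h2 x hx (u⁻¹ * t) (by rw [mul_smul, show t • x = u • x from e, inv_smul_smul])
      exact (inv_mul_eq_one.1 this).symm, hf, add_zero]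
    refine ih _ (Finset.sdiff_ssubset ho ⟨x, Finset.mem_image.2 ⟨1, Finset.mem_univ _, one_smul _ _⟩⟩)
      (fun y hy t => ?_) fun y hy => h2 y (Finset.mem_sdiff.1 hy).1
    rw [Finset.mem_sdiff] at hy ⊢
    refine ⟨h1 y hy.1 t, fun k => hy.2 ?_⟩
    obtain ⟨u, -, e⟩ := Finset.mem_image.1 k
    exact Finset.mem_image.2 ⟨t⁻¹ * u, Finset.mem_univ _, by rw [mul_smul, e, inv_smul_smul]⟩

/-- the norm trick: `P` permutes the cosets of `M` other than `M` freely -/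
theorem nt {k : ℕ} (ρ : G₀ →* Matrix (Fin k) (Fin k) (ZMod 3)) {P M : Subgroup G₀} [Fintype P]
    (p3 : ∀ t ∈ P, t ≠ 1 → ∀ a, a⁻¹ * t * a ∈ M → a ∈ M) (hP : P ≤ M)
    (hn : ∀ B : Matrix (Fin k) (Fin k) (ZMod 3), ∑ t : P, ρ t * B * (ρ t).transpose = 0)
    {B : Matrix (Fin k) (Fin k) (ZMod 3)} (hB : ∀ g ∈ M, ρ g * B * (ρ g).transpose = B) (g : G₀) :
    ρ g * B * (ρ g).transpose = B := by
  classical
  have := Fintype.ofFinite (G₀ ⧸ M)
  have mul : ∀ a b : G₀, ρ (a * b) * B * (ρ (a * b)).transpose =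
      ρ a * (ρ b * B * (ρ b).transpose) * (ρ a).transpose := fun a b => by
    simp only [map_mul, Matrix.transpose_mul, Matrix.mul_assoc]
  let φ : G₀ ⧸ M → Matrix (Fin k) (Fin k) (ZMod 3) :=
    Quotient.lift (fun a => ρ a * B * (ρ a).transpose) fun a b e => by
      have := hB _ (QuotientGroup.leftRel_apply.1 e)
      rw [show b = a * (a⁻¹ * b) by group, mul, this]
  have hφ : ∀ (a : G₀) c, φ (a • c) = ρ a * φ c * (ρ a).transpose := fun a c => by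
    obtain ⟨b, rfl⟩ := QuotientGroup.mk_surjective c
    exact mul a b
  have h1 : φ ((1 : G₀) : G₀ ⧸ M) = B := hB 1 (one_mem M)
  have h0 : ∑ c ∈ Finset.univ.erase ((1 : G₀) : G₀ ⧸ M), φ c = 0 := by
    refine KA.sum_free (H := P) φ (fun c => ?_) _ (fun c hc t => ?_) fun c hc t e => ?_
    · rw [← hn (φ c)]
      exact Finset.sum_congr rfl fun t _ => hφ t c
    · obtain ⟨b, rfl⟩ := QuotientGroup.mk_surjective c
      rw [Finset.mem_erase] at hc ⊢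
      refine ⟨fun e => hc.1 (QuotientGroup.eq.2 ?_), Finset.mem_univ _⟩
      have e' := QuotientGroup.eq.1 (show (((t : G₀) * b : G₀) : G₀ ⧸ M) = (1 : G₀) from e)
      have := mul_mem e' (hP t.2)
      rwa [show ((t : G₀) * b)⁻¹ * 1 * t = b⁻¹ * 1 by group] at this
    · obtain ⟨b, rfl⟩ := QuotientGroup.mk_surjective c
      by_contra n
      have e' := QuotientGroup.eq.1 (show (b : G₀ ⧸ M) = ((t : G₀) * b : G₀) from e.symm)
      rw [← mul_assoc] at e'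
      refine (Finset.mem_erase.1 hc).1 (QuotientGroup.eq.2 ?_)
      rw [mul_one]
      exact inv_mem (p3 t t.2 (fun k => n (Subtype.ext k)) b e')
  have hs : ∑ c, φ c = B := by
    rw [← Finset.add_sum_erase _ _ (Finset.mem_univ ((1 : G₀) : G₀ ⧸ M)), h0, add_zero, h1]
  conv_lhs => rw [← hs]
  rw [Finset.mul_sum, Finset.sum_mul, ← hs]
  exact Fintype.sum_equiv (MulAction.toPerm g) _ _ fun c => (hφ g c).symm

omit [Finite G₀] in
theorem KA.mv {k : ℕ} (ρ : G₀ →* Matrix (Fin k) (Fin k) (ZMod 3)) (a b : G₀) (v : Fin k → ZMod 3) :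
    (ρ (a * b)).mulVec v = (ρ a).mulVec ((ρ b).mulVec v) := by rw [map_mul, Matrix.mulVec_mulVec]

theorem KA.mvi {k : ℕ} (ρ : G₀ →* Matrix (Fin k) (Fin k) (ZMod 3)) (a : G₀) (v : Fin k → ZMod 3) :
    (ρ a⁻¹).mulVec ((ρ a).mulVec v) = v := by rw [← KA.mv, inv_mul_cancel, map_one, Matrix.one_mulVec]

theorem KA.mvj {k : ℕ} (ρ : G₀ →* Matrix (Fin k) (Fin k) (ZMod 3)) (a : G₀) {v w : Fin k → ZMod 3}
    (h : (ρ a).mulVec v = (ρ a).mulVec w) : v = w := by rw [← KA.mvi ρ a v, h, KA.mvi]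

/-- counting: the translates of an `M`-orbit consist of regular vectors -/
theorem cnt {k : ℕ} (ρ : G₀ →* Matrix (Fin k) (Fin k) (ZMod 3)) {P M : Subgroup G₀}
    (p3 : ∀ t ∈ P, t ≠ 1 → ∀ a, a⁻¹ * t * a ∈ M → a ∈ M) (hP : P ≤ M) (hM : M ≠ ⊤) {z : Fin k → ZMod 3}
    (hz : ∀ g, (ρ g).mulVec z = z ∨ (ρ g).mulVec z = -z → g ∈ M) :
    Nat.card P * {y | ∃ g ∈ M, y = (ρ g).mulVec z ∨ y = -(ρ g).mulVec z}.ncard ≤
      {y : Fin k → ZMod 3 | ∀ t ∈ P, (ρ t).mulVec y = y → t = 1}.ncard := by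
  obtain ⟨a, ha⟩ : ∃ a, a ∉ M := by
    by_contra n
    exact hM (top_unique fun a _ => not_not.1 fun k => n ⟨a, k⟩)
  have key : ∀ t ∈ P, ∀ y y' : Fin k → ZMod 3, (∃ g ∈ M, y = (ρ g).mulVec z ∨ y = -(ρ g).mulVec z) →
      (∃ g ∈ M, y' = (ρ g).mulVec z ∨ y' = -(ρ g).mulVec z) →
      (ρ (t * a)).mulVec y = (ρ a).mulVec y' → t = 1 := by
    rintro t ht y y' ⟨g, hg, e⟩ ⟨g', hg', e'⟩ h
    by_contra n
    have h2 : (ρ (a⁻¹ * t * a)).mulVec y = y' := by rw [mul_assoc, KA.mv, h, KA.mvi]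
    have h3 := hz (g'⁻¹ * (a⁻¹ * t * a) * g) (by
      rw [KA.mv, KA.mv]
      rcases e with rfl | rfl <;> rcases e' with rfl | rfl
      · left; rw [h2, KA.mvi]
      · right; rw [h2, Matrix.mulVec_neg, KA.mvi]
      · right; rw [Matrix.mulVec_neg, neg_eq_iff_eq_neg] at h2; rw [h2, Matrix.mulVec_neg, KA.mvi]
      · left; rw [Matrix.mulVec_neg, neg_inj] at h2; rw [h2, KA.mvi])
    exact ha (p3 t ht n a ((mul_mem_cancel_left (inv_mem hg')).1 ((mul_mem_cancel_right hg).1 h3)))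
  rw [← Nat.card_coe_set_eq, ← Nat.card_coe_set_eq, ← Nat.card_prod]
  refine Nat.card_le_card_of_injective (fun u => ⟨(ρ (u.1 * a)).mulVec u.2, fun s hs e => ?_⟩) ?_
  · have := key ((u.1 : G₀)⁻¹ * s * u.1) (mul_mem (mul_mem (inv_mem u.1.2) hs) u.1.2) _ _ u.2.2 u.2.2 (by
      rw [mul_assoc, mul_assoc, KA.mv, KA.mv, e, KA.mv, KA.mvi])
    rwa [mul_assoc, inv_mul_eq_one, eq_comm, mul_eq_right] at this
  · rintro ⟨t, y⟩ ⟨t', y'⟩ e
    have e1 : (ρ (t * a)).mulVec y = (ρ (t' * a)).mulVec y' := congrArg Subtype.val e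
    have := key ((t' : G₀)⁻¹ * t) (mul_mem (inv_mem t'.2) t.2) _ _ y.2 y'.2 (by
      rw [mul_assoc, KA.mv, e1, KA.mv, KA.mvi])
    obtain rfl : t' = t := Subtype.ext (inv_mul_eq_one.1 this)
    rw [show y = y' from Subtype.ext (KA.mvj ρ _ e1)]

/-- every member of the list is a word in `X, Y` -/
def KA.Ch {k : ℕ} (X Y : Matrix (Fin k) (Fin k) (ZMod 3)) : List (Matrix (Fin k) (Fin k) (ZMod 3)) → Prop
  | [] => True
  | A :: L => (A = 1 ∨ A ∈ L.map (X * ·) ∨ A ∈ L.map (Y * ·)) ∧ KA.Ch X Y L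

instance KA.decCh {k : ℕ} (X Y : Matrix (Fin k) (Fin k) (ZMod 3)) : ∀ L, Decidable (KA.Ch X Y L)
  | [] => isTrue trivial
  | _ :: L => @instDecidableAnd _ _ _ (KA.decCh X Y L)

/-- the conditions of `PV` -/
def KA.OK {k : ℕ} (L : List (Matrix (Fin k) (Fin k) (ZMod 3))) (z : Fin k → ZMod 3) : Prop :=
  L.Nodup ∧ L.length = 27 ∧ (L.Forall fun A => A * A * A = 1 ∧ A.mulVec z = z) ∧ z ≠ 0 ∧
    (∀ y, (L.Forall fun A => A.mulVec y = y) → y = 0 ∨ y = z ∨ y = -z) ∧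
    (Finset.univ.filter fun y => L.Forall fun A => A.mulVec y = y → A = 1).card < 216 ∧
    ∀ a b c d, (L.map fun A => A a c * A b d).sum = 0

def KA.L5 : List (Matrix (Fin 5) (Fin 5) (ZMod 3)) :=
  [!![1, 0, 0, 0, 0; 0, 1, 0, 0, 0; 0, 0, 1, 0, 0; 1, 0, 0, 1, 0; 0, 2, 0, 0, 1],
   !![1, 0, 0, 0, 0; 0, 1, 0, 0, 0; 0, 0, 1, 0, 0; 2, 0, 0, 1, 0; 0, 1, 0, 0, 1],
   !![1, 0, 0, 0, 0; 2, 1, 0, 0, 0; 0, 0, 1, 0, 0; 1, 0, 2, 1, 0; 1, 2, 1, 1, 1],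
   !![1, 0, 0, 0, 0; 2, 1, 0, 0, 0; 0, 0, 1, 0, 0; 2, 0, 2, 1, 0; 2, 1, 1, 1, 1],
   !![1, 0, 0, 0, 0; 0, 1, 0, 0, 0; 2, 0, 1, 0, 0; 1, 1, 0, 1, 0; 0, 2, 0, 0, 1],
   !![1, 0, 0, 0, 0; 0, 1, 0, 0, 0; 2, 0, 1, 0, 0; 2, 1, 0, 1, 0; 0, 1, 0, 0, 1],
   !![1, 0, 0, 0, 0; 1, 1, 0, 0, 0; 1, 0, 1, 0, 0; 0, 2, 1, 1, 0; 2, 2, 1, 2, 1],
   !![1, 0, 0, 0, 0; 1, 1, 0, 0, 0; 0, 0, 1, 0, 0; 1, 0, 1, 1, 0; 2, 2, 1, 2, 1],
   !![1, 0, 0, 0, 0; 1, 1, 0, 0, 0; 0, 0, 1, 0, 0; 2, 0, 1, 1, 0; 1, 1, 1, 2, 1],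
   !![1, 0, 0, 0, 0; 2, 1, 0, 0, 0; 2, 0, 1, 0, 0; 0, 1, 2, 1, 0; 1, 2, 1, 1, 1],
   !![1, 0, 0, 0, 0; 2, 1, 0, 0, 0; 2, 0, 1, 0, 0; 1, 1, 2, 1, 0; 2, 1, 1, 1, 1],
   !![1, 0, 0, 0, 0; 0, 1, 0, 0, 0; 1, 0, 1, 0, 0; 1, 2, 0, 1, 0; 0, 2, 0, 0, 1],
   !![1, 0, 0, 0, 0; 2, 1, 0, 0, 0; 2, 0, 1, 0, 0; 2, 1, 2, 1, 0; 0, 0, 1, 1, 1],
   !![1, 0, 0, 0, 0; 0, 1, 0, 0, 0; 1, 0, 1, 0, 0; 2, 2, 0, 1, 0; 0, 1, 0, 0, 1],
   !![1, 0, 0, 0, 0; 1, 1, 0, 0, 0; 2, 0, 1, 0, 0; 2, 1, 1, 1, 0; 2, 2, 1, 2, 1],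
   !![1, 0, 0, 0, 0; 1, 1, 0, 0, 0; 2, 0, 1, 0, 0; 0, 1, 1, 1, 0; 1, 1, 1, 2, 1],
   !![1, 0, 0, 0, 0; 2, 1, 0, 0, 0; 1, 0, 1, 0, 0; 2, 2, 2, 1, 0; 1, 2, 1, 1, 1],
   !![1, 0, 0, 0, 0; 1, 1, 0, 0, 0; 2, 0, 1, 0, 0; 1, 1, 1, 1, 0; 0, 0, 1, 2, 1],
   !![1, 0, 0, 0, 0; 2, 1, 0, 0, 0; 1, 0, 1, 0, 0; 0, 2, 2, 1, 0; 2, 1, 1, 1, 1],
   !![1, 0, 0, 0, 0; 2, 1, 0, 0, 0; 1, 0, 1, 0, 0; 1, 2, 2, 1, 0; 0, 0, 1, 1, 1],
   !![1, 0, 0, 0, 0; 0, 1, 0, 0, 0; 2, 0, 1, 0, 0; 0, 1, 0, 1, 0; 0, 0, 0, 0, 1],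
   !![1, 0, 0, 0, 0; 1, 1, 0, 0, 0; 1, 0, 1, 0, 0; 1, 2, 1, 1, 0; 1, 1, 1, 2, 1],
   !![1, 0, 0, 0, 0; 1, 1, 0, 0, 0; 1, 0, 1, 0, 0; 2, 2, 1, 1, 0; 0, 0, 1, 2, 1],
   !![1, 0, 0, 0, 0; 2, 1, 0, 0, 0; 0, 0, 1, 0, 0; 0, 0, 2, 1, 0; 0, 0, 1, 1, 1],
   !![1, 0, 0, 0, 0; 0, 1, 0, 0, 0; 1, 0, 1, 0, 0; 0, 2, 0, 1, 0; 0, 0, 0, 0, 1],
   !![1, 0, 0, 0, 0; 1, 1, 0, 0, 0; 0, 0, 1, 0, 0; 0, 0, 1, 1, 0; 0, 0, 1, 2, 1],
   !![1, 0, 0, 0, 0; 0, 1, 0, 0, 0; 0, 0, 1, 0, 0; 0, 0, 0, 1, 0; 0, 0, 0, 0, 1]]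

/-- the vectors whose first `c` coordinates vanish -/
def KA.Wc (k c : ℕ) : Submodule (ZMod 3) (Fin k → ZMod 3) where
  carrier := {v | ∀ j : Fin k, (j : ℕ) < c → v j = 0}
  add_mem' := fun ha hb j hj => by rw [Pi.add_apply, ha j hj, hb j hj, add_zero]
  zero_mem' := fun _ _ => rfl
  smul_mem' := fun _ _ ha j hj => by rw [Pi.smul_apply, ha j hj, smul_zero]

theorem KA.inv_mem_fin (S : Submonoid G₀) {g : G₀} (h : g ∈ S) : g⁻¹ ∈ S :=
  Submonoid.powers_le.2 h (mem_powers_iff_mem_zpowers.2 (inv_mem (mem_zpowers g)))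

/-- the stabiliser of the line spanned by `z` -/
def KA.st {k : ℕ} (ρ : G₀ →* Matrix (Fin k) (Fin k) (ZMod 3)) (z : Fin k → ZMod 3) : Subgroup G₀ where
  carrier := {g | (ρ g).mulVec z = z ∨ (ρ g).mulVec z = -z}
  mul_mem' := by
    rintro a b (ha | ha) (hb | hb)
    · left; rw [KA.mv, hb, ha]
    · right; rw [KA.mv, hb, Matrix.mulVec_neg, ha]
    · right; rw [KA.mv, hb, ha]
    · left; rw [KA.mv, hb, Matrix.mulVec_neg, ha, neg_neg]
  one_mem' := Or.inl (by rw [map_one, Matrix.one_mulVec])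
  inv_mem' := by
    rintro a (ha | ha)
    · left; rw [← ha, KA.mvi, ha]
    · right; rw [← neg_eq_iff_eq_neg, ← Matrix.mulVec_neg, ← ha, KA.mvi]

theorem KA.col {k : ℕ} {ρ : G₀ →* Matrix (Fin (k + 1)) (Fin (k + 1)) (ZMod 3)} {g : G₀}
    (h : g ∈ KA.st ρ (Pi.single (Fin.last k) 1)) (i : Fin k) : ρ g i.castSucc (Fin.last k) = 0 := by
  have n : (Pi.single (Fin.last k) 1 : Fin (k + 1) → ZMod 3) i.castSucc = 0 :=
    Pi.single_eq_of_ne (Fin.castSucc_lt_last i).ne _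
  rcases h with h | h <;> have := congrFun h i.castSucc <;>
    rw [Matrix.mulVec_single_one] at this
  · exact this.trans n
  · exact this.trans (by rw [Pi.neg_apply, n, neg_zero])

/-- the action on the quotient by the last basis vector -/
def KA.blk {k : ℕ} (ρ : G₀ →* Matrix (Fin (k + 1)) (Fin (k + 1)) (ZMod 3)) :
    KA.st ρ (Pi.single (Fin.last k) 1) →* Matrix (Fin k) (Fin k) (ZMod 3) where
  toFun g := (ρ g).submatrix Fin.castSucc Fin.castSucc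
  map_one' := by rw [coe_one, map_one]; exact Matrix.submatrix_one _ (Fin.castSucc_injective k)
  map_mul' a b := by
    ext i j
    rw [coe_mul, map_mul, Matrix.submatrix_apply, Matrix.mul_apply, Matrix.mul_apply, Fin.sum_univ_castSucc,
      KA.col a.2, zero_mul, add_zero]
    rfl

theorem KA.auto_lemmas : True := by
  have := @mX6.eq_1; have := @mY6.eq_1; have := @mX5.eq_1; have := @mY5.eq_1
  have := @KA.Ch.eq_1; have := @KA.Ch.eq_2; have := @KA.Ch.eq_def; have := @KA.OK.eq_1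
  have := @KA.L5.eq_1; have := @KA.Wc.eq_1; have := @KA.st.eq_1.{0}; have := @KA.blk.eq_1.{0}
  have := @KA.decCh.eq_1; have := @KA.decCh.eq_2; have := @KA.decCh.eq_def
  trivial

/-- the image of `⟨x, y⟩` -/
theorem KA.enum {k : ℕ} (ρ : G₀ →* Matrix (Fin k) (Fin k) (ZMod 3)) {x y : G₀}
    {L : List (Matrix (Fin k) (Fin k) (ZMod 3))} (h1 : KA.Ch (ρ x) (ρ y) L)
    (h2 : 1 ∈ L ∧ L.Forall fun A => ρ x * A ∈ L ∧ ρ y * A ∈ L) (A : Matrix (Fin k) (Fin k) (ZMod 3)) :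
    A ∈ L ↔ ∃ t ∈ closure ({x, y} : Set G₀), ρ t = A := by
  constructor
  · clear h2
    induction L generalizing A with
    | nil => exact fun h => absurd h List.not_mem_nil
    | cons C L ih =>
      intro h
      rcases List.mem_cons.1 h with rfl | h
      · rcases h1.1 with rfl | e | e
        · exact ⟨1, one_mem _, map_one _⟩
        all_goals
          obtain ⟨B, hB, rfl⟩ := List.mem_map.1 e
          obtain ⟨t, ht, rfl⟩ := ih h1.2 B hB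
          exact ⟨_, mul_mem (subset_closure (by simp)) ht, map_mul _ _ _⟩
      · exact ih h1.2 A h
  · rintro ⟨t, ht, rfl⟩
    rw [List.forall_iff_forall_mem] at h2
    let S : Submonoid G₀ :=
      { carrier := {g | ∀ A ∈ L, ρ g * A ∈ L}
        mul_mem' := fun ha hb A hA => by rw [map_mul, mul_assoc]; exact ha _ (hb A hA)
        one_mem' := fun A hA => by rwa [map_one, one_mul] }
    have : t ∈ S := closure_induction (p := fun g _ => g ∈ S) (by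
      rintro _ (rfl | rfl)
      · exact fun A hA => (h2.2 A hA).1
      · exact fun A hA => (h2.2 A hA).2) (one_mem S) (fun _ _ _ _ => mul_mem)
      (fun _ _ => KA.inv_mem_fin S) ht
    simpa using this 1 h2.1

theorem KA.eight {V : Type*} [AddCommGroup V] [Finite V] {O : Set V} (hO : ∀ y ∈ O, -y ∈ O) (v : Fin 4 → V)
    (hv : ∀ i, v i ∈ O) (h1 : ∀ i j, v i = v j → i = j) (h2 : ∀ i j, v i ≠ -v j) : 8 ≤ O.ncard := by
  rw [← Nat.card_coe_set_eq]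
  have := Nat.card_le_card_of_injective
    (fun u : Bool × Fin 4 => (⟨cond u.1 (v u.2) (-v u.2), by cases u.1; exacts [hO _ (hv _), hv _]⟩ : O)) (by
      rintro ⟨_ | _, i⟩ ⟨_ | _, j⟩ e <;> have e' := congrArg Subtype.val e
      · rw [h1 i j (neg_inj.1 e')]
      · exact absurd e'.symm (h2 j i)
      · exact absurd e' (h2 i j)
      · rw [h1 i j e'])
  simpa using this

/-- the stabiliser of the line fixed by `P` does not lie in a proper `M` -/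
theorem KA.PV {k : ℕ} (ρ : G₀ →* Matrix (Fin k) (Fin k) (ZMod 3)) {P M : Subgroup G₀}
    (p3 : ∀ t ∈ P, t ≠ 1 → ∀ a, a⁻¹ * t * a ∈ M → a ∈ M) (hP : P ≤ M)
    {L : List (Matrix (Fin k) (Fin k) (ZMod 3))} (hL : ∀ A, A ∈ L ↔ ∃ t ∈ P, ρ t = A)
    (inj : ∀ t ∈ P, ρ t = 1 → t = 1) {z : Fin k → ZMod 3} (ok : KA.OK L z) (hz : KA.st ρ z ≤ M) :
    M = ⊤ := by
  classical
  obtain ⟨nd, len, h3, z0, fx, reg, hn⟩ := ok
  simp only [List.forall_iff_forall_mem] at h3 fx reg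
  have := Fintype.ofFinite P
  have mL : ∀ t ∈ P, ρ t ∈ L := fun t ht => (hL _).2 ⟨t, ht, rfl⟩
  have sm : ∀ {R : Type} [AddCommMonoid R] (f : Matrix (Fin k) (Fin k) (ZMod 3) → R),
      ∑ t : P, f (ρ t) = (L.map f).sum := fun f => by
    rw [← List.sum_toFinset f nd]
    refine Finset.sum_bij (fun t _ => ρ t) (fun t _ => List.mem_toFinset.2 (mL t t.2)) (fun t _ u _ e => ?_)
      (fun A hA => ?_) fun _ _ => rfl
    · refine Subtype.ext (inv_mul_eq_one.1 (inj _ (mul_mem (inv_mem t.2) u.2) ?_))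
      rw [map_mul, ← e, ← map_mul, inv_mul_cancel, map_one]
    · obtain ⟨t, ht, e⟩ := (hL A).1 (List.mem_toFinset.1 hA)
      exact ⟨⟨t, ht⟩, Finset.mem_univ _, e⟩
  have cP : Nat.card P = 27 := by
    have := sm (fun _ => (1 : ℕ))
    simpa [len] using this
  by_contra hM
  have c := cnt ρ p3 hP hM (z := z) fun g hg => hz hg
  have r : {y : Fin k → ZMod 3 | ∀ t ∈ P, (ρ t).mulVec y = y → t = 1}.ncard < 216 := by
    refine lt_of_le_of_lt ?_ reg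
    rw [← Set.ncard_coe_finset]
    refine Set.ncard_le_ncard (fun y hy => ?_) (Set.toFinite _)
    rw [Finset.mem_coe, Finset.mem_filter]
    refine ⟨Finset.mem_univ _, fun A hA e => ?_⟩
    obtain ⟨t, ht, rfl⟩ := (hL A).1 hA
    rw [hy t ht e, map_one]
  have nz : ∀ v : Fin k → ZMod 3, v = -v → v = 0 := fun v e => funext fun i => by
    have := congrFun e i
    rw [Pi.neg_apply] at this
    exact (by decide : ∀ u : ZMod 3, u = -u → u = 0) _ this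
  have hMz : M ≤ KA.st ρ z := fun g hg => by
    by_contra n
    set y := (ρ g).mulVec z with hy
    have y0 : y ≠ 0 := fun e => z0 (KA.mvj ρ g (by rw [← hy, e, Matrix.mulVec_zero]))
    obtain ⟨t, ht, ty⟩ : ∃ t ∈ P, (ρ t).mulVec y ≠ y := by
      by_contra m
      rcases fx y (fun A hA => by
        obtain ⟨t, ht, rfl⟩ := (hL A).1 hA
        exact not_not.1 fun e => m ⟨t, ht, e⟩) with e | e
      exacts [y0 e, n e]
    obtain ⟨t3, tz⟩ := h3 _ (mL t ht)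
    set y1 := (ρ t).mulVec y with h1
    set y2 := (ρ t).mulVec y1 with h2
    have h0 : (ρ t).mulVec y2 = y := by
      rw [h2, h1, Matrix.mulVec_mulVec, Matrix.mulVec_mulVec, t3, Matrix.one_mulVec]
    have j : ∀ {u v}, (ρ t).mulVec u = (ρ t).mulVec v → u = v := KA.mvj ρ t
    have tn : ∀ u, (ρ t).mulVec (-u) = -(ρ t).mulVec u := fun u => Matrix.mulVec_neg _ _
    have a1 : y ≠ z := fun e => n (Or.inl e)
    have a2 : y ≠ -z := fun e => n (Or.inr e)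
    have b1 : y1 ≠ z := fun e => a1 (j (by rw [← h1, e, tz]))
    have b2 : y1 ≠ -z := fun e => a2 (j (by rw [← h1, e, tn, tz]))
    have c1 : y2 ≠ z := fun e => b1 (j (by rw [← h2, e, tz]))
    have c2 : y2 ≠ -z := fun e => b2 (j (by rw [← h2, e, tn, tz]))
    have d1 : y2 ≠ y1 := fun e => ty (j (by rw [← h2, e]))
    have d2 : y ≠ y2 := fun e => d1 (j (by rw [h0, ← h2, e]))
    have e1 : y1 ≠ -y := fun e => d2 (by rw [h2, e, tn, ← h1, e, neg_neg])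
    have e2 : y2 ≠ -y1 := fun e => e1 (j (by rw [← h2, e, tn]))
    have e3 : y ≠ -y2 := fun e => e2 (j (by rw [h0, tn, ← h2, e]))
    have f1 : y1 ≠ 0 := fun e => y0 (j (by rw [← h1, e, Matrix.mulVec_zero]))
    have f2 : y2 ≠ 0 := fun e => f1 (j (by rw [← h2, e, Matrix.mulVec_zero]))
    have := KA.eight (O := {y | ∃ g ∈ M, y = (ρ g).mulVec z ∨ y = -(ρ g).mulVec z})
      (fun _ ⟨g, hg, e⟩ => ⟨g, hg, e.symm.imp (fun e => by rw [e, neg_neg]) fun e => by rw [e]⟩)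
      ![z, y, y1, y2] (fun i => by
        fin_cases i
        · exact ⟨1, one_mem _, Or.inl (by rw [map_one, Matrix.one_mulVec]; rfl)⟩
        · exact ⟨g, hg, Or.inl rfl⟩
        · exact ⟨t * g, mul_mem (hP ht) hg, Or.inl (KA.mv ρ t g z).symm⟩
        · exact ⟨t * (t * g), mul_mem (hP ht) (mul_mem (hP ht) hg), Or.inl (by rw [KA.mv, KA.mv]; rfl)⟩)
      (fun i j e => by
        fin_cases i <;> fin_cases j <;> first
          | rfl
          | exact absurd e (by assumption)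
          | exact absurd e.symm (by assumption))
      (fun i j e => by
        fin_cases i <;> fin_cases j <;> first
          | exact absurd (nz _ e) (by assumption)
          | exact absurd e (by assumption)
          | exact absurd (neg_eq_iff_eq_neg.1 e.symm) (by assumption))
    rw [cP] at c
    omega
  have vv : ∀ g, ρ g * Matrix.vecMulVec z z * (ρ g).transpose =
      Matrix.vecMulVec ((ρ g).mulVec z) ((ρ g).mulVec z) := fun g => by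
    rw [Matrix.mul_vecMulVec, Matrix.vecMulVec_mul, Matrix.vecMul_transpose]
  refine hM (top_unique fun g _ => hz ?_)
  have e := nt ρ p3 hP (fun B => by
    ext a b
    have : ∀ t : P, (ρ t * B * (ρ t).transpose) a b = ∑ d, ∑ c, B c d * (ρ t a c * ρ t b d) := fun t => by
      simp only [Matrix.mul_apply, Matrix.transpose_apply, Finset.sum_mul]
      exact Finset.sum_congr rfl fun d _ => Finset.sum_congr rfl fun c _ => by ring
    rw [Matrix.sum_apply, Finset.sum_congr rfl fun t _ => this t, Finset.sum_comm]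
    refine Finset.sum_eq_zero fun d _ => ?_
    rw [Finset.sum_comm]
    refine Finset.sum_eq_zero fun c _ => ?_
    rw [← Finset.mul_sum, sm fun A => A a c * A b d, hn, mul_zero]) (B := Matrix.vecMulVec z z)
    (fun g hg => by
      rw [vv]
      rcases hMz hg with e | e <;> rw [e]
      ext i j; simp [Matrix.vecMulVec_apply]) g
  rw [vv] at e
  obtain ⟨i, hi⟩ := Function.ne_iff.1 z0
  have e' : ∀ j, (ρ g).mulVec z i * (ρ g).mulVec z j = z i * z j := fun j => congrFun (congrFun e i) j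
  have sq : ∀ u v : ZMod 3, v ≠ 0 → u * u = v * v → (∀ a b, u * a = v * b → a = b) ∨
      ∀ a b, u * a = v * b → a = -b := by decide
  exact (sq _ _ hi (e' i)).imp (fun h => funext fun j => h _ _ (e' j)) fun h => funext fun j => h _ _ (e' j)

/-- two elements acting trivially on the sections of a chain -/
theorem KA.chain {k : ℕ} (ρ : G₀ →* Matrix (Fin k) (Fin k) (ZMod 3)) (hi : Function.Injective ρ)
    (P : Sylow 3 G₀) {M : Subgroup G₀} (hM : (P : Subgroup G₀) ≤ M)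
    (p3 : ∀ t ∈ P, t ≠ 1 → ∀ a, a⁻¹ * t * a ∈ M → a ∈ M) (W : ℕ → Submodule (ZMod 3) (Fin k → ZMod 3))
    (h0 : ∀ v, v ∈ W 0) {m : ℕ} (hm : ∀ v ∈ W m, v = 0) (ha : ∀ i, W (i + 1) ≤ W i) {t₁ t₂ a : G₀}
    (h1 : t₁ ∈ P) (n1 : t₁ ≠ 1) (h2 : t₂ ∈ P) (n2 : t₂ ≠ 1)
    (c1 : ∀ i, ∀ v ∈ W i, (ρ t₁).mulVec v - v ∈ W (i + 1))
    (c2 : ∀ i, ∀ v ∈ W i, (ρ (a * t₂ * a⁻¹)).mulVec v - v ∈ W (i + 1)) : a ∈ M := by
  have : Fact (Nat.Prime 3) := ⟨Nat.prime_three⟩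
  let S : Submonoid G₀ :=
    { carrier := {g | ∀ i, ∀ v ∈ W i, (ρ g).mulVec v - v ∈ W (i + 1)}
      mul_mem' := fun {a b} ha' hb i v hv => by
        have := add_mem (ha' i _ (by simpa using add_mem (ha i (hb i v hv)) hv)) (hb i v hv)
        rwa [sub_add_sub_cancel, ← KA.mv] at this
      one_mem' := fun i v _ => by rw [map_one, Matrix.one_mulVec, sub_self]; exact zero_mem _ }
  let Q : Subgroup G₀ := { S with inv_mem' := KA.inv_mem_fin S }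
  have hQ : IsPGroup 3 Q := fun g => ⟨m, Subtype.ext (hi (by
    have k1 : ∀ i v, ((ρ g - 1) ^ i).mulVec v ∈ W i := fun i => by
      induction i with
      | zero => exact fun v => h0 _
      | succ i ih =>
        intro v
        rw [pow_succ', ← Matrix.mulVec_mulVec, Matrix.sub_mulVec, Matrix.one_mulVec]
        exact g.2 i _ (ih v)
    have k2 : (ρ g - 1) ^ m = 0 := Matrix.ext_of_mulVec_single fun i => by
      rw [hm _ (k1 m _), Matrix.zero_mulVec]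
    have k3 := pow_eq_zero_of_le (Nat.lt_pow_self (by norm_num : 1 < 3)).le k2
    rw [coe_pow, map_pow, coe_one, map_one]
    rcases subsingleton_or_nontrivial (Matrix (Fin k) (Fin k) (ZMod 3)) with _ | _
    · exact Subsingleton.elim _ _
    have : CharP (Matrix (Fin k) (Fin k) (ZMod 3)) 3 :=
      charP_of_injective_algebraMap (algebraMap (ZMod 3) _).injective 3
    rwa [sub_pow_char_pow_of_commute _ _ (Commute.one_right _), one_pow, sub_eq_zero] at k3))⟩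
  obtain ⟨R, hR⟩ := hQ.exists_le_sylow
  obtain ⟨h, rfl⟩ := MulAction.exists_smul_eq G₀ P R
  have k : ∀ g ∈ Q, h⁻¹ * g * h ∈ M := fun g hg => hM (by
    have := hR hg
    rw [Sylow.coe_subgroup_smul, mem_pointwise_smul_iff_inv_smul_mem] at this
    simpa using this)
  have k1 := p3 t₁ h1 n1 h (k t₁ c1)
  have k2 := p3 t₂ h2 n2 (a⁻¹ * h) (by
    rw [show (a⁻¹ * h)⁻¹ * t₂ * (a⁻¹ * h) = h⁻¹ * (a * t₂ * a⁻¹) * h by group]; exact k _ c2)
  exact inv_mem_iff.1 ((mul_mem_cancel_right k1).1 k2)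

/-- conjugation by an element stabilising the chain -/
theorem KA.chain_cj {k : ℕ} (ρ : G₀ →* Matrix (Fin k) (Fin k) (ZMod 3))
    (W : ℕ → Submodule (ZMod 3) (Fin k → ZMod 3)) {t a : G₀} (ha : ∀ i, ∀ v ∈ W i, (ρ a).mulVec v ∈ W i)
    (c : ∀ i, ∀ v ∈ W i, (ρ t).mulVec v - v ∈ W (i + 1)) :
    ∀ i, ∀ v ∈ W i, (ρ (a * t * a⁻¹)).mulVec v - v ∈ W (i + 1) := fun i v hv => by
  let S : Submonoid G₀ :=
    { carrier := {g | ∀ i, ∀ v ∈ W i, (ρ g).mulVec v ∈ W i}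
      mul_mem' := fun {a b} ha' hb i v hv => by rw [KA.mv]; exact ha' i _ (hb i v hv)
      one_mem' := fun i v hv => by rwa [map_one, Matrix.one_mulVec] }
  have := ha _ _ (c i _ (KA.inv_mem_fin S (g := a) ha i v hv))
  rwa [Matrix.mulVec_sub, ← KA.mv ρ a a⁻¹, mul_inv_cancel, map_one, Matrix.one_mulVec, ← KA.mv,
    ← KA.mv] at this

/-- two steps of `PV`: an element outside `M` stabilising the last two terms of the flag -/
theorem KA.PV2 {k : ℕ} (ρ : G₀ →* Matrix (Fin (k + 2)) (Fin (k + 2)) (ZMod 3)) {P M : Subgroup G₀}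
    (p3 : ∀ t ∈ P, t ≠ 1 → ∀ a, a⁻¹ * t * a ∈ M → a ∈ M) (hP : P ≤ M)
    {L : List (Matrix (Fin (k + 2)) (Fin (k + 2)) (ZMod 3))} (hL : ∀ A, A ∈ L ↔ ∃ t ∈ P, ρ t = A)
    (inj : ∀ t ∈ P, ρ t = 1 → t = 1)
    (h1 : L.Forall fun A => A.mulVec (Pi.single (Fin.last (k + 1)) 1) = Pi.single (Fin.last (k + 1)) 1 ∧
      (A.submatrix Fin.castSucc Fin.castSucc = 1 → A = 1))
    (ok : KA.OK (L.map fun A => A.submatrix Fin.castSucc Fin.castSucc) (Pi.single (Fin.last k) 1))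
    (hn : ¬ KA.st ρ (Pi.single (Fin.last (k + 1)) 1) ≤ M) :
    ∃ a, a ∉ M ∧ (∀ i : Fin (k + 1), ρ a i.castSucc (Fin.last (k + 1)) = 0) ∧
      ∀ i : Fin k, ρ a i.castSucc.castSucc (Fin.last k).castSucc = 0 := by
  rw [List.forall_iff_forall_mem] at h1
  have hK : P ≤ KA.st ρ (Pi.single (Fin.last (k + 1)) 1) := fun t ht =>
    Or.inl (h1 _ ((hL _).2 ⟨t, ht, rfl⟩)).1
  by_contra n
  refine hn (subgroupOf_eq_top.1 (KA.PV (KA.blk ρ) (P := P.subgroupOf _)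
    (fun t ht t1 a ha => p3 t ht (fun e => t1 (Subtype.ext e)) a ha) (fun t ht => hP ht) (fun A => ?_)
    (fun t ht e => Subtype.ext (inj t ht ((h1 _ ((hL _).2 ⟨t, ht, rfl⟩)).2 e))) ok fun a ha => ?_))
  · rw [List.mem_map]
    constructor
    · rintro ⟨B, hB, rfl⟩
      obtain ⟨t, ht, rfl⟩ := (hL B).1 hB
      exact ⟨⟨t, hK ht⟩, ht, rfl⟩
    · rintro ⟨t, ht, rfl⟩
      exact ⟨_, (hL _).2 ⟨t, ht, rfl⟩, rfl⟩
  · by_contra m
    exact n ⟨a, m, KA.col a.2, KA.col ha⟩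

theorem KA.ch5 : KA.Ch mX5 mY5 KA.L5 ∧ 1 ∈ KA.L5 ∧
    KA.L5.Forall fun A => mX5 * A ∈ KA.L5 ∧ mY5 * A ∈ KA.L5 := by
  decide +kernel

theorem KA.ok5 : KA.OK KA.L5 (Pi.single (Fin.last 4) 1) := by
  unfold KA.OK; decide +kernel

theorem KA.ok4 : KA.OK (KA.L5.map fun A => A.submatrix Fin.castSucc Fin.castSucc)
    (Pi.single (Fin.last 3) 1) := by
  unfold KA.OK; decide +kernel

theorem ka5 (ρ : G₀ →* Matrix (Fin 5) (Fin 5) (ZMod 3)) (hi : Function.Injective ρ) (P : Sylow 3 G₀)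
    {x y : G₀} (hx : ρ x = mX5) (hy : ρ y = mY5) (hP : (P : Subgroup G₀) = closure {x, y})
    {M : Subgroup G₀} (hM : (P : Subgroup G₀) ≤ M)
    (p3 : ∀ t ∈ P, t ≠ 1 → ∀ a, a⁻¹ * t * a ∈ M → a ∈ M) : M = ⊤ := by
  have hL := KA.enum ρ (x := x) (y := y) (L := KA.L5) (hx ▸ hy ▸ KA.ch5.1) (hx ▸ hy ▸ KA.ch5.2)
  rw [← hP] at hL
  have inj : ∀ t ∈ (P : Subgroup G₀), ρ t = 1 → t = 1 := fun t _ e => hi (e.trans (map_one ρ).symm)
  by_contra n
  obtain ⟨a, ha, a1, a2⟩ := KA.PV2 ρ p3 hM hL inj (by decide +kernel) KA.ok4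
    fun k => n (KA.PV ρ p3 hM hL inj KA.ok5 k)
  obtain ⟨t, ht, e⟩ := (hL !![1, 0, 0, 0, 0; 0, 1, 0, 0, 0; 0, 0, 1, 0, 0; 2, 0, 0, 1, 0; 0, 1, 0, 0, 1]).1
    (by decide +kernel)
  have t1 : t ≠ 1 := fun k => by
    rw [k, map_one] at e
    exact absurd e (by decide +kernel)
  have c : ∀ i, ∀ v ∈ KA.Wc 5 (if i = 0 then 0 else i + 2),
      (ρ t).mulVec v - v ∈ KA.Wc 5 (if i + 1 = 0 then 0 else i + 1 + 2) := fun i v hv j hj => by
    rw [e]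
    rcases Nat.eq_zero_or_pos i with rfl | hi
    · fin_cases j <;> simp_all [dotProduct, Fin.sum_univ_five]
    · have v0 := hv 0 (by rw [if_neg hi.ne']; omega)
      have v1 := hv 1 (by rw [if_neg hi.ne']; show 1 < _; omega)
      fin_cases j <;> simp [dotProduct, Fin.sum_univ_five, v0, v1]
  refine ha (KA.chain ρ hi P hM p3 (fun i => KA.Wc 5 (if i = 0 then 0 else i + 2))
    (fun v j hj => absurd hj (Nat.not_lt_zero _)) (m := 3) (fun v hv => funext fun j => hv j j.2)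
    (fun i v hv j hj => hv j (by rw [if_neg (Nat.succ_ne_zero i)]; split_ifs at hj <;> omega)) ht t1 ht t1 c
    (KA.chain_cj ρ (fun i => KA.Wc 5 (if i = 0 then 0 else i + 2)) (fun i v hv j hj => ?_) c))
  show ∑ l, ρ a j l * v l = 0
  refine Finset.sum_eq_zero fun l _ => ?_
  by_cases hl : (l : ℕ) < if i = 0 then 0 else i + 2
  · rw [hv l hl, mul_zero]
  · have h3 : (j : ℕ) < l ∧ 3 ≤ (l : ℕ) := by split_ifs at hj hl <;> omega
    refine mul_eq_zero_of_left ?_ _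
    fin_cases l <;> fin_cases j <;> first
      | exact absurd h3 (by decide)
      | exact a1 0 | exact a1 1 | exact a1 2 | exact a1 3 | exact a2 0 | exact a2 1 | exact a2 2

end H18.CO
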