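import Mathlib
import Cfsg.Agent.Base
import Cfsg.Agent.Lib.CO3.KA

set_option autoImplicit false
set_option maxRecDepth 100000

namespace H18.CO

open Subgroup H54 H2 H90 H91 H93.R3 H18.TH Cfsg Cfsg.FusionSystem
open scoped commutatorElement Pointwise

local notation:max "𝐍(" A ")" => Subgroup.normalizer (SetLike.coe A)
local notation:max "𝐂(" A ")" => Subgroup.centralizer (SetLike.coe A)

universe u v

variable {G₀ : Type u} [Group G₀] [Finite G₀]

namespace K6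

open Matrix

abbrev F := ZMod 3
abbrev T3 := F × F × F

/-- the unitriangular group on the symmetric square -/
def U (p : T3) : Matrix (Fin 6) (Fin 6) F :=
  !![1, 0, 0, 0, 0, 0; p.2.1, 1, 0, 0, 0, 0; p.2.2, p.1, 1, 0, 0, 0; p.2.1 * p.2.1, 2 * p.2.1, 0, 1, 0, 0;
    p.2.2 * p.2.1, p.1 * p.2.1 + p.2.2, p.2.1, p.1, 1, 0;
    p.2.2 * p.2.2, 2 * p.1 * p.2.2, 2 * p.2.2, p.1 * p.1, 2 * p.1, 1]

def U5 (p : T3) : Matrix (Fin 5) (Fin 5) F := (U p).submatrix Fin.castSucc Fin.castSucc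

def Mp (N : Matrix (Fin 6) (Fin 6) F) (X Y : Submodule F (Fin 6 → F)) : Prop := ∀ v ∈ X, N *ᵥ v ∈ Y

theorem eqns_K6 : True := by
  have := @U.eq_1
  have := @U5.eq_1
  have := @Mp.eq_1
  trivial

theorem U_mul : ∀ p q : T3, U p * U q = U (p.1 + q.1, p.2.1 + q.2.1, p.2.2 + q.2.2 + p.1 * q.2.1) := by
  decide +kernel

theorem U_inj {p q : T3} (e : U p = U q) : p = q :=
  Prod.ext (congrFun (congrFun e 2) 1) (Prod.ext (congrFun (congrFun e 1) 0) (congrFun (congrFun e 2) 0))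

theorem pv (ρ : G₀ →* Matrix (Fin 5) (Fin 5) F) {P M : Subgroup G₀} (s : T3 → P) (hs : Function.Bijective s)
    (e : ∀ p, ρ (s p) = U5 p) (p3 : ∀ t ∈ P, t ≠ 1 → ∀ a, a⁻¹ * t * a ∈ M → a ∈ M) (hP : P ≤ M)
    (hz : ∀ g, ρ g *ᵥ Pi.single 4 1 = Pi.single 4 1 ∨ ρ g *ᵥ Pi.single 4 1 = -Pi.single 4 1 → g ∈ M) :
    M = ⊤ := by
  classical
  by_contra hM
  have c := cnt ρ p3 hP hM hz
  rw [← Nat.card_eq_of_bijective s hs, show Nat.card T3 = 27 by simp] at c
  have r : ∀ p : T3, U5 p ≠ 1 → ∀ y, (∀ t ∈ P, ρ t *ᵥ y = y → t = 1) → U5 p *ᵥ y ≠ y := fun p n y h k =>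
    n (by rw [← e, h _ (s p).2 (by rw [e, k]), map_one])
  have c2 := c.trans ((Set.ncard_le_ncard (t := ((Finset.univ.filter fun y : Fin 5 → F =>
    U5 (1, 0, 0) *ᵥ y ≠ y ∧ U5 (0, 0, 1) *ᵥ y ≠ y : Finset _) : Set _)) fun y hy => by
      simpa using ⟨r _ (by decide +kernel) y hy, r _ (by decide +kernel) y hy⟩).trans
        ((Set.ncard_coe_finset _).trans (by decide +kernel : _ = 198)).le)
  have st : ∀ g ∈ M, ρ g *ᵥ Pi.single 4 1 = Pi.single 4 1 ∨ ρ g *ᵥ Pi.single 4 1 = -Pi.single 4 1 := by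
    intro g hg
    by_contra n
    obtain ⟨p, hp⟩ := (by decide +kernel : ∀ y : Fin 5 → F, y ≠ 0 →
      ¬ (y = Pi.single 4 1 ∨ y = -Pi.single 4 1) → ∃ p ∈ [((1, 0, 0) : T3), (0, 1, 0)],
        ({Pi.single 4 1, -Pi.single 4 1, y, -y, U5 p *ᵥ y, -(U5 p *ᵥ y), U5 p *ᵥ U5 p *ᵥ y,
          -(U5 p *ᵥ U5 p *ᵥ y)} : Finset (Fin 5 → F)).card = 8) _ (fun k => by
      have := congrArg (ρ g⁻¹ *ᵥ ·) k
      simp only [mulVec_mulVec, ← map_mul, inv_mul_cancel, map_one, one_mulVec, mulVec_zero] at this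
      exact absurd this (by decide +kernel)) n
    have l := (hp.2.symm.trans (Set.ncard_coe_finset _).symm).le.trans (Set.ncard_le_ncard (t :=
      {y | ∃ g ∈ M, y = ρ g *ᵥ Pi.single 4 1 ∨ y = -(ρ g *ᵥ Pi.single 4 1)}) (by
        have m := hP (s p).2
        simp only [Finset.coe_insert, Finset.coe_singleton, Set.insert_subset_iff, Set.singleton_subset_iff,
          ← e, mulVec_mulVec, ← map_mul]
        exact ⟨⟨1, one_mem _, Or.inl (by rw [map_one, one_mulVec])⟩,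
          ⟨1, one_mem _, Or.inr (by rw [map_one, one_mulVec])⟩, ⟨g, hg, Or.inl rfl⟩,
          ⟨g, hg, Or.inr rfl⟩, ⟨_, mul_mem m hg, Or.inl rfl⟩, ⟨_, mul_mem m hg, Or.inr rfl⟩,
          ⟨_, mul_mem m (mul_mem m hg), Or.inl rfl⟩, ⟨_, mul_mem m (mul_mem m hg), Or.inr rfl⟩⟩))
    exact absurd ((Nat.mul_le_mul_left 27 l).trans c2) (by decide)
  have f : ∀ (g : G₀) (z : Fin 5 → F), ρ g * vecMulVec z z * (ρ g)ᵀ = vecMulVec (ρ g *ᵥ z) (ρ g *ᵥ z) :=
    fun g z => by rw [mul_vecMulVec, vecMulVec_mul, vecMul_transpose]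
  haveI := Fintype.ofFinite P
  refine hM (eq_top_iff.2 fun g _ => hz g ?_)
  refine (by decide +kernel : ∀ y : Fin 5 → F, vecMulVec y y = vecMulVec (Pi.single 4 1) (Pi.single 4 1) →
    y = Pi.single 4 1 ∨ y = -Pi.single 4 1) _ ((f g _).symm.trans (nt ρ p3 hP (fun B => ?_) (fun k hk => ?_) g))
  · rw [← hs.sum_comp fun t : P => ρ t * B * (ρ t)ᵀ]
    ext i j
    have key : ∀ i a j b : Fin 5, ∑ p, U5 p i a * U5 p j b = 0 := by decide +kernel
    simp only [e, Matrix.sum_apply, mul_apply, transpose_apply, Finset.sum_mul, Matrix.zero_apply]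
    rw [Finset.sum_comm]
    refine Finset.sum_eq_zero fun b _ => ?_
    rw [Finset.sum_comm]
    refine Finset.sum_eq_zero fun a _ => ?_
    rw [← mul_zero (B a b), ← key i a j b, Finset.mul_sum]
    exact Finset.sum_congr rfl fun p _ => by ring
  · rw [f]
    rcases st k hk with h | h <;> rw [h]
    simp

theorem Mp.sup {N : Matrix (Fin 6) (Fin 6) F} {X Y : Submodule F (Fin 6 → F)} (h : Mp N X Y) {c : Fin 6 → F}
    (hc : N *ᵥ c ∈ Y) : Mp N (X ⊔ Submodule.span F {c}) Y := fun _ hv =>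
  (sup_le (fun v hv => h v hv) ((Submodule.span_singleton_le_iff_mem _ _).2 hc) :
    _ ≤ Y.comap (mulVecLin N)) hv

theorem Mp.mul {N N' : Matrix (Fin 6) (Fin 6) F} {X Y Z : Submodule F (Fin 6 → F)} (h' : Mp N' Y Z)
    (h : Mp N X Y) : Mp (N' * N) X Z := fun v hv => by rw [← mulVec_mulVec]; exact h' _ (h v hv)

theorem Mp.mono {N : Matrix (Fin 6) (Fin 6) F} {X X' Y Y' : Submodule F (Fin 6 → F)} (h : Mp N X Y)
    (l : X' ≤ X) (l' : Y ≤ Y') : Mp N X' Y' := fun v hv => l' (h v (l hv))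

theorem mp_bot (N : Matrix (Fin 6) (Fin 6) F) (Y : Submodule F (Fin 6 → F)) : Mp N ⊥ Y := fun v hv => by
  rw [(Submodule.mem_bot F).1 hv, mulVec_zero]; exact zero_mem _

theorem Mp.inv (ρ : G₀ →* Matrix (Fin 6) (Fin 6) F) {X : Submodule F (Fin 6 → F)} {a : G₀}
    (h : Mp (ρ a) X X) : Mp (ρ a⁻¹) X X := by
  have : ∀ n, Mp (ρ (a ^ n)) X X := fun n => by
    induction n with
    | zero => exact fun v hv => by simpa using hv
    | succ n ih => rw [pow_succ, map_mul]; exact ih.mul h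
  rw [show a⁻¹ = a ^ (orderOf a - 1) from inv_eq_of_mul_eq_one_left (by
    rw [← pow_succ, Nat.sub_add_cancel (orderOf_pos a), pow_orderOf_eq_one])]
  exact this _

/-- the stabilizer of a chain is a `3`-group -/
theorem chain (ρ : G₀ →* Matrix (Fin 6) (Fin 6) F) (hi : Function.Injective ρ)
    (W : ℕ → Submodule F (Fin 6 → F)) (l : ∀ i, W (i + 1) ≤ W i) (h0 : W 0 = ⊤) (h9 : W 9 = ⊥) :
    ∃ Q : Subgroup G₀, IsPGroup 3 Q ∧ ∀ g, (∀ i, Mp (ρ g - 1) (W i) (W (i + 1))) → g ∈ Q := by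
  let S : Submonoid G₀ :=
    { carrier := {g | ∀ i, Mp (ρ g - 1) (W i) (W (i + 1))}
      one_mem' := fun i v _ => by simp
      mul_mem' := fun {g k} hg hk i v hv => by
        have a := hk i v hv
        have b := hg i _ (add_mem (l i a) hv)
        have := add_mem b a
        simp only [sub_mulVec, one_mulVec, sub_add_cancel, sub_add_sub_cancel] at this
        simpa only [sub_mulVec, one_mulVec, map_mul, ← mulVec_mulVec] using this }
  refine ⟨{ S with inv_mem' := fun {x} hx => ((Submonoid.powers_le.2 hx)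
    (mem_powers_iff_mem_zpowers.2 (inv_mem (mem_zpowers x)))) }, fun g => ⟨2, Subtype.ext (hi ?_)⟩,
    fun g hg => hg⟩
  have n : ∀ n, Mp ((ρ g.1 - 1) ^ n) (W 0) (W n) := fun n => by
    induction n with
    | zero => exact fun v hv => by simpa using hv
    | succ n ih => rw [pow_succ']; exact (g.2 n).mul ih
  have z : (ρ g.1 - 1) ^ 3 ^ 2 = 0 := Matrix.ext_of_mulVec_single fun i => by
    rw [zero_mulVec]
    exact (Submodule.mem_bot F).1 (h9 ▸ n 9 _ (h0 ▸ Submodule.mem_top))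
  have := add_pow_char_pow_of_commute 3 2 (Commute.one_right (ρ g.1 - 1))
  rw [sub_add_cancel, z, one_pow, zero_add] at this
  simpa using this

theorem two (ρ : G₀ →* Matrix (Fin 6) (Fin 6) F) (hi : Function.Injective ρ) (P : Sylow 3 G₀)
    (hU : ∀ p, ∃ g ∈ P, ρ g = U p) {M : Subgroup G₀} (hM : (P : Subgroup G₀) ≤ M)
    (p3 : ∀ t ∈ P, t ≠ 1 → ∀ a, a⁻¹ * t * a ∈ M → a ∈ M) {a : G₀}
    (h5 : ρ a *ᵥ Pi.single 5 1 = Pi.single 5 1 ∨ ρ a *ᵥ Pi.single 5 1 = -Pi.single 5 1)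
    (h4 : ∀ i : Fin 6, i.val < 4 → ρ a i 4 = 0) : a ∈ M := by
  obtain ⟨W4, d4⟩ : ∃ W, W = ⊥ ⊔ Submodule.span F {(Pi.single 5 1 : Fin 6 → F)} := ⟨_, rfl⟩
  obtain ⟨W3, d3⟩ : ∃ W, W = W4 ⊔ Submodule.span F {(Pi.single 4 1 : Fin 6 → F)} := ⟨_, rfl⟩
  obtain ⟨c, hc⟩ : ∃ c, c = ρ a *ᵥ Pi.single 2 1 := ⟨_, rfl⟩
  have sp : ∀ (X : Submodule F (Fin 6 → F)) (v : Fin 6 → F), v ∈ X ⊔ Submodule.span F {v} := fun X v =>
    Submodule.mem_sup_right (Submodule.mem_span_singleton_self v)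
  have l43 : W4 ≤ W3 := d3 ▸ le_sup_left
  have e5 : Pi.single 5 1 ∈ W4 := d4 ▸ sp _ _
  have e4 : Pi.single 4 1 ∈ W3 := d3 ▸ sp _ _
  have mE : ∀ v : Fin 6 → F, v 0 = 0 → v 1 = 0 → v 3 = 0 →
      v = v 5 • Pi.single 5 1 + v 4 • Pi.single 4 1 + v 2 • Pi.single 2 1 := fun v a b c => by
    ext i; fin_cases i <;> simp [a, b, c]
  have m3 : ∀ v : Fin 6 → F, v 0 = 0 → v 1 = 0 → v 2 = 0 → v 3 = 0 → v ∈ W3 := fun v a b c d => by
    rw [mE v a b d, c, zero_smul, add_zero]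
    exact add_mem (Submodule.smul_mem _ _ (l43 e5)) (Submodule.smul_mem _ _ e4)
  have a4 : Mp (ρ a) W4 W4 := by
    have := (mp_bot (ρ a) W4).sup (c := Pi.single 5 1) (by
      rcases h5 with h | h <;> rw [h]
      exacts [e5, neg_mem e5])
    rwa [← d4] at this
  have a3 : Mp (ρ a) W3 W3 := by
    have := (a4.mono le_rfl l43).sup (c := Pi.single 4 1) (m3 _ (by simpa using h4 0 (by decide))
      (by simpa using h4 1 (by decide)) (by simpa using h4 2 (by decide)) (by simpa using h4 3 (by decide)))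
    rwa [← d3] at this
  have u0 : ∀ i j : F, Mp (U (i, 0, j) - 1) ⊤ (W3 ⊔ Submodule.span F {Pi.single 2 1}) := fun i j v _ => by
    rw [mE ((U (i, 0, j) - 1) *ᵥ v) (by simp [U, mulVec, dotProduct, Fin.sum_univ_six])
      (by simp [U, mulVec, dotProduct, Fin.sum_univ_six]) (by simp [U, mulVec, dotProduct, Fin.sum_univ_six])]
    exact add_mem (Submodule.mem_sup_left (add_mem (Submodule.smul_mem _ _ (l43 e5))
      (Submodule.smul_mem _ _ e4))) (Submodule.smul_mem _ _ (sp _ _))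
  have u1 : ∀ (i j : F) (v : Fin 6 → F), j * v 0 + i * v 1 = 0 → (U (i, 0, j) - 1) *ᵥ v ∈ W3 := fun i j v e =>
    m3 _ (by simp [U, mulVec, dotProduct, Fin.sum_univ_six]) (by simp [U, mulVec, dotProduct, Fin.sum_univ_six])
      (by simpa [U, mulVec, dotProduct, Fin.sum_univ_six] using e)
      (by simp [U, mulVec, dotProduct, Fin.sum_univ_six])
  have u4 : ∀ i j : F, Mp (U (i, 0, j) - 1) W4 ⊥ := fun i j => by
    have := (mp_bot (U (i, 0, j) - 1) ⊥).sup (c := Pi.single 5 1) ((Submodule.mem_bot F).2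
      ((by decide +kernel : ∀ i j : F, (U (i, 0, j) - 1) *ᵥ Pi.single 5 1 = 0) i j))
    rwa [← d4] at this
  have u3 : ∀ i j : F, Mp (U (i, 0, j) - 1) W3 W4 := fun i j => by
    have := ((u4 i j).mono le_rfl bot_le).sup (Y := W4) (c := Pi.single 4 1) (by
      rw [(by decide +kernel : ∀ i j : F, (U (i, 0, j) - 1) *ᵥ Pi.single 4 1 = (2 * i) • Pi.single 5 1) i j]
      exact Submodule.smul_mem _ _ e5)
    rwa [← d3] at this
  obtain ⟨Q, hQ, mQ⟩ := chain ρ hi (fun n => match n with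
    | 0 => ⊤ | 1 => W3 ⊔ Submodule.span F {c} ⊔ Submodule.span F {Pi.single 2 1}
    | 2 => W3 ⊔ Submodule.span F {c} | 3 => W3 | 4 => W4 | _ + 5 => ⊥)
    (fun i => match i with
      | 0 => le_top | 1 => le_sup_left | 2 => le_sup_left | 3 => l43 | 4 => bot_le | _ + 5 => le_rfl) rfl rfl
  obtain ⟨i, j, n, e⟩ := (by decide : ∀ a b : F, ∃ i j : F, ((i, 0, j) : T3) ≠ 0 ∧ j * a + i * b = 0) (c 0) (c 1)
  obtain ⟨t, ht, et⟩ := hU (i, 0, j)
  have t1 : t ≠ 1 := fun k => n (U_inj (by rw [← et, k, map_one]; decide +kernel))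
  have w2 := ((u3 i j).mono le_rfl l43).sup (u1 i j c e)
  have q1 : t ∈ Q := mQ t fun n => et ▸ match n with
    | 0 => (u0 i j).mono le_rfl (sup_le_sup_right le_sup_left _)
    | 1 => (w2.sup (u1 i j _ (by simp))).mono le_rfl le_sup_left
    | 2 => w2 | 3 => u3 i j | 4 => u4 i j | _ + 5 => mp_bot _ _
  have ec : ρ (a * t * a⁻¹) - 1 = ρ a * ((U (i, 0, j) - 1) * ρ a⁻¹) := by
    rw [← et, sub_mul, mul_sub, one_mul, ← map_mul, ← map_mul, ← map_mul, mul_inv_cancel, map_one, mul_assoc]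
  have v0 : Mp (ρ a * ((U (i, 0, j) - 1) * ρ a⁻¹)) ⊤ (W3 ⊔ Submodule.span F {c}) :=
    ((a3.mono le_rfl le_sup_left).sup (hc ▸ sp _ _)).mul ((u0 i j).mul fun _ _ => Submodule.mem_top)
  have v3 := a4.mul ((u3 i j).mul (a3.inv ρ))
  have q2 : a * t * a⁻¹ ∈ Q := mQ _ fun n => ec ▸ match n with
    | 0 => v0.mono le_rfl le_sup_left
    | 1 => v0.mono le_top le_rfl
    | 2 => (v3.mono le_rfl l43).sup (by
        rw [hc, mulVec_mulVec, mul_assoc, mul_assoc, ← map_mul, inv_mul_cancel, map_one, mul_one,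
          ← mulVec_mulVec]
        exact a3 _ (u1 i j _ (by simp)))
    | 3 => v3
    | 4 => (mp_bot _ _).mul ((u4 i j).mul (a4.inv ρ))
    | _ + 5 => mp_bot _ _
  obtain ⟨R, hR⟩ := hQ.exists_le_sylow
  obtain ⟨k, rfl⟩ := MulAction.exists_smul_eq G₀ P R
  have f : ∀ {g}, g ∈ Q → k⁻¹ * g * k ∈ M := fun h => hM (by
    simpa [Sylow.coe_subgroup_smul, mem_pointwise_smul_iff_inv_smul_mem] using hR h)
  have k1 := p3 t ht t1 k (f q1)
  have k2 := p3 t ht t1 (a⁻¹ * k) (by simpa [mul_assoc] using f q2)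
  simpa using mul_mem k1 (inv_mem k2)

end K6

open K6 Matrix in
theorem ka6z (ρ : G₀ →* Matrix (Fin 6) (Fin 6) (ZMod 3)) (hi : Function.Injective ρ) (P : Sylow 3 G₀)
    {x y : G₀} (hx : ρ x = mX6) (hy : ρ y = mY6) (hP : (P : Subgroup G₀) = closure {x, y})
    {M : Subgroup G₀} (hM : (P : Subgroup G₀) ≤ M)
    (p3 : ∀ t ∈ P, t ≠ 1 → ∀ a, a⁻¹ * t * a ∈ M → a ∈ M) (g : G₀)
    (hg : (ρ g).mulVec (Pi.single 5 1) = Pi.single 5 1 ∨ (ρ g).mulVec (Pi.single 5 1) = -Pi.single 5 1) :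
    g ∈ M := by
  have mU : ∀ t ∈ (P : Subgroup G₀), ∃ p, ρ t = U p := fun t ht => by
    rw [hP] at ht
    induction ht using closure_induction with
    | mem t ht => rcases ht with rfl | rfl
                  exacts [⟨(1, 0, 0), hx.trans (by decide +kernel)⟩, ⟨(0, 1, 0), hy.trans (by decide +kernel)⟩]
    | one => exact ⟨0, (map_one ρ).trans (by decide +kernel)⟩
    | mul a b _ _ ha hb =>
      obtain ⟨p, e⟩ := ha
      obtain ⟨q, e'⟩ := hb
      exact ⟨_, by rw [map_mul, e, e', U_mul]⟩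
    | inv a _ ha =>
      obtain ⟨p, e⟩ := ha
      obtain ⟨q, e'⟩ := (by decide +kernel : ∀ p, ∃ q, U p * U q = 1) p
      refine ⟨q, ?_⟩
      rw [← mul_one (ρ a⁻¹), ← e', ← e, ← mul_assoc, ← map_mul, inv_mul_cancel, map_one, one_mul]
  have hU : ∀ p, ∃ g ∈ P, ρ g = U p := by
    have m : ∀ {p q r}, (∃ g ∈ P, ρ g = U p) → (∃ g ∈ P, ρ g = U q) →
        (p.1 + q.1, p.2.1 + q.2.1, p.2.2 + q.2.2 + p.1 * q.2.1) = r → ∃ g ∈ P, ρ g = U r := by
      rintro p q _ ⟨a, ha, e⟩ ⟨b, hb, e'⟩ rfl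
      exact ⟨a * b, P.1.mul_mem ha hb, by rw [map_mul, e, e', U_mul]⟩
    have a1 : ∃ g ∈ P, ρ g = U (1, 0, 0) :=
      ⟨x, hP.ge (subset_closure (Or.inl rfl)), hx.trans (by decide +kernel)⟩
    have b1 : ∃ g ∈ P, ρ g = U (0, 1, 0) :=
      ⟨y, hP.ge (subset_closure (Or.inr rfl)), hy.trans (by decide +kernel)⟩
    have a2 := m (r := (2, 0, 0)) a1 a1 (by decide)
    have b2 := m (r := (0, 2, 0)) b1 b1 (by decide)
    have c1 := m (r := (0, 0, 1)) (m (r := (0, 1, 1)) (m (r := (1, 1, 1)) a1 b1 (by decide)) a2 (by decide)) b2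
      (by decide)
    have c2 := m (r := (0, 0, 2)) c1 c1 (by decide)
    have z := m (r := (0, 0, 0)) c1 c2 (by decide)
    have cs : ∀ {f : F → Prop}, f 0 → f 1 → f 2 → ∀ a, f a := fun h0 h1 h2 a => by
      rcases (by decide : ∀ a : F, a = 0 ∨ a = 1 ∨ a = 2) a with rfl | rfl | rfl
      exacts [h0, h1, h2]
    exact fun p => m (m (cs (f := fun a => ∃ g ∈ P, ρ g = U (a, 0, 0)) z a1 a2 p.1)
      (cs (f := fun a => ∃ g ∈ P, ρ g = U (0, a, 0)) z b1 b2 p.2.1) rfl)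
      (cs (f := fun a => ∃ g ∈ P, ρ g = U (0, 0, a)) z c1 c2 (p.2.2 - p.1 * p.2.1)) (by simp)
  let K : Subgroup G₀ :=
    { carrier := {g | ρ g *ᵥ Pi.single 5 1 = Pi.single 5 1 ∨ ρ g *ᵥ Pi.single 5 1 = -Pi.single 5 1}
      one_mem' := Or.inl (by rw [map_one, one_mulVec])
      mul_mem' := fun {a b} ha hb => by
        rcases hb with hb | hb <;> rcases ha with ha | ha <;>
          simp only [Set.mem_ofPred_eq, map_mul, ← mulVec_mulVec, hb, mulVec_neg, ha, neg_neg, true_or, or_true]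
      inv_mem' := fun {a} ha => by
        have e : ρ a⁻¹ *ᵥ ρ a *ᵥ Pi.single 5 1 = Pi.single 5 1 := by
          rw [mulVec_mulVec, ← map_mul, inv_mul_cancel, map_one, one_mulVec]
        rcases ha with ha | ha <;> rw [ha] at e
        · exact Or.inl e
        · exact Or.inr (by rw [mulVec_neg] at e; exact neg_eq_iff_eq_neg.1 e) }
  have k5 : ∀ (a : K) (i : Fin 5), ρ a i.castSucc (Fin.last 5) = 0 := fun a i => by
    have : ∀ v : Fin 6 → F, v = Pi.single 5 1 ∨ v = -Pi.single 5 1 → v i.castSucc = 0 := by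
      rintro _ (rfl | rfl) <;> revert i <;> decide
    simpa using this _ a.2
  let ρ5 : K →* Matrix (Fin 5) (Fin 5) F :=
    { toFun := fun a => (ρ a).submatrix Fin.castSucc Fin.castSucc
      map_one' := by
        rw [OneMemClass.coe_one, map_one, submatrix_one _ (Fin.castSucc_injective 5)]
      map_mul' := fun a b => by
        ext i j
        simp only [Subgroup.coe_mul, map_mul, submatrix_apply, mul_apply]
        rw [Fin.sum_univ_castSucc, k5, zero_mul, add_zero] }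
  choose s hs es using hU
  have sK : ∀ p, s p ∈ K := fun p => Or.inl (by
    rw [es]; exact (by decide +kernel : ∀ p, U p *ᵥ Pi.single 5 1 = Pi.single 5 1) p)
  have := pv ρ5 (P := (P : Subgroup G₀).subgroupOf K) (M := M.subgroupOf K) (fun p => ⟨⟨s p, sK p⟩, hs p⟩)
    ⟨fun p q e => U_inj (by rw [← es, ← es, show s p = s q from congrArg (·.1.1) e]), fun t => by
      obtain ⟨p, e⟩ := mU _ t.2
      exact ⟨p, Subtype.ext (Subtype.ext (hi ((es p).trans e.symm)))⟩⟩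
    (fun p => congrArg (submatrix · _ _) (es p))
    (fun t ht n a h => p3 t ht (fun e => n (Subtype.ext e)) a h) (fun t ht => hM ht) fun a h =>
      two ρ hi P (fun p => ⟨_, hs p, es p⟩) hM p3 a.2 fun i l => by
        have : ∀ v : Fin 5 → F, v = Pi.single 4 1 ∨ v = -Pi.single 4 1 → v ⟨i, by omega⟩ = 0 := by
          have : (⟨i, by omega⟩ : Fin 5) ≠ 4 := fun e => by have := congrArg Fin.val e; simp at this; omega
          rintro _ (rfl | rfl) <;> simp [this]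
        simpa [ρ5] using this _ h
  exact (this.ge (mem_top (⟨g, hg⟩ : K)) : _)

end H18.CO
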