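import Mathlib
import Cfsg.Agent.Base
import Cfsg.Agent.Lib.CO3.K6

set_option autoImplicit false
set_option maxRecDepth 100000

namespace H18.CO

open Subgroup H54 H2 H90 H91 H93.R3 H18.TH Cfsg Cfsg.FusionSystem
open scoped commutatorElement Pointwise

local notation:max "𝐍(" A ")" => Subgroup.normalizer (SetLike.coe A)
local notation:max "𝐂(" A ")" => Subgroup.centralizer (SetLike.coe A)

universe u v

variable {G₀ : Type u} [Group G₀] [Finite G₀]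

namespace K7

abbrev K : Type := ZMod 3
abbrev T : Type := K × K × K × K × K × K

instance dT : DecidableEq T := inferInstance
instance fT : Fintype T := inferInstance

instance allK {p : K → Prop} [DecidablePred p] : Decidable (∀ x, p x) :=
  decidable_of_iff (p 0 ∧ p 1 ∧ p 2) ⟨fun h x => by fin_cases x; exacts [h.1, h.2.1, h.2.2],
    fun h => ⟨h _, h _, h _⟩⟩
instance exK {p : K → Prop} [DecidablePred p] : Decidable (∃ x, p x) :=
  decidable_of_iff (p 0 ∨ p 1 ∨ p 2) ⟨fun h => h.elim (⟨_, ·⟩) fun h => h.elim (⟨_, ·⟩) (⟨_, ·⟩),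
    fun ⟨x, h⟩ => by fin_cases x; exacts [.inl h, .inr (.inl h), .inr (.inr h)]⟩
instance allT {p : T → Prop} [DecidablePred p] : Decidable (∀ x, p x) :=
  decidable_of_iff (∀ a b c d e f, p (a, b, c, d, e, f)) ⟨fun h _ => h _ _ _ _ _ _, fun h _ _ _ _ _ _ => h _⟩

def tv (v : T) : Fin 6 → K := ![v.1, v.2.1, v.2.2.1, v.2.2.2.1, v.2.2.2.2.1, v.2.2.2.2.2]

def mP (i j k : K) : Matrix (Fin 6) (Fin 6) K :=
  !![1, 0, 0, 0, 0, 0; j, 1, 0, 0, 0, 0; k, i, 1, 0, 0, 0; j * j, 2 * j, 0, 1, 0, 0;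
    j * k, k + i * j, j, i, 1, 0; k * k, 2 * i * k, 2 * k, i * i, 2 * i, 1]

def act (i j k : K) (v : T) : T :=
  (v.1, j * v.1 + v.2.1, k * v.1 + i * v.2.1 + v.2.2.1, j * j * v.1 + 2 * j * v.2.1 + v.2.2.2.1,
    j * k * v.1 + (k + i * j) * v.2.1 + j * v.2.2.1 + i * v.2.2.2.1 + v.2.2.2.2.1,
    k * k * v.1 + 2 * i * k * v.2.1 + 2 * k * v.2.2.1 + i * i * v.2.2.2.1 + 2 * i * v.2.2.2.2.1 +
      v.2.2.2.2.2)

def LL : List (List T) :=
  [[(0,0,0,0,0,1), (0,0,0,0,0,2)],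
   [(0,0,0,0,1,0), (0,0,0,0,1,1), (0,0,0,0,1,2), (0,0,0,0,2,0), (0,0,0,0,2,1), (0,0,0,0,2,2)],
   [(0,0,0,1,0,0), (0,0,0,1,1,1), (0,0,0,1,2,1), (0,0,0,2,0,0), (0,0,0,2,1,2), (0,0,0,2,2,2)],
   [(0,0,0,1,0,1), (0,0,0,1,1,2), (0,0,0,1,2,2), (0,0,0,2,0,2), (0,0,0,2,1,1), (0,0,0,2,2,1)],
   [(0,0,0,1,0,2), (0,0,0,1,1,0), (0,0,0,1,2,0), (0,0,0,2,0,1), (0,0,0,2,1,0), (0,0,0,2,2,0)],
   [(0,0,1,0,0,0), (0,0,1,0,0,1), (0,0,1,0,0,2), (0,0,1,0,1,0), (0,0,1,0,1,1), (0,0,1,0,1,2), (0,0,1,0,2,0), (0,0,1,0,2,1), (0,0,1,0,2,2), (0,0,2,0,0,0), (0,0,2,0,0,1), (0,0,2,0,0,2), (0,0,2,0,1,0), (0,0,2,0,1,1), (0,0,2,0,1,2), (0,0,2,0,2,0), (0,0,2,0,2,1), (0,0,2,0,2,2)],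
   [(0,0,1,1,0,0), (0,0,1,1,0,1), (0,0,1,1,0,2), (0,0,1,1,1,0), (0,0,1,1,1,1), (0,0,1,1,1,2), (0,0,1,1,2,0), (0,0,1,1,2,1), (0,0,1,1,2,2), (0,0,2,2,0,0), (0,0,2,2,0,1), (0,0,2,2,0,2), (0,0,2,2,1,0), (0,0,2,2,1,1), (0,0,2,2,1,2), (0,0,2,2,2,0), (0,0,2,2,2,1), (0,0,2,2,2,2)],
   [(0,0,1,2,0,0), (0,0,1,2,0,1), (0,0,1,2,0,2), (0,0,1,2,1,0), (0,0,1,2,1,1), (0,0,1,2,1,2), (0,0,1,2,2,0), (0,0,1,2,2,1), (0,0,1,2,2,2), (0,0,2,1,0,0), (0,0,2,1,0,1), (0,0,2,1,0,2), (0,0,2,1,1,0), (0,0,2,1,1,1), (0,0,2,1,1,2), (0,0,2,1,2,0), (0,0,2,1,2,1), (0,0,2,1,2,2)],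
   [(1,0,0,0,0,0), (1,0,1,0,0,1), (1,0,2,0,0,1), (1,1,0,1,0,0), (1,1,1,1,1,1), (1,1,2,1,2,1), (1,2,0,1,0,0), (1,2,1,1,2,1), (1,2,2,1,1,1), (2,0,0,0,0,0), (2,0,1,0,0,2), (2,0,2,0,0,2), (2,1,0,2,0,0), (2,1,1,2,2,2), (2,1,2,2,1,2), (2,2,0,2,0,0), (2,2,1,2,1,2), (2,2,2,2,2,2)],
   [(1,0,0,0,0,1), (1,0,1,0,0,2), (1,0,2,0,0,2), (1,1,0,1,0,1), (1,1,1,1,1,2), (1,1,2,1,2,2), (1,2,0,1,0,1), (1,2,1,1,2,2), (1,2,2,1,1,2), (2,0,0,0,0,2), (2,0,1,0,0,1), (2,0,2,0,0,1), (2,1,0,2,0,2), (2,1,1,2,2,1), (2,1,2,2,1,1), (2,2,0,2,0,2), (2,2,1,2,1,1), (2,2,2,2,2,1)],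
   [(1,0,0,0,0,2), (1,0,1,0,0,0), (1,0,2,0,0,0), (1,1,0,1,0,2), (1,1,1,1,1,0), (1,1,2,1,2,0), (1,2,0,1,0,2), (1,2,1,1,2,0), (1,2,2,1,1,0), (2,0,0,0,0,1), (2,0,1,0,0,0), (2,0,2,0,0,0), (2,1,0,2,0,1), (2,1,1,2,2,0), (2,1,2,2,1,0), (2,2,0,2,0,1), (2,2,1,2,1,0), (2,2,2,2,2,0)]]

def WW : List (List (K × K × K)) :=
  [[(0,0,0), (0,0,0)],
   [(0,0,0), (2,0,0), (1,0,0), (0,0,0), (1,0,0), (2,0,0)],
   [(0,0,0), (1,0,0), (2,0,0), (0,0,0), (2,0,0), (1,0,0)],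
   [(0,0,0), (1,0,0), (2,0,0), (0,0,0), (2,0,0), (1,0,0)],
   [(0,0,0), (1,0,0), (2,0,0), (0,0,0), (2,0,0), (1,0,0)],
   [(0,0,0), (0,0,2), (0,0,1), (0,1,0), (0,1,2), (0,1,1), (0,2,0), (0,2,2), (0,2,1), (0,0,0), (0,0,1), (0,0,2), (0,2,0), (0,2,1), (0,2,2), (0,1,0), (0,1,1), (0,1,2)],
   [(0,0,0), (0,0,2), (0,0,1), (0,1,0), (0,1,2), (0,1,1), (0,2,0), (0,2,2), (0,2,1), (0,0,0), (0,0,1), (0,0,2), (0,2,0), (0,2,1), (0,2,2), (0,1,0), (0,1,1), (0,1,2)],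
   [(0,0,0), (0,0,2), (0,0,1), (0,1,0), (0,1,2), (0,1,1), (0,2,0), (0,2,2), (0,2,1), (0,0,0), (0,0,1), (0,0,2), (0,2,0), (0,2,1), (0,2,2), (0,1,0), (0,1,1), (0,1,2)],
   [(0,0,0), (0,0,1), (0,0,2), (0,1,0), (0,1,1), (0,1,2), (0,2,0), (0,2,1), (0,2,2), (0,0,0), (0,0,2), (0,0,1), (0,2,0), (0,2,2), (0,2,1), (0,1,0), (0,1,2), (0,1,1)],
   [(0,0,0), (0,0,1), (0,0,2), (0,1,0), (0,1,1), (0,1,2), (0,2,0), (0,2,1), (0,2,2), (0,0,0), (0,0,2), (0,0,1), (0,2,0), (0,2,2), (0,2,1), (0,1,0), (0,1,2), (0,1,1)],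
   [(0,0,0), (0,0,1), (0,0,2), (0,1,0), (0,1,1), (0,1,2), (0,2,0), (0,2,1), (0,2,2), (0,0,0), (0,0,2), (0,0,1), (0,2,0), (0,2,2), (0,2,1), (0,1,0), (0,1,2), (0,1,1)]]

def L (n : Fin 11) : Finset T := (LL.getD n []).toFinset
def rep (n : Fin 11) : T := (LL.getD n []).headD 0
def sz (n : Fin 11) : ℕ := [2, 6, 6, 6, 6, 18, 18, 18, 18, 18, 18].getD n 0
def Nr (v : T) : Prop := v.1 * v.2.2.2.1 = v.2.1 * v.2.1 ∧ v.1 * v.2.2.2.2.1 = v.2.1 * v.2.2.1
def Reg (v : T) : Prop := ∀ i j k, act i j k v = v → i = 0 ∧ j = 0 ∧ k = 0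

instance : DecidablePred Nr := fun v => by unfold Nr; infer_instance
instance : DecidablePred Reg := fun v => by unfold Reg; infer_instance

theorem defs_eq : True := by
  have := @tv.eq_1
  have := @mP.eq_1
  have := @act.eq_1
  have := @LL.eq_1
  have := @L.eq_1
  have := @rep.eq_1
  have := @sz.eq_1
  have := @Reg.eq_1
  have := @Nr.eq_1
  have := @WW.eq_1
  trivial

theorem mP_act (i j k : K) (v : T) : (mP i j k).mulVec (tv v) = tv (act i j k v) := by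
  ext r
  fin_cases r <;> simp [mP, tv, act, Matrix.mulVec, dotProduct, Fin.sum_univ_succ] <;> ring

theorem mP_mul (i j k i' j' k' : K) :
    mP i j k * mP i' j' k' = mP (i + i') (j + j') (k + k' + i * j') := by
  ext r s
  fin_cases r <;> fin_cases s <;> simp [mP, Matrix.mul_apply, Fin.sum_univ_succ] <;> ring

theorem mP_inj {i j k i' j' k' : K} (h : mP i j k = mP i' j' k') : i = i' ∧ j = j' ∧ k = k' :=
  ⟨congrFun (congrFun h 2) 1, congrFun (congrFun h 1) 0, congrFun (congrFun h 2) 0⟩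

theorem mP_zero : mP 0 0 0 = 1 := by decide +kernel
theorem mP_x : mP 1 0 0 = mX6 := by decide +kernel
theorem mP_y : mP 0 1 0 = mY6 := by decide +kernel

theorem tv_inj : Function.Injective tv := fun u v h =>
  Prod.ext (congrFun h 0) (Prod.ext (congrFun h 1) (Prod.ext (congrFun h 2) (Prod.ext (congrFun h 3)
    (Prod.ext (congrFun h 4) (congrFun h 5)))))

theorem tv_surj (y : Fin 6 → K) : ∃ v, y = tv v :=
  ⟨(y 0, y 1, y 2, y 3, y 4, y 5), by ext r; fin_cases r <;> rfl⟩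

theorem tv_neg (v : T) : tv (-v) = -tv v := by ext r; fin_cases r <;> rfl
theorem tv_sub (u v : T) : tv (u - v) = tv u - tv v := by ext r; fin_cases r <;> rfl
theorem tv_z : tv (rep 0) = Pi.single 5 1 := by decide +kernel
theorem tv_zero : tv 0 = 0 := by decide +kernel

theorem c_norm : ∀ r s a b : Fin 6, ∑ q : K × K × K, mP q.1 q.2.1 q.2.2 r a * mP q.1 q.2.1 q.2.2 s b = 0 := by
  decide +kernel
theorem c_reg : (Finset.univ.filter fun v => ¬ Nr v).card = 594 := by decide +kernel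
theorem c_nr : ∀ v, Nr v → ¬ Reg v := by decide +kernel
set_option synthInstance.maxSize 2000 in
set_option synthInstance.maxHeartbeats 200000 in
theorem c_reg2 : ∀ a j b : K, j * a + b = b → j * j * a + 2 * j * b = 0 → ∀ i k, k * a + i * b = 0 →
    ∀ c d, j * k * a + (k + i * j) * b + j * c + i * d = 0 → ∀ e,
      k * k * a + 2 * i * k * b + 2 * k * c + i * i * d + 2 * i * e = 0 →
        (a * d = b * b ∧ a * e = b * c) ∨ i = 0 ∧ j = 0 ∧ k = 0 := by decide +kernel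
theorem c_cov0 : ∀ v, Nr v → v = 0 ∨ ∃ n : Fin 11, v ∈ LL.getD n [] := by decide +kernel
theorem c_cov (v : T) : Reg v ∨ v = 0 ∨ ∃ n, v ∈ L n := by
  by_cases h : Nr v
  · exact Or.inr ((c_cov0 v h).imp_right fun ⟨n, a⟩ => ⟨n, List.mem_toFinset.2 a⟩)
  · refine Or.inl fun i j k e => (c_reg2 _ _ _ (congrArg (·.2.1) e)
      (add_eq_right.1 (congrArg (·.2.2.2.1) e)) _ _ (add_eq_right.1 (congrArg (·.2.2.1) e)) _ _
      (add_eq_right.1 (congrArg (·.2.2.2.2.1) e)) _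
      (add_eq_right.1 (congrArg (·.2.2.2.2.2) e))).resolve_left h
theorem c_orb0 : ∀ n : Fin 11, List.Forall₂ (fun v q => act q.1 q.2.1 q.2.2 (rep n) = v ∨
    act q.1 q.2.1 q.2.2 (rep n) = -v) (LL.getD n []) (WW.getD n []) := by decide +kernel
theorem act_inv (i j k : K) (v : T) : act (-i) (-j) (i * j - k) (act i j k v) = v :=
  tv_inj (by rw [← mP_act, ← mP_act, Matrix.mulVec_mulVec, mP_mul]; simp [mP_zero])
theorem act_neg (i j k : K) (v : T) : act i j k (-v) = -act i j k v :=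
  tv_inj (by rw [tv_neg, ← mP_act, ← mP_act, tv_neg, Matrix.mulVec_neg])
theorem c_orb (n : Fin 11) (v : T) (h : v ∈ L n) : (∃ i j k, act i j k v = rep n ∨ act i j k v = -rep n) ∧
    ∃ i j k, act i j k (rep n) = v ∨ act i j k (rep n) = -v := by
  obtain ⟨q, e⟩ : ∃ q : K × K × K, act q.1 q.2.1 q.2.2 (rep n) = v ∨ act q.1 q.2.1 q.2.2 (rep n) = -v := by
    have := c_orb0 n
    have h := List.mem_toFinset.1 h
    generalize LL.getD n [] = A at this h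
    generalize WW.getD n [] = B at this
    induction this with
    | nil => cases h
    | cons a _ ih => exact (List.mem_cons.1 h).elim (fun e => ⟨_, e ▸ a⟩) ih
  refine ⟨⟨-q.1, -q.2.1, q.1 * q.2.1 - q.2.2, e.imp (fun e => by rw [← e, act_inv]) fun e => ?_⟩, _, _, _, e⟩
  rw [← neg_neg v, ← e, act_neg, act_inv]
theorem c_dis : ∀ n m, n ≠ m → Disjoint (L n) (L m) := by decide +kernel
theorem c_sz : ∀ n, (L n).card = sz n := by decide +kernel
theorem c_B : ∀ I : Finset (Fin 11), 0 ∈ I → 1 ∉ I → ∑ n ∈ I, sz n ≤ 22 →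
    (∃ r s, ∑ n ∈ I, ∑ v ∈ L n, tv v r * tv v s ≠ 0) ∧
      ∀ r s : Fin 6, r.1 < 3 → ∑ n ∈ I, ∑ v ∈ L n, tv v r * tv v s = 0 := by decide +kernel
theorem c_z : ∀ v : T, v.1 = 0 → v.2.1 = 0 → v.2.2.1 = 0 → act 0 0 1 v = v ∧ (v ≠ 0 →
    v = rep 0 ∨ -v = rep 0 ∨ act 1 0 0 v - v = rep 0 ∨ -(act 1 0 0 v - v) = rep 0 ∨
      act 1 0 0 (act 1 0 0 v - v) - (act 1 0 0 v - v) = rep 0 ∨
        -(act 1 0 0 (act 1 0 0 v - v) - (act 1 0 0 v - v)) = rep 0) := by decide +kernel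
theorem c_q1 : ∀ l : K, l ≠ 0 → act 0 0 l (act 0 0 l (rep 8) - rep 8) - (act 0 0 l (rep 8) - rep 8) =
    -rep 0 := by decide +kernel
theorem c_q2 (m n : K) (u : T) : act 0 m n (act 0 m n u - u) - (act 0 m n u - u) ≠ rep 1 ∧
    act 0 m n (act 0 m n u - u) - (act 0 m n u - u) ≠ -rep 1 := by
  have : act 0 m n (act 0 m n u - u) - (act 0 m n u - u) =
      (0, 0, 0, 2 * m * m * u.1, 2 * m * n * u.1, 2 * n * n * u.1) := by
    ext <;> simp [act] <;> ring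
  rw [this]
  clear this
  generalize u.1 = a
  revert m n a
  decide +kernel
theorem c_fz : ∀ i j k : K, act i j k (rep 0) = rep 0 := by decide +kernel
theorem c_fix : ∀ m n : K, act 0 m n (rep 1) = rep 1 := by decide +kernel

/-- the invariant sets of small size -/
theorem comb (O : Finset T) (h1 : ∀ v ∈ O, -v ∈ O) (h2 : ∀ v ∈ O, ∀ i j k, act i j k v ∈ O)
    (h3 : ∀ v ∈ O, ¬ Reg v ∧ v ≠ 0) (h4 : rep 0 ∈ O) (h5 : rep 1 ∉ O) (h6 : O.card ≤ 22) :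
    (∃ r s, ∑ v ∈ O, tv v r * tv v s ≠ 0) ∧ ∀ r s : Fin 6, r.1 < 3 → ∑ v ∈ O, tv v r * tv v s = 0 := by
  have k : ∀ u ∈ O, ∀ v, (∃ i j k, act i j k u = v ∨ act i j k u = -v) → v ∈ O :=
    fun u hu v ⟨i, j, k, e⟩ => e.elim (fun e => e ▸ h2 u hu i j k) fun e => by
      have := h1 _ (h2 u hu i j k)
      rwa [e, neg_neg] at this
  have e : O = (Finset.univ.filter fun n => rep n ∈ O).biUnion L := Finset.ext fun v => by
    simp only [Finset.mem_biUnion, Finset.mem_filter, Finset.mem_univ, true_and]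
    refine ⟨fun hv => ?_, fun ⟨n, a, b⟩ => k _ a _ (c_orb n v b).2⟩
    obtain ⟨n, hn⟩ := ((c_cov v).resolve_left (h3 v hv).1).resolve_left (h3 v hv).2
    exact ⟨n, k _ hv _ (c_orb n v hn).1, hn⟩
  generalize hI : (Finset.univ.filter fun n => rep n ∈ O) = I at e
  have d : (I : Set (Fin 11)).PairwiseDisjoint L := fun n _ m _ h => c_dis n m h
  have := c_B I (by rw [← hI]; simpa using h4) (by rw [← hI]; simpa using h5) (by
    rw [e, Finset.card_biUnion d] at h6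
    simpa only [c_sz] using h6)
  simpa only [e, Finset.sum_biUnion d] using this

variable {ρ : G₀ →* Matrix (Fin 6) (Fin 6) (ZMod 3)} {P : Subgroup G₀} {x y : G₀}

omit [Finite G₀] in
theorem ex_el (hx : ρ x = mX6) (hy : ρ y = mY6) (hP : P = closure {x, y}) (q : K × K × K) :
    ∃ t : P, ρ t = mP q.1 q.2.1 q.2.2 := by
  let Q (i j k : K) : Prop := ∃ t : P, ρ t = mP i j k
  have mul : ∀ {i j k i' j' k'}, Q i j k → Q i' j' k' → Q (i + i') (j + j') (k + k' + i * j') :=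
    fun ⟨s, a⟩ ⟨t, b⟩ => ⟨s * t, by rw [Subgroup.coe_mul, map_mul, a, b, mP_mul]⟩
  have q0 : Q 0 0 0 := ⟨1, by rw [mP_zero]; exact map_one ρ⟩
  have qx : Q 1 0 0 := ⟨⟨x, hP ▸ subset_closure (by simp)⟩, hx.trans mP_x.symm⟩
  have qy : Q 0 1 0 := ⟨⟨y, hP ▸ subset_closure (by simp)⟩, hy.trans mP_y.symm⟩
  have qx2 : Q 2 0 0 := mul qx qx
  have qy2 : Q 0 2 0 := mul qy qy
  have qz : Q 0 0 1 := mul (mul (mul qx qy) qx2) qy2
  have qz2 : Q 0 0 2 := mul qz qz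
  obtain ⟨i, j, k⟩ := q
  have a : Q i 0 0 := by fin_cases i; exacts [q0, qx, qx2]
  have b : Q 0 j 0 := by fin_cases j; exacts [q0, qy, qy2]
  have c : ∀ k, Q 0 0 k := fun k => by fin_cases k; exacts [q0, qz, qz2]
  have := mul (mul a b) (c (k - i * j))
  show Q i j k
  simpa only [add_zero, zero_add, mul_zero, add_sub_cancel] using this

theorem ex_mat (hx : ρ x = mX6) (hy : ρ y = mY6) (hP : P = closure {x, y}) {t : G₀} (ht : t ∈ P) :
    ∃ i j k, ρ t = mP i j k := by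
  rw [hP, ← mem_toSubmonoid, closure_toSubmonoid_of_finite] at ht
  induction ht using Submonoid.closure_induction with
  | mem s hs =>
    rcases hs with rfl | rfl
    exacts [⟨_, _, _, hx.trans mP_x.symm⟩, ⟨_, _, _, hy.trans mP_y.symm⟩]
  | one => exact ⟨0, 0, 0, by rw [mP_zero, map_one]⟩
  | mul _ _ _ _ a b =>
    obtain ⟨_, _, _, a⟩ := a
    obtain ⟨_, _, _, b⟩ := b
    exact ⟨_, _, _, by rw [map_mul, a, b, mP_mul]⟩

omit [Finite G₀] in
theorem mv_mul (a b : G₀) (u : Fin 6 → K) : (ρ (a * b)).mulVec u = (ρ a).mulVec ((ρ b).mulVec u) := by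
  rw [map_mul, Matrix.mulVec_mulVec]

omit [Finite G₀] in
theorem mv_inv (a : G₀) (u : Fin 6 → K) : (ρ a⁻¹).mulVec ((ρ a).mulVec u) = u := by
  rw [← mv_mul, inv_mul_cancel, map_one, Matrix.one_mulVec]

omit [Finite G₀] in
theorem mv_inv' (a : G₀) (u : Fin 6 → K) : (ρ a).mulVec ((ρ a⁻¹).mulVec u) = u := by
  rw [← mv_mul, mul_inv_cancel, map_one, Matrix.one_mulVec]

/-- the stabiliser of a vector -/
def stb (ρ : G₀ →* Matrix (Fin 6) (Fin 6) (ZMod 3)) (u : Fin 6 → K) : Subgroup G₀ where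
  carrier := {g | (ρ g).mulVec u = u}
  one_mem' := by simp
  mul_mem' := fun {a b} ha hb => by
    show (ρ (a * b)).mulVec u = u
    rw [mv_mul, hb, ha]
  inv_mem' := fun {a} ha => by
    show (ρ a⁻¹).mulVec u = u
    conv_lhs => rw [← ha]
    exact mv_inv a u

omit [Finite G₀] in
theorem mem_stb {u : Fin 6 → K} {g : G₀} : g ∈ stb ρ u ↔ (ρ g).mulVec u = u := Iff.rfl

/-- the vector `e4` is not conjugate to `e5` -/
theorem not_e4 (hi : Function.Injective ρ) (P : Sylow 3 G₀) (hx : ρ x = mX6) (hy : ρ y = mY6)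
    (hP : (P : Subgroup G₀) = closure {x, y}) {g : G₀}
    (hg : tv (rep 1) = (ρ g).mulVec (tv (rep 0)) ∨ tv (rep 1) = -(ρ g).mulVec (tv (rep 0))) : False := by
  haveI : Fact (Nat.Prime 3) := ⟨Nat.prime_three⟩
  have fz : ∀ t ∈ (P : Subgroup G₀), (ρ t).mulVec (tv (rep 0)) = tv (rep 0) := fun t ht => by
    obtain ⟨i, j, k, e⟩ := ex_mat hx hy hP ht
    rw [e, mP_act, c_fz]
  have s1 : H68.cj g P ≤ stb ρ (tv (rep 1)) := H68.cj_le_iff'.2 fun t ht => by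
    rw [mem_stb, mv_mul, mv_mul]
    rcases hg with e | e <;> rw [e]
    · rw [mv_inv, fz t ht]
    · rw [Matrix.mulVec_neg, mv_inv, Matrix.mulVec_neg, fz t ht, Matrix.mulVec_neg]
  have s2 : H68.SylowIn 3 (H68.cj g P) (stb ρ (tv (rep 1))) :=
    H68.sylowIn_of_le (g • P) s1
  obtain ⟨h, hh, s3⟩ := s2.exists_le_cj (Q := P ⊓ stb ρ (tv (rep 1))) (P.isPGroup'.to_inf_left)
    inf_le_right
  have hg' : (ρ (h * g)).mulVec (tv (rep 0)) = tv (rep 1) ∨
      (ρ (h * g)).mulVec (tv (rep 0)) = -tv (rep 1) := by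
    rw [mv_mul]
    refine hg.imp (fun e => ?_) fun e => ?_
    · rw [← e]; exact hh
    · rw [← neg_eq_iff_eq_neg.2 e, Matrix.mulVec_neg, mem_stb.1 hh]
  choose φ hφ using ex_el hx hy hP
  have k : ∀ q : K × K, ∃ i j k, ρ ((h * g)⁻¹ * φ (0, q) * (h * g)) = mP i j k := fun q => by
    refine ex_mat hx hy hP ?_
    have := H68.mem_cj.1 (H68.mem_cj.1 (s3 ⟨(φ (0, q)).2, mem_stb.2 (by rw [hφ, mP_act, c_fix])⟩))
    rwa [show g⁻¹ * (h⁻¹ * φ (0, q) * h) * g = (h * g)⁻¹ * φ (0, q) * (h * g) by group] at this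
  generalize h * g = a at hg' k
  choose i j k e using k
  have ml : ∀ q q' : K × K, mP (i (q + q')) (j (q + q')) (k (q + q')) =
      mP (i q) (j q) (k q) * mP (i q') (j q') (k q') := fun q q' => by
    rw [← e, ← e, ← e, ← map_mul]
    have : (φ (0, q + q') : G₀) = φ (0, q) * φ (0, q') := hi (by
      rw [map_mul, hφ, hφ, hφ, mP_mul]; simp)
    rw [this]; congr 1; group
  have ni : ¬ Function.Injective fun q => (i q, j q) := fun c => by
    obtain ⟨q, a⟩ := Finite.surjective_of_injective c (1, 0)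
    obtain ⟨q', b⟩ := Finite.surjective_of_injective c (0, 1)
    have := (ml q q').symm.trans (by rw [add_comm, ml])
    simp only [Prod.mk.injEq] at a b
    rw [mP_mul, mP_mul, a.1, a.2, b.1, b.2] at this
    have := (mP_inj this).2.2
    rw [add_comm (k q')] at this
    exact absurd (add_left_cancel this) (by simp)
  obtain ⟨q, q', c, n⟩ := Function.not_injective_iff.1 ni
  simp only [Prod.mk.injEq] at c
  have c1 := ml (q - q') q'
  rw [sub_add_cancel, mP_mul] at c1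
  have i0 : i (q - q') = 0 := by have := (mP_inj c1).1; rw [c.1] at this; simpa using this
  have j0 : j (q - q') = 0 := by have := (mP_inj c1).2.1; rw [c.2] at this; simpa using this
  have e1 := e (q - q')
  rw [i0, j0] at e1
  have k0 : k (q - q') ≠ 0 := fun c => n (by
    rw [c, mP_zero, ← map_one ρ] at e1
    have := hφ (0, q - q')
    rw [show (φ (0, q - q') : G₀) = a * (a⁻¹ * φ (0, q - q') * a) * a⁻¹ by group, hi e1, mul_one,
      mul_inv_cancel, map_one, ← mP_zero] at this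
    exact sub_eq_zero.1 (Prod.ext (mP_inj this).2.1.symm (mP_inj this).2.2.symm))
  have tr : ∀ u v, (ρ a).mulVec (tv u) = tv v → (ρ a).mulVec (tv (act 0 0 (k (q - q')) u - u)) =
      tv (act 0 (q - q').1 (q - q').2 v - v) := fun u v c => by
    rw [tv_sub, tv_sub, Matrix.mulVec_sub, c, ← mP_act, ← mP_act, ← e1, mv_mul, mv_mul, mv_inv', c, hφ]
  obtain ⟨u, hu⟩ := tv_surj ((ρ a).mulVec (tv (rep 8)))
  have := tr _ _ (tr _ _ hu)
  rw [c_q1 _ k0, tv_neg, Matrix.mulVec_neg] at this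
  rcases hg' with c | c <;> rw [c] at this
  · exact (c_q2 _ _ u).2 (tv_inj (by rw [← this, tv_neg]))
  · exact (c_q2 _ _ u).1 (tv_inj (by rw [← this, neg_neg]))

end K7

open K7 in
theorem ka6 (ρ : G₀ →* Matrix (Fin 6) (Fin 6) (ZMod 3)) (hi : Function.Injective ρ) (P : Sylow 3 G₀)
    {x y : G₀} (hx : ρ x = mX6) (hy : ρ y = mY6) (hP : (P : Subgroup G₀) = closure {x, y})
    {M : Subgroup G₀} (hM : (P : Subgroup G₀) ≤ M)
    (p3 : ∀ t ∈ P, t ≠ 1 → ∀ a, a⁻¹ * t * a ∈ M → a ∈ M) : M = ⊤ := by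
  classical
  letI := Fintype.ofFinite (P : Subgroup G₀)
  by_contra hne
  have hz := ka6z ρ hi P hx hy hP hM p3
  have hc := cnt ρ p3 hM hne hz
  rw [← tv_z] at hz hc
  choose φ hφ using ex_el hx hy hP
  have bφ : Function.Bijective φ := ⟨fun q q' e => by
    have := mP_inj ((hφ q).symm.trans (by rw [e, hφ]))
    exact Prod.ext this.1 (Prod.ext this.2.1 this.2.2), fun t => by
    obtain ⟨i, j, k, e⟩ := ex_mat hx hy hP t.2
    exact ⟨(i, j, k), Subtype.ext (hi ((hφ _).trans e.symm))⟩⟩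
  have c27 : Nat.card P = 27 := by rw [← Nat.card_eq_of_bijective φ bφ]; simp
  have rg : ∀ v, (∀ t ∈ P, (ρ t).mulVec (tv v) = tv v → t = 1) → Reg v := fun v h i j k e => by
    have := hφ (i, j, k)
    rw [h _ (φ (i, j, k)).2 (by rw [hφ, mP_act, e]), map_one, ← mP_zero] at this
    exact ⟨(mP_inj this).1.symm, (mP_inj this).2.1.symm, (mP_inj this).2.2.symm⟩
  set O := {y | ∃ g ∈ M, y = (ρ g).mulVec (tv (rep 0)) ∨ y = -(ρ g).mulVec (tv (rep 0))} with hO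
  have o1 : ∀ u ∈ O, -u ∈ O := fun u ⟨g, a, b⟩ => ⟨g, a, b.symm.imp (fun e => by rw [e, neg_neg])
    fun e => by rw [e]⟩
  have o2 : ∀ g ∈ M, ∀ u ∈ O, (ρ g).mulVec u ∈ O := fun g hg u ⟨h, a, b⟩ =>
    ⟨g * h, mul_mem hg a, b.imp (fun e => by rw [e, mv_mul]) fun e => by rw [e, mv_mul, Matrix.mulVec_neg]⟩
  let O' := Finset.univ.filter fun v => tv v ∈ O
  have mO : ∀ {v}, v ∈ O' ↔ tv v ∈ O := by simp [O']
  have cO : O'.card ≤ 22 := by
    have a : O'.card ≤ O.ncard := by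
      rw [← Set.ncard_coe_finset]
      exact Set.ncard_le_ncard_of_injOn tv (fun v hv => mO.1 hv) tv_inj.injOn
    have b : {y : Fin 6 → ZMod 3 | ∀ t ∈ (P : Subgroup G₀), (ρ t).mulVec y = y → t = 1}.ncard ≤ 594 := by
      rw [← c_reg, ← Set.ncard_coe_finset, ← Set.ncard_image_of_injective _ tv_inj]
      refine Set.ncard_le_ncard fun u hu => ?_
      obtain ⟨v, rfl⟩ := tv_surj u
      exact ⟨v, by simpa using fun c => c_nr v c (rg v hu), rfl⟩
    have := hc.trans b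
    rw [c27] at this
    omega
  have o3 : ∀ v ∈ O', ∀ i j k, act i j k v ∈ O' := fun v hv i j k => mO.2 (by
    rw [← mP_act, ← hφ (i, j, k)]; exact o2 _ (hM (φ _).2) _ (mO.1 hv))
  have o4 : ∀ v ∈ O', ¬ Reg v ∧ v ≠ 0 := fun v hv => by
    refine ⟨fun c => ?_, fun c => ?_⟩
    · have : (Finset.univ : Finset (P : Subgroup G₀)).card ≤ O'.card := by
        obtain ⟨f, hf⟩ : ∃ f : ↥(P : Subgroup G₀) → T, ∀ t : ↥(P : Subgroup G₀), (ρ t).mulVec (tv v) = tv (f t) :=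
          ⟨fun t => (tv_surj _).choose, fun t => (tv_surj _).choose_spec⟩
        refine Finset.card_le_card_of_injOn f (fun t _ => mO.2 (hf t ▸ o2 _ (hM t.2) _ (mO.1 hv)))
          fun t _ t' _ e => ?_
        obtain ⟨⟨i, j, k⟩, e'⟩ := bφ.2 (t'⁻¹ * t)
        have e2 := hφ (i, j, k)
        obtain ⟨rfl, rfl, rfl⟩ := c i j k (tv_inj (by
          rw [← mP_act, ← e2, e', Subgroup.coe_mul, mv_mul, hf, e, ← hf, Subgroup.coe_inv, mv_inv]))
        rw [e', mP_zero, ← map_one ρ] at e2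
        exact (inv_mul_eq_one.1 (Subtype.ext (hi e2))).symm
      rw [Finset.card_univ, ← Nat.card_eq_fintype_card, c27] at this
      omega
    · obtain ⟨g, -, e⟩ := mO.1 hv
      rw [c, tv_zero, zero_eq_neg, eq_comm, or_self] at e
      have := mv_inv (ρ := ρ) g (tv (rep 0))
      rw [e, Matrix.mulVec_zero, ← tv_zero] at this
      exact absurd (tv_inj this) (by decide)
  obtain ⟨⟨r, s, b1⟩, b2⟩ := comb O' (fun v hv => mO.2 (tv_neg v ▸ o1 _ (mO.1 hv))) o3 o4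
    (mO.2 ⟨1, one_mem _, Or.inl (by simp)⟩)
    (fun c => by obtain ⟨g, -, e⟩ := mO.1 c; exact not_e4 hi P hx hy hP e) cO
  let B : Matrix (Fin 6) (Fin 6) K := Matrix.of fun r s => ∑ v ∈ O', tv v r * tv v s
  have hB : ∀ g, ρ g * B * (ρ g).transpose = B := by
   refine nt ρ p3 hM (fun B => ?_) fun g hg => ?_
   · rw [← bφ.sum_comp]
     ext r s
     simp only [hφ, Matrix.sum_apply, Matrix.mul_apply, Matrix.transpose_apply, Finset.sum_mul,
       Matrix.zero_apply]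
     rw [Finset.sum_comm]
     refine Finset.sum_eq_zero fun b _ => ?_
     rw [Finset.sum_comm]
     refine Finset.sum_eq_zero fun a _ => ?_
     rw [← mul_zero (B a b), ← c_norm r s a b, Finset.mul_sum]
     exact Finset.sum_congr rfl fun q _ => by ring
   · obtain ⟨f, hf⟩ : ∃ f : T → T, ∀ v, (ρ g).mulVec (tv v) = tv (f v) :=
       ⟨fun t => (tv_surj _).choose, fun t => (tv_surj _).choose_spec⟩
     have fi : Function.Injective f := fun u v e => tv_inj (by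
       rw [← mv_inv (ρ := ρ) g (tv u), hf, e, ← hf, mv_inv])
     have im : O'.image f = O' := Finset.eq_of_subset_of_card_le (Finset.image_subset_iff.2
       fun v hv => mO.2 (hf v ▸ o2 g hg _ (mO.1 hv))) (Finset.card_image_of_injective _ fi).ge
     ext r s
     have : B r s = ∑ v ∈ O', tv (f v) r * tv (f v) s := by
       show ∑ v ∈ O', tv v r * tv v s = _
       conv_lhs => rw [← im]
       exact Finset.sum_image fi.injOn
     rw [this]
     simp only [← hf, B, Matrix.mul_apply, Matrix.transpose_apply, Matrix.of_apply, Matrix.mulVec, dotProduct,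
       Finset.sum_mul, Finset.mul_sum]
     refine (Finset.sum_congr rfl fun _ _ => Finset.sum_comm).trans (Finset.sum_comm.trans ?_)
     exact Finset.sum_congr rfl fun _ _ => Finset.sum_congr rfl fun _ _ => Finset.sum_congr rfl fun _ _ => by ring
  let R (v : T) : Prop := ∃ u, tv v = B.mulVec u
  have r1 : ∀ g v v', R v → (ρ g).mulVec (tv v) = tv v' → R v' := fun g v v' ⟨u, e⟩ e' =>
    ⟨(ρ g⁻¹).transpose.mulVec u, by
      rw [← e', e]
      conv_rhs => rw [← hB g]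
      rw [Matrix.mulVec_mulVec, Matrix.mulVec_mulVec, Matrix.mul_assoc, ← Matrix.transpose_mul, ← map_mul,
        inv_mul_cancel, map_one, Matrix.transpose_one, Matrix.mul_one]⟩
  have r2 : ∀ v, R v → R (-v) := fun v ⟨u, e⟩ => ⟨-u, by rw [tv_neg, e, Matrix.mulVec_neg]⟩
  have r3 : ∀ v, R v → R (act 1 0 0 v - v) := fun v a => by
    obtain ⟨u', e'⟩ := r1 (φ (1, 0, 0)) v _ a (by rw [hφ, mP_act])
    obtain ⟨u, e⟩ := a
    exact ⟨u' - u, by rw [tv_sub, e, e', Matrix.mulVec_sub]⟩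
  have r4 : ∀ v, R v → v.1 = 0 ∧ v.2.1 = 0 ∧ v.2.2.1 = 0 := fun v ⟨u, e⟩ => by
    have k : ∀ r : Fin 6, r.1 < 3 → tv v r = 0 := fun r hr => by
      rw [e]
      show ∑ s, B r s * u s = 0
      exact Finset.sum_eq_zero fun s _ => by rw [show B r s = 0 from b2 r s hr, zero_mul]
    exact ⟨k 0 (by decide), k 1 (by decide), k 2 (by decide)⟩
  have rz : R (rep 0) := by
    obtain ⟨v, e⟩ := tv_surj (B.mulVec (Pi.single s 1))
    have a : R v := ⟨_, e.symm⟩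
    have n : v ≠ 0 := fun c => b1 (by
      have := congrFun e r
      rwa [c, tv_zero, Matrix.mulVec_single_one] at this)
    rcases (c_z v (r4 v a).1 (r4 v a).2.1 (r4 v a).2.2).2 n with c | c | c | c | c | c <;> rw [← c]
    exacts [a, r2 _ a, r3 _ a, r2 _ (r3 _ a), r3 _ (r3 _ a), r2 _ (r3 _ (r3 _ a))]
  refine hne (eq_top_iff.2 fun g _ => p3 _ (φ (0, 0, 1)).2 (fun c => ?_) g (hz _ (Or.inl ?_)))
  · have := hφ (0, 0, 1)
    rw [c, map_one, ← mP_zero] at this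
    exact absurd (mP_inj this).2.2 (by decide)
  · obtain ⟨v, e⟩ := tv_surj ((ρ g).mulVec (tv (rep 0)))
    have a := r4 v (r1 g _ v rz e)
    rw [mv_mul, mv_mul, e, hφ, mP_act, (c_z v a.1 a.2.1 a.2.2).1, ← e, mv_inv]

end H18.CO
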