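import Mathlib
import Cfsg.Agent.Base
import Cfsg.Agent.Lib.CO3.K7
import Cfsg.Agent.Lib.CO3.CH

set_option autoImplicit false
set_option maxRecDepth 100000

namespace H18.CO

open Subgroup H54 H2 H90 H91 H93.R3 H18.TH Cfsg Cfsg.FusionSystem
open scoped commutatorElement Pointwise

local notation:max "𝐍(" A ")" => Subgroup.normalizer (SetLike.coe A)
local notation:max "𝐂(" A ")" => Subgroup.centralizer (SetLike.coe A)

universe u v

variable {Γ : Type u} [Group Γ] [Finite Γ] {Γ' : Type v} [Group Γ'] [Finite Γ'] {S E : Subgroup Γ}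
  {S' : Subgroup Γ'} {el : ℕ → Γ} {el' : ℕ → Γ'} {g : Γ} {b : Bool}

/-- coordinates on an elementary abelian group -/
theorem kb_rep {k : ℕ} (c : Fin k → Γ) (ea : EA 3 E) (pE : IsPGroup 3 E) (hc : ∀ i, c i ∈ E)
    (hE : E ≤ closure (Set.range c)) (lE : lg 3 E = k) :
    ∃ ρ : 𝐍(E) →* Matrix (Fin k) (Fin k) (ZMod 3), (∀ g, ρ g = 1 ↔ g.1 ∈ 𝐂(E)) ∧
      ∀ (g : 𝐍(E)) (X : Matrix (Fin k) (Fin k) (ZMod 3)),
        (∀ j, g.1 * c j * g.1⁻¹ = (List.ofFn fun i => c i ^ (X i j).val).prod) → ρ g = X := by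
  classical
  have : Fact (Nat.Prime 3) := ⟨Nat.prime_three⟩
  obtain ⟨V, _, _, ⟨A⟩⟩ := exists_act ea.eq (le_refl 𝐍(E)) (norm_bot _)
  let _ : Module (ZMod 3) (Additive V) := AddCommGroup.zmodModule fun x => A.exp x.toMul
  have inj : Function.Injective A.φ := (injective_iff_map_eq_one _).2 fun x hx =>
    Subtype.ext (mem_bot.1 ((A.ker x).1 hx))
  have cV : Nat.card (Additive V) = 3 ^ k := by
    rw [← lE, ← card_eq pE]
    exact (Nat.card_congr (Equiv.ofBijective _ ⟨inj, A.surj⟩)).symm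
  have : Module.Finite (ZMod 3) (Additive V) := Module.Finite.of_finite
  have fr : Fintype.card (Fin k) = Module.finrank (ZMod 3) (Additive V) := by
    rw [Module.natCard_eq_pow_finrank (K := ZMod 3), Nat.card_zmod] at cV
    rw [Fintype.card_fin]
    exact (Nat.pow_right_injective (by norm_num) cV).symm
  let v : Fin k → Additive V := fun i => Additive.ofMul (A.π (c i))
  have sp : ⊤ ≤ Submodule.span (ZMod 3) (Set.range v) := by
    intro w _
    obtain ⟨x, hx, e⟩ := A.π_surj w.toMul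
    have : ∀ y ∈ closure (Set.range c), y ∈ E ∧
        Additive.ofMul (A.π y) ∈ Submodule.span (ZMod 3) (Set.range v) := by
      intro y hy
      induction hy using closure_induction with
      | mem y h => obtain ⟨i, rfl⟩ := h; exact ⟨hc i, Submodule.subset_span ⟨i, rfl⟩⟩
      | one => exact ⟨one_mem _, by rw [(A.π_one (one_mem _)).2 (one_mem _)]; exact zero_mem _⟩
      | mul y z _ _ h1 h2 =>
        exact ⟨mul_mem h1.1 h2.1, by rw [A.π_mul h1.1 h2.1]; exact add_mem h1.2 h2.2⟩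
      | inv y _ h1 => exact ⟨inv_mem h1.1, by rw [A.π_inv h1.1]; exact neg_mem h1.2⟩
    have := (this x (hE hx)).2
    rwa [e] at this
  let B := basisOfTopLeSpanOfCardEqFinrank v sp fr
  have hB : ∀ i, B i = v i := fun i => by simp [B]
  let f : 𝐍(E) →* Module.End (ZMod 3) (Additive V) :=
    { toFun := fun g => AddMonoidHom.toZModLinearMap 3 (MonoidHom.toAdditive (A.t g).toMonoidHom)
      map_one' := by ext; simp
      map_mul' := fun _ _ => by ext; simp }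
  have hf : ∀ g w, f g (Additive.ofMul w) = Additive.ofMul (A.t g w) := fun _ _ => rfl
  refine ⟨(LinearMap.toMatrixAlgEquiv B).toMonoidHom.comp f, fun g => ?_, fun g X h => ?_⟩
  · show LinearMap.toMatrixAlgEquiv B (f g) = 1 ↔ _
    rw [map_eq_one_iff _ (LinearMap.toMatrixAlgEquiv B).injective]
    have e : f g = 1 ↔ A.t g = 1 :=
      ⟨fun e => MulEquiv.ext fun w => by
        have := hf g w
        rw [e] at this
        exact (Additive.ofMul.injective this).symm, fun e => by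
        ext w
        show f g (Additive.ofMul w.toMul) = _
        rw [hf, e]; rfl⟩
    rw [e, A.t_eq_one g.2]
    exact ⟨fun h => mem_cent fun y hy => mem_bot.1 (h y hy), fun h y hy => mem_bot.2 (comm_eq_one h hy)⟩
  · ext i j
    show LinearMap.toMatrixAlgEquiv B (f g) i j = _
    have pr : ∀ l : List Γ, (∀ y ∈ l, y ∈ E) → A.π l.prod = (l.map A.π).prod := fun l => by
      induction l with
      | nil => exact fun _ => (A.π_one (one_mem _)).2 (one_mem _)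
      | cons y l ih =>
        intro hl
        rw [List.prod_cons, List.map_cons, List.prod_cons, A.π_mul (hl y List.mem_cons_self)
          (list_prod_mem fun z hz => hl z (List.mem_cons_of_mem _ hz)),
          ih fun z hz => hl z (List.mem_cons_of_mem _ hz)]
    have e : f g (B j) = ∑ i, X i j • B i := by
      rw [hB, hf, ← A.π_conj g.2 (hc j), h j, pr _ fun y hy => by
        obtain ⟨i, rfl⟩ := List.mem_ofFn.1 hy; exact pow_mem (hc i) _, List.map_ofFn, List.prod_ofFn,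
        ofMul_prod]
      refine Finset.sum_congr rfl fun i _ => ?_
      have e1 : X i j • v i = (X i j).val • v i := by
        rw [← Nat.cast_smul_eq_nsmul (ZMod 3), ZMod.natCast_zmod_val]
      rw [hB, e1, Function.comp_apply, ← zpow_natCast, A.π_zpow (hc i), zpow_natCast]
      rfl
    rw [LinearMap.toMatrixAlgEquiv_apply, e]
    simp [Finsupp.single_apply]

/-- the transfer to the automizer -/
theorem kb_gen {k : ℕ} (ρ : 𝐍(E) →* Matrix (Fin k) (Fin k) (ZMod 3)) (hρ : ∀ g, ρ g = 1 ↔ g.1 ∈ 𝐂(E))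
    (pS : IsPGroup 3 S) (hF : Sat S) (hE : Es S E) (ea : EA 3 E) {x y : 𝐍(E)} (hx : x.1 ∈ S) (hy : y.1 ∈ S)
    (hP : ∀ K : Subgroup Γ, E ≤ K → x.1 ∈ K → y.1 ∈ K → S ⊓ 𝐍(E) ≤ K)
    (ka : ∀ (G₀ : Type u) [Group G₀] [Finite G₀] (σ : G₀ →* Matrix (Fin k) (Fin k) (ZMod 3)),
      Function.Injective σ → ∀ (P : Sylow 3 G₀) (x' y' : G₀), σ x' = ρ x → σ y' = ρ y →
      (P : Subgroup G₀) = closure {x', y'} → ∀ M : Subgroup G₀, (P : Subgroup G₀) ≤ M →
      (∀ t ∈ P, t ≠ 1 → ∀ a, a⁻¹ * t * a ∈ M → a ∈ M) → M = ⊤) : False := by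
  have : Fact (Nat.Prime 3) := ⟨Nat.prime_three⟩
  obtain ⟨M, h⟩ := emb_of pS hF hE
  let θ := QuotientGroup.mk' ρ.ker
  have sθ : Function.Surjective θ := QuotientGroup.mk'_surjective _
  have kθ : ∀ g, θ g = 1 ↔ g.1 ∈ 𝐂(E) := fun g => by
    rw [← hρ, ← MonoidHom.mem_ker, QuotientGroup.ker_mk']; rfl
  let σ := QuotientGroup.lift ρ.ker ρ le_rfl
  have iσ : Function.Injective σ := (injective_iff_map_eq_one _).2 fun q hq => by
    obtain ⟨g, rfl⟩ := sθ q
    exact (kθ g).2 ((hρ g).1 hq)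
  have back : ∀ K : Subgroup Γ, 𝐂(E) ≤ K → ∀ g, θ g ∈ (K.subgroupOf 𝐍(E)).map θ → g.1 ∈ K := by
    intro K hK g hg
    have : g ∈ ((K.subgroupOf 𝐍(E)).map θ).comap θ := hg
    have kk : θ.ker ≤ K.subgroupOf 𝐍(E) := fun z hz => hK ((kθ z).1 hz)
    rwa [comap_map_eq_self kk] at this
  have eT : ((S ⊓ 𝐍(E) ⊔ 𝐂(E)).subgroupOf 𝐍(E)).map θ = ((S ⊓ 𝐍(E)).subgroupOf 𝐍(E)).map θ := by
    refine le_antisymm ?_ (map_mono fun z hz => mem_sup_left hz)
    rintro _ ⟨z, hz, rfl⟩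
    obtain ⟨a, ha, c, hc, e⟩ := (mem_sup_iff' (inf_le_right.trans (norm_cent le_rfl))).1 hz
    refine ⟨⟨a, ha.2⟩, ha, ?_⟩
    have : z = ⟨a, ha.2⟩ * ⟨c, cent_le_norm E hc⟩ := Subtype.ext e
    rw [this, map_mul, (kθ ⟨c, _⟩).2 hc, mul_one]
  have pT : IsPGroup 3 (((S ⊓ 𝐍(E)).subgroupOf 𝐍(E)).map θ) :=
    ((pS.to_le inf_le_left).comap_subtype).map θ
  have iT : ¬ 3 ∣ (((S ⊓ 𝐍(E)).subgroupOf 𝐍(E)).map θ).index := by
    have kk : θ.ker ≤ (S ⊓ 𝐍(E) ⊔ 𝐂(E)).subgroupOf 𝐍(E) := fun z hz =>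
      (mem_sup_right ((kθ z).1 hz) : z.1 ∈ S ⊓ 𝐍(E) ⊔ 𝐂(E))
    rw [← eT, index_map_eq _ sθ kk]
    have h1 := lg_norm pS hF hE.2.1
    have h2 := ((S ⊓ 𝐍(E) ⊔ 𝐂(E)).subgroupOf 𝐍(E)).card_mul_index
    rw [H1.card_subgroupOf_of_le (sup_le inf_le_right (cent_le_norm E))] at h2
    rw [lg, lg, ← h2, padicValNat.mul Nat.card_pos.ne' index_ne_zero_of_finite] at h1
    intro hd
    have := one_le_padicValNat_of_dvd index_ne_zero_of_finite hd
    omega
  have cM : 𝐂(E) ≤ M := le_sup_right.trans h.le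
  have top := ka _ σ iσ (pT.toSylow iT) (θ x) (θ y) rfl rfl ?_ ((M.subgroupOf 𝐍(E)).map θ)
    (map_mono fun z hz => h.sM hz) ?_
  · exact h.ne fun a ha => back M cM ⟨a, ha⟩ (top ▸ mem_top _)
  · refine le_antisymm ?_ ((closure_le _).2 ?_)
    · rintro _ ⟨z, hz, rfl⟩
      obtain ⟨w, hw, e⟩ := hP (((closure {θ x, θ y}).comap θ).map 𝐍(E).subtype)
        (fun e he => ⟨⟨e, le_normalizer he⟩, by
          show θ ⟨e, le_normalizer he⟩ ∈ closure {θ x, θ y}
          rw [(kθ ⟨e, _⟩).2 (ea.comm he)]; exact one_mem _, rfl⟩)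
        ⟨x, subset_closure (Or.inl rfl), rfl⟩ ⟨y, subset_closure (Or.inr rfl), rfl⟩ hz
      obtain rfl : w = z := Subtype.ext e
      exact hw
    · rintro _ (rfl | rfl)
      · exact ⟨x, ⟨hx, x.2⟩, rfl⟩
      · exact ⟨y, ⟨hy, y.2⟩, rfl⟩
  · rintro _ ⟨t, ht, rfl⟩ h1 a ha
    obtain ⟨a, rfl⟩ := sθ a
    rw [← map_inv, ← map_mul, ← map_mul] at ha
    exact ⟨a, h.p3 t ht (fun e => h1 ((kθ t).2 (ea.comm e))) a a.2 (back M cM _ ha), rfl⟩

omit [Finite Γ] in
theorem Md.kb_pr (m : Md S el) : ∀ l : List (ℕ × ZMod 3),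
    Val (l.foldr (fun p a => mu (H18.CO.mp 0 (enc p.1) p.2.val) a) 0) ∧
    el (l.foldr (fun p a => mu (H18.CO.mp 0 (enc p.1) p.2.val) a) 0) =
      (l.map fun p => el (enc p.1) ^ p.2.val).prod
  | [] => ⟨val_zero, m.one⟩
  | p :: l => by
    obtain ⟨h1, h2⟩ := m.kb_pr l
    have v := val_zero.mp (val_enc p.1) p.2.val
    refine ⟨v.mu h1, ?_⟩
    rw [List.foldr_cons, m.mul v h1, h2, m.mp val_zero (val_enc _) (ZMod.val_lt _), m.one, one_mul]
    rfl

theorem Md.kb_fin {k : ℕ} (m : Md S el) (pS : IsPGroup 3 S) (hF : Sat S) (L : Fin k → ℕ) {L' N : List ℕ}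
    (hL : em L' = List.ofFn fun i => enc (L i)) {x y : ℕ} {X Y : Matrix (Fin k) (Fin k) (ZMod 3)}
    (e1 : H18.CO.ceB (em L') (em L') = true) (e2 : H18.CO.lgB (em L') = true)
    (e3 : allL (fun t => Nat.beq (H18.CO.cu t) 0) (em L') = true)
    (e4 : H18.CO.nmB (em [x, y]) (em L') = true) (hN : S ⊓ 𝐍(G el L') ≤ G el N)
    (e5 : H18.CO.leB (em N) (H18.CO.cm (enc x) (enc y) :: enc x :: enc y :: em L') = true)
    (hX : ∀ j, H18.CO.cg (enc x) (enc (L j)) = (List.ofFn fun i => (L i, X i j)).foldr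
      (fun p a => mu (H18.CO.mp 0 (enc p.1) p.2.val) a) 0)
    (hY : ∀ j, H18.CO.cg (enc y) (enc (L j)) = (List.ofFn fun i => (L i, Y i j)).foldr
      (fun p a => mu (H18.CO.mp 0 (enc p.1) p.2.val) a) 0)
    (ka : ∀ (G₀ : Type u) [Group G₀] [Finite G₀] (σ : G₀ →* Matrix (Fin k) (Fin k) (ZMod 3)),
      Function.Injective σ → ∀ (P : Sylow 3 G₀) (x' y' : G₀), σ x' = X → σ y' = Y →
      (P : Subgroup G₀) = closure {x', y'} → ∀ M : Subgroup G₀, (P : Subgroup G₀) ≤ M →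
      (∀ t ∈ P, t ≠ 1 → ∀ a, a⁻¹ * t * a ∈ M → a ∈ M) → M = ⊤) : ¬ Es S (G el L') := by
  intro hE
  have : Fact (Nat.Prime 3) := ⟨Nat.prime_three⟩
  have hc : ∀ i, el (enc (L i)) ∈ G el L' := fun i => mem_gp (hL ▸ List.mem_ofFn.2 ⟨i, rfl⟩)
  have cl : G el L' ≤ closure (Set.range fun i => el (enc (L i))) := gp_le.2 fun t ht => by
    obtain ⟨i, rfl⟩ := List.mem_ofFn.1 (hL ▸ ht)
    exact subset_closure ⟨i, rfl⟩
  have cm := m.ceB (av_em _) (av_em _) e1
  have ea : EA 3 (G el L') := ⟨cm, fun z hz => by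
    have : G el L' ≤ om 3 (G el L') := gp_le.2 fun t ht => ⟨mem_gp ht, cm (mem_gp ht), by
      rw [← m.cu (av_em _ t ht), Nat.eq_of_beq_eq_true ((allL_iff _ _).1 e3 t ht), m.one]⟩
    exact (this hz).2.2⟩
  have lE : lg 3 (G el L') = k := by rw [m.lgG pS e2, hL, List.length_ofFn]
  obtain ⟨ρ, h1, h2⟩ := kb_rep _ ea (pS.to_le (m.gp_le_S _)) hc cl lE
  have n := m.nmB (av_em _) (av_em _) e4
  have nx : el (enc x) ∈ 𝐍(G el L') := n (mem_gp List.mem_cons_self)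
  have ny : el (enc y) ∈ 𝐍(G el L') := n (mem_gp (List.mem_cons_of_mem _ List.mem_cons_self))
  have key : ∀ {z : ℕ} (nz : el (enc z) ∈ 𝐍(G el L')) {Z : Matrix (Fin k) (Fin k) (ZMod 3)},
      (∀ j, H18.CO.cg (enc z) (enc (L j)) = (List.ofFn fun i => (L i, Z i j)).foldr
        (fun p a => mu (H18.CO.mp 0 (enc p.1) p.2.val) a) 0) → ρ ⟨_, nz⟩ = Z := fun nz Z hZ =>
    h2 _ _ fun j => by
      rw [← m.cg (val_enc _) (val_enc _), hZ j, (m.kb_pr _).2, List.map_ofFn]; rfl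
  refine kb_gen ρ h1 pS hF hE ea (x := ⟨_, nx⟩) (y := ⟨_, ny⟩) (m.mem _) (m.mem _)
    (fun K k1 k2 k3 => hN.trans ((m.leB (av_em _) ?_ e5).trans ?_)) (by rwa [key nx hX, key ny hY])
  · intro t ht
    simp only [List.mem_cons] at ht
    rcases ht with rfl | rfl | rfl | ht
    exacts [(val_enc _).cm (val_enc _), val_enc _, val_enc _, av_em _ t ht]
  · refine gp_le.2 fun t ht => ?_
    simp only [List.mem_cons] at ht
    rcases ht with rfl | rfl | rfl | ht
    · rw [m.cm (val_enc _) (val_enc _), commutatorElement_def]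
      exact mul_mem (mul_mem (mul_mem k2 k3) (inv_mem k2)) (inv_mem k3)
    exacts [k2, k3, k1 (mem_gp ht)]

theorem Md.not_es_A (m : Md S el) (pS : IsPGroup 3 S) (hF : Sat S) : ¬ Es S (G el LA) := by
  have : Fact (Nat.Prime 3) := ⟨Nat.prime_three⟩
  exact m.kb_fin pS hF ![729, 81, 27, 9, 3, 1] (N := LS) (x := 6561) (y := 2187) (X := mX6) (Y := mY6)
    (by decide +kernel) (by decide +kernel) (by decide +kernel) (by decide +kernel) (by decide +kernel)
    (inf_le_left.trans (m.top pS).ge) (by decide +kernel) (by decide +kernel) (by decide +kernel)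
    fun _ _ _ σ hi P _ _ hx hy hP _ hM p3 => ka6 σ hi P hx hy hP hM p3

theorem Md.not_es_U (m : Md S el) (pS : IsPGroup 3 S) (hF : Sat S) : ¬ Es S (G el LU) := by
  have : Fact (Nat.Prime 3) := ⟨Nat.prime_three⟩
  have n : G el LS ⊓ 𝐍(G el LU) = G el LE3 := m.nmQ pS (A := [729]) (by decide +kernel)
  rw [m.top pS] at n
  exact m.kb_fin pS hF ![2187, 243, 9, 3, 1] (N := LE3) (x := 6561) (y := 81) (X := mX5) (Y := mY5)
    (by decide +kernel) (by decide +kernel) (by decide +kernel) (by decide +kernel) (by decide +kernel)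
    n.le (by decide +kernel) (by decide +kernel) (by decide +kernel)
    fun _ _ _ σ hi P _ _ hx hy hP _ hM p3 => ka5 σ hi P hx hy hP hM p3

end H18.CO
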