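import Mathlib
import Cfsg.Agent.Base
import Cfsg.Agent.Lib.CO3.CH

set_option autoImplicit false
set_option maxRecDepth 100000

namespace H18.CO

open Subgroup H54 H2 H90 H91 H93.R3 H18.TH Cfsg Cfsg.FusionSystem
open scoped commutatorElement Pointwise

local notation:max "𝐍(" A ")" => Subgroup.normalizer (SetLike.coe A)
local notation:max "𝐂(" A ")" => Subgroup.centralizer (SetLike.coe A)

universe u v

variable {Γ : Type u} [Group Γ] [Finite Γ] {Γ' : Type v} [Group Γ'] [Finite Γ'] {S E : Subgroup Γ}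
  {S' : Subgroup Γ'} {el : ℕ → Γ} {el' : ℕ → Γ'} {g : Γ} {b : Bool}

theorem Md.kx_cm (m : Md S el) {n : ℕ} {B C : List ℕ} (e : H18.CO.cmB (em [n]) (em B) (em C) = true) :
    ∀ x ∈ G el B, ⁅el (enc n), x⁆ ∈ G el C := fun _ hx =>
  comm_mem (m.cmB (av_em _) (av_em _) (av_em _) e) (mem_gp List.mem_cons_self) hx

theorem Md.kx_nm (m : Md S el) {n : ℕ} {B : List ℕ} (e : H18.CO.nmB (em [n]) (em B) = true) :
    el (enc n) ∈ 𝐍(G el B) := m.nmB (av_em _) (av_em _) e (mem_gp List.mem_cons_self)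

theorem kx_cube {H : Subgroup Γ} {z : Γ} (h3 : g ^ 3 ∈ H) (hn : g ∈ 𝐍(H)) (hz : z ∈ H ⊔ zpowers g) :
    z ^ 3 ∈ H := by
  rcases Md.three h3 hn hz with h | ⟨k, h, rfl⟩ | ⟨k, h, rfl⟩
  · exact pow_mem h 3
  · have := mul_mem (mul_mem (conj_mem hn h) (conj_mem (mul_mem hn hn) h)) (mul_mem h3 h)
    convert this using 1
    simp only [pow_succ, pow_zero]
    group
  · have := mul_mem (mul_mem (conj_mem (mul_mem hn hn) h) (conj_mem (pow_mem hn 4) h))
      (mul_mem (mul_mem h3 h3) h)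
    convert this using 1
    simp only [pow_succ, pow_zero, one_mul, mul_inv_rev, mul_assoc, inv_mul_cancel_left]

theorem Md.not_es_R (m : Md S el) (pS : IsPGroup 3 S) (hF : Sat S) (b : Bool) : ¬ Es S (G el (LR b)) := by
  intro hE
  haveI : Fact (Nat.Prime 3) := ⟨Nat.prime_three⟩
  obtain ⟨M, h⟩ := emb_of pS hF hE
  have o := m.ok pS
  have c : ∀ x ∈ G el LH, ⁅el (enc 2187), x⁆ ∈ G el LH := m.kx_cm (by decide +kernel)
  have n2 : 𝐍(G el (LR b)) ≤ 𝐍(G el LH) := ((o.nR b).trans o.nP).trans inf_le_left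
  refine h.kill3 (pS.to_le (m.gp_le_S _)) (X₁ := G el LP) (X₂ := G el LH) (X₃ := G el LH)
    (m.leB (av_em _) (av_em _) (by cases b <;> decide +kernel))
    (m.leB (av_em _) (av_em _) (by decide +kernel)) le_rfl (o.nR b) n2 n2 (g := el (enc 2187))
    ⟨m.mem _, o.sR b (m.mem _)⟩
    (m.nmemB pS (av_em _) (by cases b <;> decide +kernel) (val_enc _) (by cases b <;> decide +kernel))
    (m.kx_cm (by cases b <;> decide +kernel)) (m.kx_cm (by decide +kernel)) c ?_
  rw [o.phR b]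
  exact c

theorem Md.not_es_V (m : Md S el) (pS : IsPGroup 3 S) (hF : Sat S) : ¬ Es S (G el LV) := by
  intro hE
  haveI : Fact (Nat.Prime 3) := ⟨Nat.prime_three⟩
  obtain ⟨M, h⟩ := emb_of pS hF hE
  have o := m.ok pS
  have pE : IsPGroup 3 (G el LV) := pS.to_le (m.gp_le_S _)
  have r : G el LV ⊓ relCentralizer (G el LV) (G el LL) = G el LF3 :=
    m.rcQ pS (A := [2187, 81]) (by decide +kernel)
  have hW : G el LW ≤ ph (G el LV) := by
    rw [← m.cmQ0 (A := LV) (B := LV) (C := LW) (Q := [(2187, 81), (2187, 27), (243, 27)]) (by decide +kernel)]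
    exact ((ph_le pE).1 le_rfl).1
  have t2 : el (enc 729) ∈ 𝐍(G el LV) := m.kx_nm (by decide +kernel)
  have c2 : el (enc 729) ∈ 𝐂(G el LW) :=
    m.ceB (av_em [729]) (av_em _) (by decide +kernel) (mem_gp List.mem_cons_self)
  refine h.ne fun a ha => ?_
  have s1 : a * el (enc 729) * a⁻¹ ∈ 𝐍(G el LV) := mul_mem (mul_mem ha t2) (inv_mem ha)
  have s2 : a * el (enc 729) * a⁻¹ ∈ 𝐂(G el LW) := conj_mem (norm_cent o.nVW ha) c2
  have s3 : (a * el (enc 729) * a⁻¹) ^ 3 = 1 := by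
    rw [conj_pow, ← m.cu (val_enc _), show H18.CO.cu (enc 729) = 0 by decide +kernel, m.one, mul_one,
      mul_inv_cancel]
  generalize hs : a * el (enc 729) * a⁻¹ = s at s1 s2 s3
  have z1 := zpowers_le_of_mem s1
  have z2 := zpowers_le_of_mem s2
  have z3 : zpowers s ≤ 𝐍(G el LF3) := by
    rw [← r]
    exact norm_inf z1 (norm_rc z1 (norm_of_cent z2 (m.leB (av_em _) (av_em _) (by decide +kernel))))
  have z4 := norm_inf (norm_inf (norm_norm z1) (norm_rc z1 z3)) (norm_rc z3 (norm_of_cent z2 le_rfl))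
  refine h.p4 (el (enc 6561)) ⟨m.mem _, m.kx_nm (by decide +kernel)⟩
    (m.nmemB pS (av_em _) (by decide +kernel) (val_enc _) (by decide +kernel)) _ ⟨m.mem _, t2⟩
    (m.nmemB pS (av_em _) (by decide +kernel) (val_enc _) (by decide +kernel)) a ha
    (𝐍(G el LV) ⊓ relCentralizer (G el LV) (G el LF3) ⊓ relCentralizer (G el LF3) (G el LW) ⊔ zpowers s)
    (sup_le (inf_le_left.trans inf_le_left) z1) (fun x hx hc => ?_)
    (mem_sup_left ⟨⟨m.kx_nm (by decide +kernel), mem_rc.2 ⟨m.kx_nm (by decide +kernel),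
      m.kx_cm (by decide +kernel)⟩⟩, mem_rc.2 ⟨m.kx_nm (by decide +kernel), m.kx_cm (by decide +kernel)⟩⟩)
    (hs ▸ mem_sup_right (mem_zpowers _))
  have k := H93.R3.mem_of_pow_coprime (pow_orderOf_eq_one x ▸ one_mem _)
    (kx_cube (s3 ▸ one_mem _) (z4 (mem_zpowers s)) hx) hc
  have k1 := mem_rc.1 k.1.2
  have k2 := mem_rc.1 k.2
  exact cent_of_ph pE hc k.1.1 fun y hy =>
    hW (comm_mem_of_coprime (pS.to_le (m.gp_le_S _)) hc k2.1 (k1.2 y hy) k2.2)

theorem Md.not_es_B (m : Md S el) (pS : IsPGroup 3 S) (hF : Sat S) : ¬ Es S (G el [2187, 729, 81, 27, 9, 3, 1]) := by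
  intro hE
  haveI : Fact (Nat.Prime 3) := ⟨Nat.prime_three⟩
  obtain ⟨M, h⟩ := emb_of pS hF hE
  have z := m.ceQ (H := [2187, 729, 81, 27, 9, 3, 1]) (A := [2187, 729, 81, 27]) (B := LW)
    (L := [2187, 729, 81, 27, 9, 3, 1]) (by decide +kernel)
  have r := m.rcQ pS (H := [2187, 729, 81, 27, 9, 3, 1]) (A := [2187, 729]) (B := LH)
    (L := [2187, 729, 81, 27, 9, 3, 1]) (K := LW) (by decide +kernel)
  have n2 : 𝐍(G el [2187, 729, 81, 27, 9, 3, 1]) ≤ 𝐍(G el LW) := by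
    conv_rhs => rw [← z]
    exact norm_inf le_rfl (norm_cent le_rfl)
  have n1 : 𝐍(G el [2187, 729, 81, 27, 9, 3, 1]) ≤ 𝐍(G el LH) := by
    conv_rhs => rw [← r]
    exact norm_inf le_rfl (norm_rc le_rfl n2)
  refine h.kill3 (pS.to_le (m.gp_le_S _)) (X₁ := G el LH) (X₂ := G el LW) (X₃ := ⊥)
    (m.leB (av_em _) (av_em _) (by decide +kernel)) (m.leB (av_em _) (av_em _) (by decide +kernel))
    bot_le n1 n2 (norm_bot _) (g := el (enc 243)) ⟨m.mem _, m.kx_nm (by decide +kernel)⟩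
    (m.nmemB pS (av_em _) (by decide +kernel) (val_enc _) (by decide +kernel))
    (m.kx_cm (by decide +kernel)) (m.kx_cm (by decide +kernel)) (fun x hx => ?_) fun x hx => ?_
  · exact comm_eq_one (m.ceB (av_em [243]) (av_em _) (by decide +kernel) (mem_gp List.mem_cons_self)) hx
  · rw [mem_bot.1 hx, commutatorElement_one_right]
    exact one_mem _

end H18.CO
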