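import Mathlib
import Cfsg.Agent.Base
import Cfsg.Agent.Lib.CO3.Defs

set_option autoImplicit false
set_option maxRecDepth 100000

namespace H18.CO

open Subgroup H54 H2 H90 H91 H93.R3 H18.TH Cfsg Cfsg.FusionSystem
open scoped commutatorElement Pointwise

local notation:max "𝐍(" A ")" => Subgroup.normalizer (SetLike.coe A)
local notation:max "𝐂(" A ")" => Subgroup.centralizer (SetLike.coe A)

universe u v

variable {Γ : Type u} [Group Γ] [Finite Γ] {Γ' : Type v} [Group Γ'] [Finite Γ'] {S E : Subgroup Γ}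
  {S' : Subgroup Γ'} {el : ℕ → Γ} {el' : ℕ → Γ'} {g : Γ} {b : Bool}

/-- the generators in `X` are Engel elements of `L`, and there are none outside `X` -/
noncomputable def kyE (L X : List ℕ) (w : ℕ) : Bool :=
  band (allL (fun x => allE (fun y => co (cm y x) x) (em L) 0) (em X))
    (band (allE (fun z => bor ((tb (em X)).mem z) (nb (co (cm (enc w) z) z))) (em L) 0)
      (band ((tb (em L)).mem (enc w)) (band (pcb (em L)) (leB (em X) (em L)))))

/-- the chain -/
noncomputable def kyC (L X A P : List ℕ) (Q : List (ℕ × ℕ)) (g : ℕ) : Bool :=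
  band (lgB (em L)) (band (ceQ X A LW X) (band (cmQ L L [] P Q) (band (leB (em P) (em X))
    (band (nmB (em [g]) (em L)) (band ((tb (em L)).nm (len (em L)) (enc g))
      (band (cmB (em [g]) (em L) (em X)) (band (cmB (em [g]) (em X) (em LW ++ em P))
        (cmB (em [g]) (em LW ++ em P) (em P)))))))))

theorem KY.eng (E : Subgroup Γ) : 𝐍(E) ≤ 𝐍(closure {x | x ∈ E ∧ ∀ y ∈ E, ⁅⁅y, x⁆, x⁆ = 1}) :=
  le_norm fun a ha x hx => by
    have : closure {x | x ∈ E ∧ ∀ y ∈ E, ⁅⁅y, x⁆, x⁆ = 1} ≤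
        cn a⁻¹ (closure {x | x ∈ E ∧ ∀ y ∈ E, ⁅⁅y, x⁆, x⁆ = 1}) :=
      (closure_le _).2 fun z hz => mem_cn.2 (by
        rw [inv_inv]
        refine subset_closure ⟨conj_mem ha hz.1, fun y hy => ?_⟩
        have := congrArg (fun t => a * t * a⁻¹) (hz.2 _ (conj_mem' ha hy))
        simp only [conj_comm, mul_one, mul_inv_cancel] at this
        rwa [show a * (a⁻¹ * y * a) * a⁻¹ = y by group] at this)
    have := this hx
    rwa [mem_cn, inv_inv] at this

theorem Md.kyE (m : Md S el) {L X : List ℕ} {w : ℕ} (e : kyE L X w = true) :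
    G el X ≤ G el L ∧ 𝐍(G el L) ≤ 𝐍(G el X) := by
  simp only [H18.CO.kyE, band_eq_true, allL_iff] at e
  obtain ⟨e1, e2, e3, e4, e5⟩ := e
  have le := m.leB (av_em _) (av_em _) e5
  refine ⟨le, ?_⟩
  rw [show G el X = closure {x | x ∈ G el L ∧ ∀ y ∈ G el L, ⁅⁅y, x⁆, x⁆ = 1} from
    le_antisymm (gp_le.2 fun x hx => subset_closure ⟨le (mem_gp hx), fun y hy => by
      obtain ⟨t, v, c, rfl⟩ := m.allG e4 (e1 x hx) hy
      rw [← m.cm v (av_em _ x hx)]
      exact (m.co (v.cm (av_em _ x hx)) (av_em _ x hx)).1 c⟩) ((closure_le _).2 fun z hz => by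
      obtain ⟨t, v, c, rfl⟩ := m.allG e4 e2 hz.1
      rcases (bor_eq_true _ _).1 c with c | c
      · exact m.memB (av_em _) v c
      · refine absurd ((m.co ((val_enc _).cm v) v).2 ?_) ((nb_eq _).1 c)
        rw [m.cm (val_enc _) v]
        exact hz.2 _ (m.memB (av_em _) (val_enc _) e3))]
  exact KY.eng _

theorem Md.kyC (m : Md S el) (pS : IsPGroup 3 S) (hF : Sat S) {L X A P : List ℕ} {Q : List (ℕ × ℕ)} {g w : ℕ}
    (e0 : H18.CO.kyE L X w = true) (e : kyC L X A P Q g = true) : ¬ Es S (G el L) := fun hE => by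
  obtain ⟨M, hM⟩ := emb_of pS hF hE
  obtain ⟨l1, n1⟩ := m.kyE e0
  simp only [H18.CO.kyC, band_eq_true] at e
  obtain ⟨e1, e2, e3, e4, e5, e6, e7, e8, e9⟩ := e
  have pE := pS.to_le (m.gp_le_S (em L))
  have z := m.ceQ e2
  have d := m.cmQ0 e3
  have a := (av_em LW).append (av_em P)
  have hg : el (enc g) ∈ G el [g] := mem_gp List.mem_cons_self
  have n3 : 𝐍(G el L) ≤ 𝐍(G el P) := d ▸ norm_comm le_rfl le_rfl
  refine hM.kill3 pE (X₂ := gp el (em LW ++ em P)) (X₃ := G el P) l1 ?_ ?_ n1 ?_ n3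
    ⟨m.mem _, m.nmB (av_em _) (av_em _) e5 hg⟩ (m.nmemB pS (av_em _) e1 (val_enc _) e6)
    (fun x => comm_mem (m.cmB (av_em _) (av_em _) (av_em _) e7) hg)
    (fun x => comm_mem (m.cmB (av_em _) (av_em _) a e8) hg)
    (fun x => comm_mem (m.cmB (av_em _) a (av_em _) e9) hg) fun x hx => ?_
  · rw [gp_append]
    exact sup_le (z.ge.trans inf_le_left) (m.leB (av_em _) (av_em _) e4)
  · rw [gp_append]; exact le_sup_right
  · rw [gp_append]
    exact norm_sup (X := G el LW) (z ▸ norm_inf n1 (norm_cent n1)) n3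
  · exact ((ph_le pE).1 le_rfl).1 (d ▸ comm_mem_r (n3 (m.nmB (av_em _) (av_em _) e5 hg)) hx)

theorem KY.e1 : kyE [10935, 243, 81, 27, 9, 3, 1] LF 27 = true := by decide +kernel
theorem KY.e2 : kyE [8748, 243, 81, 27, 9, 3, 1] LF 27 = true := by decide +kernel
theorem KY.e3 : kyE [6561, 2187, 243, 27, 9, 3, 1] [2187, 243, 27, 9, 3, 1] 9 = true := by decide +kernel
theorem KY.e4 : kyE [6723, 2187, 243, 27, 9, 3, 1] [2187, 243, 27, 9, 3, 1] 243 = true := by decide +kernel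
theorem KY.e5 : kyE [6642, 2187, 243, 27, 9, 3, 1] [2187, 243, 27, 9, 3, 1] 243 = true := by decide +kernel

theorem Md.not_es_Q (m : Md S el) (pS : IsPGroup 3 S) (hF : Sat S) : ∀ L ∈ [[10935, 243, 81, 27, 9, 3, 1], [8748, 243, 81, 27, 9, 3, 1],
    [6561, 2187, 243, 27, 9, 3, 1], [6723, 2187, 243, 27, 9, 3, 1], [6642, 2187, 243, 27, 9, 3, 1]],
    ¬ Es S (G el L) := by
  simp only [List.mem_cons, List.not_mem_nil, or_false]
  rintro _ (rfl | rfl | rfl | rfl | rfl)
  · exact m.kyC pS hF (A := [243, 81, 27]) (P := [36, 3, 1]) (Q := [(10935, 81), (243, 81), (243, 27)])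
      (g := 729) KY.e1 (by decide +kernel)
  · exact m.kyC pS hF (A := [243, 81, 27]) (P := [45, 3, 1]) (Q := [(8748, 81), (243, 81), (243, 27)])
      (g := 729) KY.e2 (by decide +kernel)
  · exact m.kyC pS hF (A := [2187, 243, 27]) (P := [243, 3, 1]) (Q := [(6561, 2187), (2187, 27), (243, 27)])
      (g := 81) KY.e3 (by decide +kernel)
  · exact m.kyC pS hF (A := [2187, 243, 27]) (P := [261, 3, 1]) (Q := [(6723, 2187), (2187, 27), (243, 27)])
      (g := 81) KY.e4 (by decide +kernel)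
  · exact m.kyC pS hF (A := [2187, 243, 27]) (P := [252, 3, 1]) (Q := [(6642, 2187), (2187, 27), (243, 27)])
      (g := 81) KY.e5 (by decide +kernel)

end H18.CO
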