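import Mathlib
import Cfsg.Agent.Base
import Cfsg.Agent.Lib.CO3.CtA
import Cfsg.Agent.Lib.CO3.CH
import Cfsg.Agent.Lib.CO3.KB
import Cfsg.Agent.Lib.CO3.KX
import Cfsg.Agent.Lib.CO3.KY

/-! The list of the candidates for essential subgroups. -/

set_option autoImplicit false

namespace H18.CO

open Subgroup H54 H2 H93.R3 H18.TH

theorem Md.cls {Γ : Type*} [Group Γ] [Finite Γ] {S : Subgroup Γ} {el : ℕ → Γ}
    (m : Md S el) (pS : IsPGroup 3 S) (hF : Sat S) : Cls S el := by
  haveI : Fact (Nat.Prime 3) := ⟨by norm_num⟩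
  intro E hE
  obtain ⟨L, hL, s, hs, rfl⟩ := m.cls0 pS hF E hE
  have o := m.ok pS
  have h := ess_cn pS hF hE (inv_mem hs)
  rw [cn_inv_cn] at h
  have q := m.not_es_Q pS hF
  simp only [LKZ, List.mem_cons, List.not_mem_nil, or_false] at hL
  rcases hL with rfl | rfl | rfl | rfl | rfl | rfl | rfl | rfl | rfl | rfl | rfl | hL
  · exact Or.inl (cn_eq (o.nS1 (le_normalizer hs)))
  · exact Or.inr (Or.inl (cn_eq (o.nS2 (le_normalizer hs))))
  · exact Or.inr (Or.inr (Or.inl (cn_eq (o.nS3 (le_normalizer hs)))))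
  · exact Or.inr (Or.inr (Or.inr ⟨true, s, hs, rfl⟩))
  · exact Or.inr (Or.inr (Or.inr ⟨false, s, hs, rfl⟩))
  · exact (m.not_es_A pS hF h).elim
  · exact (m.not_es_U pS hF h).elim
  · exact (m.not_es_R pS hF true h).elim
  · exact (m.not_es_R pS hF false h).elim
  · exact (m.not_es_V pS hF h).elim
  · exact (m.not_es_B pS hF h).elim
  · exact (q L (by simpa only [List.mem_cons, List.not_mem_nil, or_false] using hL) h).elim

theorem co3cls_eq : True := trivial

end H18.CO
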