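import Mathlib
import Cfsg.Agent.Base
import Cfsg.Agent.Lib.CO3.Defs

/-! Words acting on the abelian subgroup `A`. -/

set_option autoImplicit false
set_option maxRecDepth 100000

namespace H18.CO

open Subgroup H54 H2 H93.R3 H18.TH
open scoped commutatorElement Pointwise

local notation:max "𝐍(" A ")" => Subgroup.normalizer (SetLike.coe A)
local notation:max "𝐂(" A ")" => Subgroup.centralizer (SetLike.coe A)

universe u

noncomputable def eqL (A : List ℕ) : List ℕ → Bool :=
  List.rec (motive := fun _ => List ℕ → Bool)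
    (fun B => List.rec (motive := fun _ => Bool) true (fun _ _ _ => false) B)
    (fun a _ ih B => List.rec (motive := fun _ => Bool) false
      (fun b B' _ => band (Nat.beq a b) (ih B')) B) A

theorem eqL_iff : ∀ A B : List ℕ, eqL A B = true ↔ A = B
  | [], [] => by simp [eqL]
  | [], _ :: _ => by simp [eqL]
  | _ :: _, [] => by simp [eqL]
  | a :: A, b :: B => by
    show band (Nat.beq a b) (eqL A B) = true ↔ _
    rw [band_eq_true, Nat.beq_eq, eqL_iff, List.cons.injEq]

/-- the product of the letters of `w` applied to the generators of `A`; `[]` if a domain check fails -/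
noncomputable def wdM (Ls : ℕ → List ℕ) (w : List ℕ) : List ℕ :=
  List.rec (motive := fun _ => List ℕ) IA (fun i _ ih =>
    Bool.rec (motive := fun _ => List ℕ) [] (cp (Ls i) ih) (allL (dm (Ls i)) ih)) w

/-- `M ^ j` on `A` -/
noncomputable def pwM (M : List ℕ) (j : ℕ) : List ℕ := wdM (fun _ => M) (List.replicate j 0)

/-- `M ^ j` has order `9` on `A` -/
noncomputable def k9 (M : List ℕ) (j : ℕ) : Bool :=
  band (eqL (pwM (pwM (pwM M j) 3) 3) IA) (anyL (fun x => band (dm (pwM (pwM M j) 3) x)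
    (nb (Nat.beq (eb (pwM (pwM M j) 3) x) (enc x)))) LA)

/-- `x12`, `x23`, `x13` on `A` -/
def mx12 : List ℕ := [0, 0, 729, 0, 108, 27, 13, 5, 1]
def mx23 : List ℕ := [0, 0, 819, 0, 99, 30, 9, 3, 1]
def mx13 : List ℕ := [0, 0, 757, 0, 84, 29, 9, 3, 1]

variable {Γ : Type u} [Group Γ] {S : Subgroup Γ} {el : ℕ → Γ} {g : Γ} {M : List ℕ}

theorem wdM_nil {Ls : ℕ → List ℕ} (i : ℕ) {w : List ℕ} (h : wdM Ls w = []) : wdM Ls (i :: w) = [] := by
  show Bool.rec (motive := fun _ => List ℕ) [] (cp (Ls i) (wdM Ls w)) (allL (dm (Ls i)) (wdM Ls w)) = []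
  rw [h]; cases allL (dm (Ls i)) [] <;> rfl

theorem pwM_nil : ∀ j, pwM [] (j + 1) = []
  | 0 => by decide +kernel
  | j + 1 => wdM_nil 0 (pwM_nil j)

namespace Md
variable (m : Md S el)
include m

theorem ac_wd {Ls : ℕ → List ℕ} {x : ℕ → Γ} : ∀ {w : List ℕ}, (∀ i ∈ w, Ac el (x i) (Ls i)) →
    wdM Ls w ≠ [] → Ac el (w.map x).prod (wdM Ls w)
  | [], _, _ => ac_one (N := IA) (by decide)
  | i :: w, h, e => by
    have e' : wdM Ls (i :: w) = Bool.rec (motive := fun _ => List ℕ) [] (cp (Ls i) (wdM Ls w))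
      (allL (dm (Ls i)) (wdM Ls w)) := rfl
    have k := ac_wd (fun j hj => h j (List.mem_cons_of_mem _ hj)) fun c => e (wdM_nil i c)
    rw [e'] at e ⊢
    cases d : allL (dm (Ls i)) (wdM Ls w) <;> rw [d] at e
    · exact absurd rfl e
    · exact m.ac_mul (h i List.mem_cons_self) k d

theorem ac_wd' {Ls : ℕ → List ℕ} (h : ∀ i, Ls i ≠ [] → ∃ g, Ac el g (Ls i)) {w : List ℕ}
    (hw : ∀ i ∈ w, Ls i ≠ []) (e : wdM Ls w ≠ []) : ∃ g, Ac el g (wdM Ls w) := by
  classical
  choose x hx using h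
  exact ⟨_, m.ac_wd (x := fun i => if c : Ls i ≠ [] then x i c else 1)
    (fun i hi => by rw [dif_pos (hw i hi)]; exact hx i _) e⟩

theorem ac_pw (a : Ac el g M) {j : ℕ} (e : pwM M j ≠ []) : Ac el (g ^ j) (pwM M j) := by
  have := m.ac_wd (x := fun _ => g) (fun _ _ => a) e
  rwa [List.map_replicate, List.prod_replicate] at this

theorem ac_x12 : Ac el (el (enc 6561)) mx12 := by
  have := m.ac_cn 6561 (ac_one (el := el) (N := IA) (by decide))
  rwa [mul_one, (eqL_iff (cn0 6561 IA) mx12).1 (by decide +kernel)] at this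
theorem ac_x23 : Ac el (el (enc 2187)) mx23 := by
  have := m.ac_cn 2187 (ac_one (el := el) (N := IA) (by decide))
  rwa [mul_one, (eqL_iff (cn0 2187 IA) mx23).1 (by decide +kernel)] at this
theorem ac_x13 : Ac el (el (enc 243)) mx13 := by
  have := m.ac_cn 243 (ac_one (el := el) (N := IA) (by decide))
  rwa [mul_one, (eqL_iff (cn0 243 IA) mx13).1 (by decide +kernel)] at this

omit m in
theorem cent_of_ac (a : Ac el g IA) : g ∈ 𝐂(G el LA) :=
  cent_symm (A := G el LA) (X := zpowers g) (gp_le.2 fun y hy => mem_cent_zpowers.2 (by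
    have k : ∀ x, (x, x) ∈ LS.zip IA → x ≠ 0 → ⁅el (enc x), g⁆ = 1 := fun x b c => by
      rw [commutatorElement_eq_one_iff_mul_comm]
      exact (mul_inv_eq_iff_eq_mul.1 (a.get b c)).symm
    simp only [LA, em, List.mem_cons, List.not_mem_nil, or_false] at hy
    rcases hy with rfl | rfl | rfl | rfl | rfl | rfl <;> exact k _ (by decide) (by decide)))
    (mem_zpowers g)

/-- the action of an element is determined -/
theorem ac_uniq {N : List ℕ} (a : Ac el g M) (b : Ac el g N) {x y z : ℕ} (h1 : (x, y) ∈ LS.zip M)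
    (h2 : (x, z) ∈ LS.zip N) (hy : y ≠ 0) (hz : z ≠ 0) : enc y = enc z :=
  m.inj (val_enc _) (val_enc _) ((a.get h1 hy).symm.trans (b.get h2 hz))

theorem k9 (h9 : E9 (G el LA)) (hg : g ∈ 𝐍(G el LA)) (a : Ac el g M) {j : ℕ} (e : k9 M j = true) :
    False := by
  simp only [H18.CO.k9, band_eq_true, eqL_iff, anyL_iff, nb_eq, Nat.beq_eq] at e
  obtain ⟨e1, x, hx, e2, e3⟩ := e
  have n2 : pwM (pwM M j) 3 ≠ [] := fun c => by rw [c, pwM_nil] at e1; cases e1
  have n1 : pwM M j ≠ [] := fun c => n2 (by rw [c, pwM_nil])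
  have a3 := m.ac_pw (m.ac_pw a n1) n2
  have a9 := m.ac_pw a3 (j := 3) (by rw [e1]; decide)
  rw [e1, ← pow_mul] at a9
  have := h9 _ (pow_mem hg j) (cent_of_ac a9)
  have hx' : el (enc x) ∈ G el LA := mem_gp (by
    simp only [LA, List.mem_cons, List.not_mem_nil, or_false] at hx
    rcases hx with rfl | rfl | rfl | rfl | rfl | rfl <;> simp [LA, em])
  exact e3 (m.inj (val_eb _ _) (val_enc _) ((m.ap a3 e2).symm.trans (conj_eq this hx')))

end Md

/-- a word of order `18` -/
theorem k9_test : k9 (wdM (fun i => [mx12, mx23, w1, [486, 0, 11, 6561, 162, 3, 730, 54, 1]].getD i [])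
    [0, 1, 3, 2, 2, 2]) 2 = true := by decide +kernel

theorem co3wd_eq : True := trivial

end H18.CO
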