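import Mathlib
import Cfsg.Agent.Base
import Cfsg.Agent.Lib.CO3.WD

/-! The kernel checks for the subgroups `E4`. -/

set_option autoImplicit false
set_option maxRecDepth 100000

namespace H18.CO.E4

open H54 H18.CO

/-- `a * Π B i ^ c i` -/
noncomputable def pr (B : List ℕ) : List ℕ → ℕ → ℕ :=
  List.rec (motive := fun _ => List ℕ → ℕ → ℕ) (fun _ a => a) (fun x _ ih c a =>
    force (mp a x (c.headD 0)) (ih c.tail)) B

def c81 (b : Bool) : List ℕ := cond b [0, 1, 2, 1, 2, 1] [0, 2, 1, 1, 2, 1]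
def c9 (b : Bool) : List ℕ := cond b [2, 2, 2, 2, 1, 2] [2, 2, 2, 1, 2, 1]
def c3 (b : Bool) : List ℕ := cond b [0, 0, 0, 2, 0, 1] [0, 0, 0, 1, 0, 2]
def c1 (b : Bool) : List ℕ := cond b [0, 0, 0, 1, 1, 1] [0, 0, 0, 2, 2, 2]

noncomputable def bs (b : Bool) (u v : ℕ) : List ℕ :=
  [u, cg (enc (rr b)) u, cg (enc (rr b)) (cg (enc (rr b)) u),
    v, cg (enc (rr b)) v, cg (enc (rr b)) (cg (enc (rr b)) v)]

/-- the map commuting with `r` with `e33 ↦ u`, `e13 ↦ v` -/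
noncomputable def mk (b : Bool) (u v : ℕ) : List ℕ :=
  [0, 0, dec u, 0, dec (pr (bs b u v) (c81 b) 0), dec v, dec (pr (bs b u v) (c9 b) 0),
    dec (pr (bs b u v) (c3 b) 0), dec (pr (bs b u v) (c1 b) 0)]

noncomputable def mkK (b : Bool) (u v : ℕ) (k : List ℕ → Bool) : Bool :=
  force (enc (rr b)) fun r => force (cg r u) fun u1 => force (cg r u1) fun u2 =>
  force (cg r v) fun v1 => force (cg r v1) fun v2 => force (dec u) fun n0 => force (dec v) fun n2 =>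
  force (dec (pr [u, u1, u2, v, v1, v2] (c81 b) 0)) fun n1 =>
  force (dec (pr [u, u1, u2, v, v1, v2] (c9 b) 0)) fun n3 =>
  force (dec (pr [u, u1, u2, v, v1, v2] (c3 b) 0)) fun n4 =>
  force (dec (pr [u, u1, u2, v, v1, v2] (c1 b) 0)) fun n5 => k [0, 0, n0, 0, n1, n2, n3, n4, n5]

theorem mkK_eq (b : Bool) (u v : ℕ) (k : List ℕ → Bool) : mkK b u v k = k (mk b u v) := rfl

/-- `M ^ 3` moves `x` -/
noncomputable def cube (M : List ℕ) (x : ℕ) : Bool :=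
  force (dec (eb M x)) fun y => force (dec (eb M y)) fun z =>
    band (nb (Nat.beq (eb M z) (enc x))) (band (dm M x) (band (dm M y) (dm M z)))

def L0 (M : List ℕ) (i : ℕ) : List ℕ := [mx12, mx23, M].getD i IA

def Lt (M : List ℕ) (c : Bool) (i : ℕ) : List ℕ :=
  [mx12, mx23, M, w1, w2 c, tau true false false, tau false true false, mx13].getD i IA

def KW (b : Bool) : List (List ℕ × ℕ) := cond b
  [([0, 1, 0, 2], 2), ([0, 0, 1, 2, 0, 2], 2), ([0, 0, 2, 1, 2, 1, 2], 2), ([0, 1, 2, 1, 2, 0, 2], 2),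
    ([1, 2, 2, 1, 2, 0, 2, 0], 2)]
  [([0, 2, 2, 1], 2), ([0, 2, 0, 2, 1], 2), ([0, 2, 0, 2, 1, 2], 2), ([0, 2, 0, 2, 2, 1, 2], 2),
    ([0, 2, 0, 2, 1, 2, 2], 4), ([0, 2, 1, 2, 1, 2, 2], 4)]

/-- a surviving map with its words -/
structure Sv where
  M : List ℕ
  g1 : List ℕ
  g2 : List ℕ
  wL : List ℕ
  jL : ℕ
  wM : List ℕ
  jM : ℕ

def SV (b : Bool) : List Sv := cond b
  [⟨[0, 0, 868, 0, 1577, 1674, 779, 189, 42], [2, 1, 2, 0, 2, 1, 2, 2, 0, 0, 2, 0, 2],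
    [2, 1, 2, 0, 2, 0, 1, 2, 1, 2, 0, 2], [4, 2, 6, 3, 1], 1, [2, 4, 3, 2, 1], 4⟩,
   ⟨[0, 0, 926, 0, 1482, 1539, 839, 231, 42], [2, 1, 2, 1, 2, 0, 0, 2, 1, 2, 1, 2],
    [2, 0, 2, 0, 0, 2, 2, 0, 2, 0, 2, 1, 2], [2, 3, 2, 4, 0], 1, [3, 4, 3, 2], 2⟩,
   ⟨[0, 0, 805, 0, 1630, 1527, 893, 183, 42], [2, 1, 2, 1, 2, 0, 2, 1, 1, 2, 0, 2],
    [2, 1, 2, 0, 2, 1, 2, 0, 1, 2, 0, 2], [6, 2, 3, 2], 2, [2, 3, 4, 2, 1], 1⟩,
   ⟨[0, 0, 819, 0, 1575, 1675, 778, 189, 42], [2, 1, 2, 0, 2, 1, 2, 2, 0, 0, 2, 0, 2],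
    [2, 1, 2, 0, 2, 0, 1, 2, 1, 2, 0, 2], [3, 4, 2, 4, 0], 1, [0, 1, 3, 4, 1, 4, 3, 4, 0, 3, 4, 0], 0⟩,
   ⟨[0, 0, 958, 0, 1483, 1540, 838, 231, 42], [2, 1, 2, 1, 2, 0, 0, 2, 1, 2, 1, 2],
    [2, 0, 2, 0, 0, 2, 2, 0, 2, 0, 2, 1, 2], [4, 2, 3, 2, 0], 1, [3, 4, 0, 1, 4, 3, 4, 0, 3, 4, 0], 0⟩,
   ⟨[0, 0, 729, 0, 1631, 1528, 892, 183, 42], [2, 1, 2, 1, 2, 0, 2, 1, 1, 2, 0, 2],
    [2, 1, 2, 0, 2, 1, 2, 0, 1, 2, 0, 2], [2, 5, 2, 4, 1], 1, [0, 0, 3, 1, 4, 1, 3, 4, 1, 3, 6, 4], 0⟩,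
   ⟨[0, 0, 863, 0, 1576, 1676, 777, 189, 42], [2, 1, 2, 0, 2, 1, 2, 2, 0, 0, 2, 0, 2],
    [2, 1, 2, 0, 2, 0, 1, 2, 1, 2, 0, 2], [5, 2, 3, 2], 2, [4, 2, 4, 3, 0], 2⟩,
   ⟨[0, 0, 909, 0, 1484, 1541, 837, 231, 42], [2, 1, 2, 1, 2, 0, 0, 2, 1, 2, 1, 2],
    [2, 0, 2, 0, 0, 2, 2, 0, 2, 0, 2, 1, 2], [2, 3, 4, 1], 1, [2, 4, 2, 1, 0], 2⟩,
   ⟨[0, 0, 773, 0, 1629, 1529, 891, 183, 42], [2, 1, 2, 1, 2, 0, 2, 1, 1, 2, 0, 2],
    [2, 1, 2, 0, 2, 1, 2, 0, 1, 2, 0, 2], [3, 4, 1, 2, 1], 1, [2, 4, 2, 1, 0], 2⟩]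
  [⟨[0, 0, 900, 0, 1607, 1602, 1473, 197, 50], [2, 1, 2, 1, 2, 0, 2, 1, 2, 1, 2],
    [2, 0, 2, 0, 2, 1, 2, 0, 2, 0, 2], [4, 3, 2, 0], 2, [4, 3, 1, 0, 4, 3, 4, 1, 5, 7, 3], 0⟩,
   ⟨[0, 0, 828, 0, 1662, 1659, 1544, 235, 50], [2, 1, 2, 0, 0, 2, 1, 2, 0, 2, 2, 0, 2],
    [2, 1, 2, 2, 1, 2, 0, 2, 1, 1, 2, 0, 2], [3, 2, 4, 1], 1, [3, 2, 4, 2, 0], 1⟩,
   ⟨[0, 0, 729, 0, 1537, 1533, 1681, 174, 50], [2, 0, 2, 0, 2, 1, 2, 0, 2, 0, 2],
    [2, 1, 2, 1, 2, 0, 2, 1, 2, 1, 2], [2, 2, 3, 4, 0], 2, [4, 3, 1, 4, 3, 4, 1, 4, 3, 0], 0⟩,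
   ⟨[0, 0, 922, 0, 1605, 1603, 1474, 197, 50], [2, 1, 2, 1, 2, 0, 2, 1, 2, 1, 2],
    [2, 0, 2, 0, 2, 1, 2, 0, 2, 0, 2], [4, 2, 4, 3, 0], 2, [3, 4, 2], 2⟩,
   ⟨[0, 0, 850, 0, 1663, 1660, 1542, 235, 50], [2, 1, 2, 0, 0, 2, 1, 2, 0, 2, 2, 0, 2],
    [2, 1, 2, 2, 1, 2, 0, 2, 1, 1, 2, 0, 2], [3, 2, 4, 1], 1, [1, 7, 4, 3, 4, 3, 4, 1, 4, 3, 0], 0⟩,
   ⟨[0, 0, 778, 0, 1538, 1534, 1682, 174, 50], [2, 0, 2, 0, 2, 1, 2, 0, 2, 0, 2],
    [2, 1, 2, 1, 2, 0, 2, 1, 2, 1, 2], [4, 3, 2, 1], 1, [4, 4, 2, 3, 2], 1⟩,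
   ⟨[0, 0, 971, 0, 1606, 1604, 1475, 197, 50], [2, 1, 2, 1, 2, 0, 2, 1, 2, 1, 2],
    [2, 0, 2, 0, 2, 1, 2, 0, 2, 0, 2], [2, 2, 3, 2, 0], 2, [4, 2, 3, 1, 0], 2⟩,
   ⟨[0, 0, 872, 0, 1664, 1661, 1543, 235, 50], [2, 1, 2, 0, 0, 2, 1, 2, 0, 2, 2, 0, 2],
    [2, 1, 2, 2, 1, 2, 0, 2, 1, 1, 2, 0, 2], [2, 4, 3, 0], 2, [2, 4, 0, 2, 0], 1⟩,
   ⟨[0, 0, 800, 0, 1536, 1535, 1680, 174, 50], [2, 0, 2, 0, 2, 1, 2, 0, 2, 0, 2],
    [2, 1, 2, 1, 2, 0, 2, 1, 2, 1, 2], [2, 4, 3, 0], 2, [4, 2, 1, 2, 0], 1⟩]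

noncomputable def chk (b : Bool) (M : List ℕ) : Bool :=
  bor (cube M 729) (bor (cube M 27) (bor (anyL (fun s : Sv => eqL M s.M) (SV b))
    (anyL (fun p : List ℕ × ℕ => k9 (wdM (L0 M) p.1) p.2) (KW b))))

noncomputable def row (b : Bool) (t : ℕ) : Bool := force (mu t (enc 729)) fun u =>
  allE (fun t' => force (mu t' (enc 1485)) fun v => mkK b u v (chk b)) (em (LF4 b)) 0

/-- `M` normalises `⟨L⟩ C(A)` -/
noncomputable def nrm (M L Q : List ℕ) : Bool :=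
  allL (fun t => band (allL (dm M) (cn0 t IA)) (anyL (fun s => band (eqL (cp M (cn0 t IA)) (cn0 s M))
    (band ((tb (em L)).mem (enc s)) (allL (dm (cn0 s M)) IA))) Q)) L

/-- `M` moves `⟨L⟩` -/
noncomputable def mov (M L : List ℕ) : Bool := band (lgB (em L))
  (anyL (fun x => band (dm M x) ((tb (em L)).nm (len (em L)) (eb M x))) L)

noncomputable def svB (s : Sv) : Bool :=
  band (band (mov s.M LH) (allL (dm s.M) IA)) (band
    (band (nrm (wdM (L0 s.M) s.g1) LE1 [0, 243, 486, 2187, 2430, 2673, 4374, 4617, 4860])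
      (mov (wdM (L0 s.M) s.g1) LZ)) (band
    (band (nrm (wdM (L0 s.M) s.g2) LE2 [0, 243, 486, 6561, 6804, 7047, 13122, 13365, 13608])
      (mov (wdM (L0 s.M) s.g2) LW)) (band (k9 (wdM (Lt s.M false) s.wL) s.jL)
    (bor (eqL (wdM (Lt IA true) s.wM) s.M) (k9 (wdM (Lt s.M true) s.wM) s.jM)))))

theorem sv_chk : ∀ b, allL svB (SV b) = true := by decide +kernel

theorem bs_chk : ∀ b, mk b (enc 729) (enc 27) = IA := by decide +kernel

def neg : List ℕ := [0, 0, 1458, 0, 162, 54, 18, 6, 2]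

theorem neg_chk : wdM (Lt IA true) [0, 3, 4, 3, 1, 4, 3, 4, 0, 3, 4, 3, 1, 4, 3, 4] = neg ∧
    nrm neg LS [0, 243, 2187, 6561] = true := by decide +kernel

theorem pc_chk : ∀ b, pcb (em (LF4 b)) = true := by decide +kernel

theorem row_t0 : allE (row true) (em [3, 1]) (enc 0) = true := by decide +kernel
theorem row_t36 : allE (row true) (em [3, 1]) (enc 36) = true := by decide +kernel
theorem row_t72 : allE (row true) (em [3, 1]) (enc 72) = true := by decide +kernel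
theorem row_t90 : allE (row true) (em [3, 1]) (enc 90) = true := by decide +kernel
theorem row_t126 : allE (row true) (em [3, 1]) (enc 126) = true := by decide +kernel
theorem row_t135 : allE (row true) (em [3, 1]) (enc 135) = true := by decide +kernel
theorem row_t180 : allE (row true) (em [3, 1]) (enc 180) = true := by decide +kernel
theorem row_t189 : allE (row true) (em [3, 1]) (enc 189) = true := by decide +kernel
theorem row_t225 : allE (row true) (em [3, 1]) (enc 225) = true := by decide +kernel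
theorem row_f0 : allE (row false) (em [3, 1]) (enc 0) = true := by decide +kernel
theorem row_f45 : allE (row false) (em [3, 1]) (enc 45) = true := by decide +kernel
theorem row_f63 : allE (row false) (em [3, 1]) (enc 63) = true := by decide +kernel
theorem row_f99 : allE (row false) (em [3, 1]) (enc 99) = true := by decide +kernel
theorem row_f117 : allE (row false) (em [3, 1]) (enc 117) = true := by decide +kernel
theorem row_f135 : allE (row false) (em [3, 1]) (enc 135) = true := by decide +kernel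
theorem row_f171 : allE (row false) (em [3, 1]) (enc 171) = true := by decide +kernel
theorem row_f189 : allE (row false) (em [3, 1]) (enc 189) = true := by decide +kernel
theorem row_f234 : allE (row false) (em [3, 1]) (enc 234) = true := by decide +kernel

theorem allE_mono {f g : ℕ → Bool} (h : ∀ a, f a = true → g a = true) :
    ∀ (ys : List ℕ) (a : ℕ), allE f ys a = true → allE g ys a = true
  | [], a, e => h a e
  | y :: ys, a, e => by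
    have e' : band (allE f ys a) (band (allE f ys (mu a y)) (allE f ys (mu (mu a y) y))) = true := e
    show band (allE g ys a) (band (allE g ys (mu a y)) (allE g ys (mu (mu a y) y))) = true
    simp only [band_eq_true] at e' ⊢
    exact ⟨allE_mono h ys _ e'.1, allE_mono h ys _ e'.2.1, allE_mono h ys _ e'.2.2⟩

def PL (b : Bool) : List ℕ := cond b [0, 36, 72, 90, 126, 135, 180, 189, 225] [0, 45, 63, 99, 117, 135, 171, 189, 234]

theorem pl_chk : ∀ b, allE (fun a => anyL (fun n => Nat.beq a (enc n)) (PL b))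
    (em [cond b 90 99, cond b 36 45]) 0 = true := by decide +kernel

theorem row_chk (b : Bool) : allE (row b) (em (LF4 b)) 0 = true := by
  show allE (allE (row b) (em [3, 1])) (em [cond b 90 99, cond b 36 45]) 0 = true
  refine allE_mono (fun a h => ?_) _ _ (pl_chk b)
  obtain ⟨n, hn, e⟩ := (anyL_iff _ _).1 h
  rw [Nat.eq_of_beq_eq_true e]
  cases b <;> simp only [PL, cond, List.mem_cons, List.not_mem_nil, or_false] at hn <;>
    rcases hn with rfl | rfl | rfl | rfl | rfl | rfl | rfl | rfl | rfl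
  exacts [row_f0, row_f45, row_f63, row_f99, row_f117, row_f135, row_f171, row_f189, row_f234,
    row_t0, row_t36, row_t72, row_t90, row_t126, row_t135, row_t180, row_t189, row_t225]

theorem e4a_eq : True := by
  have := @PL.eq_1; have := @cube.eq_1; have := @chk.eq_1; have := @row.eq_1; have := @nrm.eq_1
  have := @mov.eq_1; have := @svB.eq_1; have := @L0.eq_1; have := @Lt.eq_1; have := @mk.eq_1
  have := @bs.eq_1; have := @neg.eq_1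
  trivial

end H18.CO.E4
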