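import Mathlib
import Cfsg.Agent.Base
import Cfsg.Agent.Lib.CO3.Defs

set_option autoImplicit false
set_option maxRecDepth 100000

namespace H18.CO

open Subgroup H54 H2 H90 H91 H93.R3 H18.TH Cfsg Cfsg.FusionSystem
open scoped commutatorElement Pointwise

local notation:max "𝐍(" A ")" => Subgroup.normalizer (SetLike.coe A)
local notation:max "𝐂(" A ")" => Subgroup.centralizer (SetLike.coe A)

universe u v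

variable {Γ : Type u} [Group Γ] [Finite Γ] {S E A P X Y L K H : Subgroup Γ} {g h s x y : Γ}

theorem GI_inv {Q : Type*} [Group Q] {a e : Q} (ho : Odd (orderOf e)) (ha : a ^ 2 = 1)
    (he : (e * a) ^ 2 = 1) : ∃ k : ℕ, e ^ k * (e * a) * (e ^ k)⁻¹ = a := by
  obtain ⟨k, hk⟩ := ho
  have h1 : a * e⁻¹ * a⁻¹ = e := by
    have ha' : a⁻¹ = a := by rw [inv_eq_iff_mul_eq_one, ← pow_two, ha]
    rw [pow_two] at he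
    have : (e * a)⁻¹ = e * a := inv_eq_of_mul_eq_one_right he
    rw [mul_inv_rev, ha'] at this
    rw [this]; group
  have h2 : a * (e ^ k)⁻¹ * a⁻¹ = e ^ k := by rw [← inv_pow, ← conj_pow, h1]
  have h3 : e ^ (2 * k + 1) = 1 := hk ▸ pow_orderOf_eq_one e
  refine ⟨k, ?_⟩
  calc e ^ k * (e * a) * (e ^ k)⁻¹ = e ^ k * e * (a * (e ^ k)⁻¹ * a⁻¹) * a := by group
    _ = e ^ (2 * k + 1) * a := by rw [h2]; group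
    _ = a := by rw [h3, one_mul]

theorem GI_two {Q : Type*} [Group Q] {O : Subgroup Q} (ho : ∀ e ∈ O, Odd (orderOf e))
    {u₁ u₂ k₁ k₂ : Q} (a : k₂ ∈ 𝐍(O)) (b1 : u₁ ^ 2 = 1) (b2 : u₂ ^ 2 = 1) (b3 : Commute u₁ u₂)
    (c1 : k₁ ^ 2 = 1) (c2 : k₂ ^ 2 = 1) (c3 : Commute k₁ k₂) (d1 : u₁ * k₁⁻¹ ∈ O)
    (d2 : u₂ * k₂⁻¹ ∈ O) : ∃ f ∈ O, f * u₁ * f⁻¹ = k₁ ∧ f * u₂ * f⁻¹ = k₂ := by
  obtain ⟨i, hi⟩ := GI_inv (ho _ d1) c1 (by rwa [inv_mul_cancel_right])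
  rw [inv_mul_cancel_right] at hi
  set f := (u₁ * k₁⁻¹) ^ i with hf
  have fO : f ∈ O := pow_mem d1 i
  have eO : f * u₂ * f⁻¹ * k₂⁻¹ ∈ O := by
    have e : f * u₂ * f⁻¹ * k₂⁻¹ = f * (u₂ * k₂⁻¹) * (k₂ * f⁻¹ * k₂⁻¹) := by group
    rw [e]
    exact mul_mem (mul_mem fO d2) (conj_mem a (inv_mem fO))
  obtain ⟨j, hj⟩ := GI_inv (ho _ eO) c2 (by rw [inv_mul_cancel_right, conj_pow, b2]; group)
  rw [inv_mul_cancel_right] at hj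
  have cm : Commute k₁ (f * u₂ * f⁻¹) := by
    rw [← hi]
    have := b3.eq
    show f * u₁ * f⁻¹ * (f * u₂ * f⁻¹) = f * u₂ * f⁻¹ * (f * u₁ * f⁻¹)
    calc _ = f * (u₁ * u₂) * f⁻¹ := by group
      _ = _ := by rw [this]; group
  have cm2 : Commute k₁ ((f * u₂ * f⁻¹ * k₂⁻¹) ^ j) := (cm.mul_right c3.inv_right).pow_right j
  set f' := (f * u₂ * f⁻¹ * k₂⁻¹) ^ j with hf'
  refine ⟨f' * f, mul_mem (pow_mem eO j) fO, ?_, ?_⟩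
  · calc _ = f' * (f * u₁ * f⁻¹) * f'⁻¹ := by group
      _ = k₁ := by rw [hi, ← cm2.eq]; group
  · rw [← hj]; group

theorem gi (pE : IsPGroup 3 E) {h₁ h₂ k₁ k₂ : Γ} (a1 : h₁ ∈ 𝐍(E)) (a2 : h₂ ∈ 𝐍(E)) (a3 : k₁ ∈ 𝐍(E))
    (a4 : k₂ ∈ 𝐍(E)) (hg : g ∈ 𝐍(E)) (b1 : h₁ ^ 2 ∈ 𝐂(E)) (b2 : h₂ ^ 2 ∈ 𝐂(E)) (b3 : ⁅h₁, h₂⁆ ∈ 𝐂(E))
    (c1 : k₁ ^ 2 ∈ 𝐂(E)) (c2 : k₂ ^ 2 ∈ 𝐂(E)) (c3 : ⁅k₁, k₂⁆ ∈ 𝐂(E))
    (d1 : g * h₁ * g⁻¹ * k₁⁻¹ ∈ E ⊔ 𝐂(E)) (d2 : g * h₂ * g⁻¹ * k₂⁻¹ ∈ E ⊔ 𝐂(E)) :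
    ∃ e ∈ E, e * g * h₁ * (e * g)⁻¹ * k₁⁻¹ ∈ 𝐂(E) ∧ e * g * h₂ * (e * g)⁻¹ * k₂⁻¹ ∈ 𝐂(E) := by
  have : Fact (Nat.Prime 3) := ⟨Nat.prime_three⟩
  obtain ⟨Q, _, _, θ, hk⟩ := exists_qt (cent_le_norm E) (norm_cent (le_refl 𝐍(E)))
  have hE : E ≤ 𝐍(E) := le_normalizer
  have one : ∀ {x : Γ}, x ∈ 𝐍(E) → x ∈ 𝐂(E) → ex θ x = 1 := fun hx hc =>
    (ex_eq_one hx).2 (hk ▸ hc)
  have sq : ∀ {x : Γ}, x ∈ 𝐍(E) → x ^ 2 ∈ 𝐂(E) → ex θ x ^ 2 = 1 := fun hx hc => by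
    rw [← ex_pow θ hx]; exact one (pow_mem hx 2) hc
  have cm : ∀ {x y : Γ}, x ∈ 𝐍(E) → y ∈ 𝐍(E) → ⁅x, y⁆ ∈ 𝐂(E) → Commute (ex θ x) (ex θ y) :=
    fun hx hy hc => by
      rw [← commutatorElement_eq_one_iff_commute, ← H93.R3.ex_comm hx hy]
      exact one (cent_le_norm E hc) hc
  have im : ∀ {x y : Γ}, x ∈ 𝐍(E) → y ∈ 𝐍(E) → x * y⁻¹ ∈ E ⊔ 𝐂(E) →
      ex θ x * (ex θ y)⁻¹ ∈ imageAlong θ E := fun {x y} hx hy hc => by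
    obtain ⟨a, ha, c, hc', e⟩ := (mem_sup_iff (cent_le_norm E)).1 hc
    rw [← ex_inv θ hy, ← ex_mul θ hx (inv_mem hy), e, ex_mul θ (hE ha) (cent_le_norm E hc'),
      one (cent_le_norm E hc') hc', mul_one]
    exact ex_mem hE ha
  have cj : ∀ {x : Γ}, x ∈ 𝐍(E) → g * x * g⁻¹ ∈ 𝐍(E) := fun hx =>
    mul_mem (mul_mem hg hx) (inv_mem hg)
  have nC : g ∈ 𝐍(𝐂(E)) := norm_cent le_rfl hg
  obtain ⟨f, hf, e1, e2⟩ := GI_two (O := imageAlong θ E) (fun e he => by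
      obtain ⟨k, hk⟩ := IsPGroup.iff_orderOf.1 (pg_im (θ := θ) pE) ⟨e, he⟩
      rw [← Subgroup.orderOf_coe] at hk
      rw [show orderOf e = 3 ^ k from hk]
      exact Odd.pow (by decide))
    (im_norm (θ := θ) le_rfl hE le_rfl (ex_mem le_rfl a4))
    (sq (cj a1) (by rw [conj_pow]; exact conj_mem nC b1))
    (sq (cj a2) (by rw [conj_pow]; exact conj_mem nC b2))
    (cm (cj a1) (cj a2) (by rw [← conj_comm]; exact conj_mem nC b3))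
    (sq a3 c1) (sq a4 c2) (cm a3 a4 c3) (im (cj a1) a3 d1) (im (cj a2) a4 d2)
  obtain ⟨e, he, rfl⟩ := (mem_imageAlong' hE).1 hf
  have fin : ∀ {x y : Γ}, x ∈ 𝐍(E) → y ∈ 𝐍(E) →
      ex θ e * ex θ (g * x * g⁻¹) * (ex θ e)⁻¹ = ex θ y → e * g * x * (e * g)⁻¹ * y⁻¹ ∈ 𝐂(E) :=
    fun {x y} hx hy q => by
      rw [← ex_conj θ (hE he) (cj hx), ← ex_div (mul_mem (mul_mem (hE he) (cj hx)) (inv_mem (hE he))) hy,
        hk] at q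
      rwa [show e * g * x * (e * g)⁻¹ = e * (g * x * g⁻¹) * e⁻¹ by group]
  exact ⟨e, he, fin a1 a3 e1, fin a2 a4 e2⟩

theorem rad (hS : IsPGroup 3 S) (hF : Sat S) (hE : (groupFusionSystem S).IsFullyNormalized E)
    (e : lg 3 E + 1 = lg 3 (S ⊓ 𝐍(E))) (hm : Mv S E) {X : ℕ → Subgroup Γ} {k : ℕ} (h0 : X 0 = E)
    (hX : ∀ i < k, X (i + 1) ≤ X i) (hk : X k ≤ ph E) (hn : ∀ i < k, 𝐍(E) ≤ 𝐍(X i)) (hg : g ∈ 𝐍(E))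
    (c : ∀ i < k, ∀ x ∈ X i, ⁅g, x⁆ ∈ X (i + 1)) : g ∈ E ⊔ 𝐂(E) := by
  have : Fact (Nat.Prime 3) := ⟨Nat.prime_three⟩
  have pE : IsPGroup 3 E := hS.to_le hE.1
  set R : Subgroup Γ := 𝐍(E) ⊓ ⨅ i, ⨅ (_ : i < k), relCentralizer (X i ⊔ ph E) (X (i + 1) ⊔ ph E)
    with hR
  have gR : g ∈ R := kl_mem h0 hX hk hg c
  have cR : 𝐂(E) ≤ R := fun z hz => kl_mem h0 hX hk (cent_le_norm E hz) fun i hi x hx => by
    rw [comm_eq_one hz (kl_le h0 hX i hi.le hx)]; exact one_mem _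
  have n0 : 𝐍(E) ≤ 𝐍(ph E) := norm_ph le_rfl
  have n1 : ∀ i ≤ k, 𝐍(E) ≤ 𝐍((X i ⊔ ph E : Subgroup Γ)) := fun i hi => by
    rcases hi.lt_or_eq with h | rfl
    · exact norm_sup (hn i h) n0
    · rw [sup_eq_right.2 hk]; exact n0
  have eR : E ≤ R := fun z hz => ⟨le_normalizer hz, mem_iInf.2 fun i => mem_iInf.2 fun hi =>
    mem_rc.2 ⟨n1 _ hi (le_normalizer hz), fun y hy => mem_sup_right (comm_mem (eq_ph pE).comm hz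
      (sup_le (kl_le h0 hX i hi.le) ph_le_self hy))⟩⟩
  have nR : 𝐍(E) ≤ 𝐍(R) := le_norm fun a ha r hr =>
    ⟨conj_mem (le_normalizer ha) hr.1, mem_iInf.2 fun i => mem_iInf.2 fun hi =>
      conj_mem (norm_rc (n1 i hi.le) (n1 _ hi) ha) (mem_iInf.1 (mem_iInf.1 hr.2 i) hi)⟩
  have cop : ∀ q ∈ R, (orderOf q).Coprime 3 → q ∈ 𝐂(E) := by
    intro q hq hc
    have key : ∀ i ≤ k, ∀ x ∈ E, ⁅q, x⁆ ∈ X i ⊔ ph E := by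
      intro i
      induction i with
      | zero => exact fun _ x hx => mem_sup_left (h0 ▸ comm_mem_r hq.1 hx)
      | succ i ih =>
        intro hi x hx
        have hr := mem_rc.1 (mem_iInf.1 (mem_iInf.1 hq.2 i) (by omega))
        exact comm_mem_of_coprime (pE.to_le (sup_le (kl_le h0 hX i (by omega)) ph_le_self)) hc hr.1
          (ih (by omega) x hx) hr.2
    refine cent_of_ph pE hc hq.1 fun y hy => ?_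
    have := key k le_rfl y hy
    rwa [sup_eq_right.2 hk] at this
  have JN : S ⊓ 𝐍(E) ⊔ 𝐂(E) ≤ 𝐍(E) := sup_le inf_le_right (cent_le_norm E)
  have RJ : R ≤ S ⊓ 𝐍(E) ⊔ 𝐂(E) := by
    refine le_of_syl (p := 3) (J := (S ⊓ 𝐍(E) ⊔ 𝐂(E)) ⊓ R) inf_le_right ?_ inf_le_left
      fun q hq hc => mem_sup_right (cop q hq hc)
    have h1 := lg_sup (p := 3) (JN.trans nR)
    have h2 : lg 3 (S ⊓ 𝐍(E) ⊔ 𝐂(E) ⊔ R) ≤ lg 3 𝐍(E) := lg_mono (sup_le JN inf_le_left)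
    have h3 := lg_norm hS hF hE
    omega
  rcases le_or_le (hS.to_le (inf_le_left : S ⊓ 𝐍(E) ≤ S)) (le_inf hE.1 le_normalizer) e.ge eR with h | h
  · obtain ⟨t, ht, z, hz, q⟩ := (mem_sup_iff' (inf_le_right.trans (norm_cent le_rfl))).1 (RJ gR)
    rw [q]
    exact mul_mem (mem_sup_left (h ⟨ht, mem_of_mul (q ▸ gR) (cR hz)⟩)) (mem_sup_right hz)
  · refine absurd (fun a ha => mem_of_norm hS hF hE ha ?_) hm
    rw [← le_antisymm RJ (sup_le h cR)]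
    exact nR ha

theorem ext (hS : IsPGroup 3 S) (hF : Sat S) (hA : A ≤ P) (hP : P ≤ S) (hn : S ≤ 𝐍(A))
    (hc : S ⊓ 𝐂(A) ≤ A) (hg : g ∈ 𝐍(A)) (h : g ∈ 𝐍(P ⊔ 𝐂(A))) : ∃ c ∈ 𝐂(A), g * c ∈ 𝐍(P) := by
  have : Fact (Nat.Prime 3) := ⟨Nat.prime_three⟩
  have hQ := fn_of_norm (hA.trans hP) hn
  have nP : P ≤ 𝐍(𝐂(A)) := (hP.trans hn).trans (norm_cent le_rfl)
  have i := iso_cn hQ.1 ((cn_eq hg).le.trans hQ.1)
  obtain ⟨f, hf, e⟩ := (isReceptive_iff_map.1 (receptive_of_normalized hS hF hQ)).2 A _ i.1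
    (i.im_eq.trans (cn_eq hg))
  obtain ⟨-, h1, u, hu⟩ := map_group.1 (hf.mono (Q := P) fun m hm => ⟨⟨hP hm, hn (hP hm)⟩, by
    obtain ⟨a, ha, c, hc, e1⟩ := (mem_sup_iff' nP).1 (conj_mem h (mem_sup_left hm))
    refine ⟨a, hP ha, fun x hx => ?_⟩
    show g * (m * x * m⁻¹) * g⁻¹ = a * (g * x * g⁻¹) * a⁻¹
    rw [← conj_eq hc (conj_mem hg hx), show a * (c * (g * x * g⁻¹) * c⁻¹) * a⁻¹ =
      a * c * (g * x * g⁻¹) * (a * c)⁻¹ by group, ← e1]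
    group⟩)
  have h2 : ∀ x ∈ A, u * x * u⁻¹ = g * x * g⁻¹ := fun x hx => (hu x (hA hx)).symm.trans (e x hx)
  have h4 : g⁻¹ * u ∈ 𝐂(A) := mem_centralizer_of_conj_eq fun x hx => by
    rw [show g⁻¹ * u * x * (g⁻¹ * u)⁻¹ = g⁻¹ * (u * x * u⁻¹) * g by group, h2 x hx]; group
  refine ⟨g⁻¹ * u, h4, ?_⟩
  rw [mul_inv_cancel_left]
  refine mem_norm fun x hx => ?_
  have h5 : u * x * u⁻¹ ∈ P ⊔ 𝐂(A) := by
    rw [show u * x * u⁻¹ = g * (g⁻¹ * u * x * (g⁻¹ * u)⁻¹) * g⁻¹ by group]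
    exact conj_mem h (mul_mem (mul_mem (mem_sup_right h4) (mem_sup_left hx))
      (inv_mem (mem_sup_right h4)))
  obtain ⟨a, ha, c, hc', e1⟩ := (mem_sup_iff' nP).1 h5
  have h6 : u * x * u⁻¹ ∈ S := hu x hx ▸ h1 x hx
  rw [e1] at h6 ⊢
  exact mul_mem ha (hA (hc ⟨mem_of_mul' h6 (hP ha), hc'⟩))

theorem e9 (hS : IsPGroup 3 S) (hF : Sat S) (hA : A ≤ S) (hn : S ≤ 𝐍(A))
    (h3 : ∀ s ∈ S, s ^ 3 ∈ 𝐂(A)) : E9 A := by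
  have : Fact (Nat.Prime 3) := ⟨Nat.prime_three⟩
  intro g hg h9
  obtain ⟨Q, _, _, θ, hk⟩ := exists_qt (cent_le_norm A) (norm_cent (le_refl 𝐍(A)))
  have h1 := lg_norm hS hF (fn_of_norm hA hn)
  rw [inf_eq_left.2 hn] at h1
  have h2 := lg_im (p := 3) (θ := θ) le_rfl (hk.le.trans (cent_le_norm A))
  have h4 := lg_im (p := 3) (θ := θ) (sup_le hn (cent_le_norm A)) (hk.le.trans le_sup_right)
  rw [imageAlong_sup θ hn (cent_le_norm A), (im_eq_bot (cent_le_norm A)).2 hk.ge, sup_bot_eq] at h4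
  obtain ⟨P, -, h5, h6⟩ := exists_syl (pg_im (θ := θ) hS) le_rfl
  have p9 : ex θ g ^ 3 ^ 2 = 1 := by
    rw [← ex_pow θ hg]; exact (ex_eq_one (pow_mem hg _)).2 (hk ▸ h9)
  have pz : IsPGroup 3 (zpowers (ex θ g)) := by
    rintro ⟨_, j, rfl⟩
    refine ⟨2, Subtype.ext ?_⟩
    show (ex θ g ^ j) ^ 3 ^ 2 = 1
    rw [← zpow_natCast, ← zpow_mul, mul_comm, zpow_mul, zpow_natCast, p9, one_zpow]
  obtain ⟨y, -, hy⟩ := (h6 _ (imageAlong_mono θ hn) (by omega)).exists_cj_le pz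
    (zpowers_le.2 (ex_mem le_rfl hg))
  obtain ⟨s, hs, e⟩ := (mem_imageAlong' hn).1 (h5 (H68.cj_le_iff'.1 hy _ (mem_zpowers _)))
  have h7 : ex θ s ^ 3 = 1 := by
    rw [← ex_pow θ (hn hs)]; exact (ex_eq_one (pow_mem (hn hs) _)).2 (hk ▸ h3 s hs)
  rw [e, conj_pow, conj_eq_one_iff, ← ex_pow θ hg, ex_eq_one (pow_mem hg _), hk] at h7
  exact h7

theorem mv_of_es (hS : IsPGroup 3 S) (hF : Sat S) (hE : Es S E) : Mv S E := by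
  have : Fact (Nat.Prime 3) := ⟨Nat.prime_three⟩
  exact ess_ne hS hF hE

end H18.CO
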