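import Mathlib
import Cfsg.Agent.Base
import Cfsg.Agent.Lib.CO3.Defs

set_option autoImplicit false
set_option maxRecDepth 100000

namespace H18.CO

open Subgroup H54 H2 H90 H91 H93.R3 H18.TH Cfsg Cfsg.FusionSystem
open scoped commutatorElement Pointwise

local notation:max "𝐍(" A ")" => Subgroup.normalizer (SetLike.coe A)
local notation:max "𝐂(" A ")" => Subgroup.centralizer (SetLike.coe A)

universe u v

variable {Γ : Type u} [Group Γ] [Finite Γ] {S E A P X Y L K H : Subgroup Γ} {g h s x y : Γ}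

/-- the stabiliser of a chain on which `N_S(E)` acts trivially -/
theorem ls (hS : IsPGroup 3 S) (hF : Sat S) (hE : (groupFusionSystem S).IsFullyNormalized E)
    {X : ℕ → Subgroup Γ} {k : ℕ} (h0 : X 0 = E) (hm : ∀ i < k, X (i + 1) ≤ X i) (hk : X k ≤ ph E)
    (c : ∀ i < k, ⁅S ⊓ 𝐍(E), X i⁆ ≤ X (i + 1)) (hg : ∀ i < k, g ∈ 𝐍(X i)) :
    g ∈ 𝐍(E) ⊓ 𝐍(S ⊓ 𝐍(E)) ⊔ 𝐂(E) := by
  haveI : Fact (Nat.Prime 3) := ⟨Nat.prime_three⟩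
  have pE : IsPGroup 3 E := hS.to_le hE.1
  have gE : g ∈ 𝐍(E) := by
    rcases Nat.eq_zero_or_pos k with rfl | k0
    · rw [eq_bot_of_ph (X := E) (h0.ge.trans hk)]
      exact norm_bot ⊤ (mem_top g)
    · exact h0 ▸ hg 0 k0
  have gz : zpowers g ≤ 𝐍(E) := zpowers_le.2 gE
  have gX : ∀ i ≤ k, zpowers g ≤ 𝐍((X i ⊔ ph E : Subgroup Γ)) := fun i hi => by
    rcases hi.eq_or_lt with rfl | hi
    · rw [sup_eq_right.2 hk]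
      exact norm_ph gz
    · exact norm_sup (zpowers_le.2 (hg i hi)) (norm_ph gz)
  have h1 : S ⊓ 𝐍(E) ⊔ 𝐂(E) ≤
      𝐍(E) ⊓ ⨅ i, ⨅ (_ : i < k), relCentralizer (X i ⊔ ph E) (X (i + 1) ⊔ ph E) :=
    sup_le (fun t ht => kl_mem h0 hm hk ht.2 fun i hi x hx => comm_mem (c i hi) ht hx)
      fun t ht => kl_mem h0 hm hk (cent_le_norm E ht) fun i hi x hx => by
        rw [comm_eq_one ht (kl_le h0 hm i hi.le hx)]
        exact one_mem _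
  have h2 := le_of_syl (p := 3) h1 ((lg_mono inf_le_left).trans (lg_norm hS hF hE)) le_rfl
    fun q hq hc => by
      have key : ∀ i ≤ k, ∀ x ∈ E, ⁅q, x⁆ ∈ X i ⊔ ph E := by
        intro i
        induction i with
        | zero => exact fun _ x hx => mem_sup_left (h0 ▸ comm_mem_r hq.1 hx)
        | succ i ih =>
          intro hi x hx
          have hr := mem_rc.1 (mem_iInf.1 (mem_iInf.1 hq.2 i) (by omega))
          exact comm_mem_of_coprime (pE.to_le (sup_le (kl_le h0 hm i (by omega)) ph_le_self)) hc hr.1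
            (ih (by omega) x hx) hr.2
      refine mem_sup_right (cent_of_ph pE hc hq.1 fun y hy => ?_)
      have := key k le_rfl y hy
      rwa [sup_eq_right.2 hk] at this
  refine mem_of_norm hS hF hE gE ?_
  rw [le_antisymm h1 h2]
  exact mem_norm fun x hx => ⟨conj_mem (le_normalizer gE) hx.1, mem_iInf.2 fun i => mem_iInf.2 fun hi =>
    conj_mem (norm_rc (gX i hi.le) (gX (i + 1) hi) (mem_zpowers g))
      (mem_iInf.1 (mem_iInf.1 hx.2 i) hi)⟩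

/-- `X / Y` is a plane, `L / Y` a line, `s` a transvection with axis `L / Y` -/
structure Pl (X Y L : Subgroup Γ) (s : Γ) : Prop where
  pX : IsPGroup 3 X
  eq : EQ 3 X Y
  yL : Y ≤ L
  lX : L ≤ X
  l1 : lg 3 L = lg 3 Y + 1
  l2 : lg 3 X = lg 3 Y + 2
  nX : s ∈ 𝐍(X)
  nY : s ∈ 𝐍(Y)
  c1 : ∀ x ∈ X, ⁅s, x⁆ ∈ L
  c2 : ∀ x ∈ L, ⁅s, x⁆ ∈ Y
  c3 : ¬ ∀ x ∈ X, ⁅s, x⁆ ∈ Y

section Lin

variable {V : Type u} [CommGroup V] {u v w : V} {σ : MulAut V}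

theorem GA.zp3 (h : v ^ 3 = 1) (hw : w ∈ zpowers v) : w = 1 ∨ w = v ∨ w = v⁻¹ := by
  obtain ⟨k, rfl⟩ := hw
  have h' : v ^ (3 : ℤ) = 1 := by exact_mod_cast h
  have : k % 3 = 0 ∨ k % 3 = 1 ∨ k % 3 = (-1) % 3 := by omega
  beta_reduce
  rw [zpow_eq_zpow_emod k h']
  rcases this with e | e | e <;> rw [e]
  · simp
  · simp
  · rw [← zpow_eq_zpow_emod (-1) h']
    simp

theorem GA.ext (gen : ∀ w : V, ∃ a ∈ zpowers v, ∃ b ∈ zpowers u, w = a * b) (h1 : σ u = u)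
    (h2 : σ v = v) : σ = 1 := MulEquiv.ext fun w => by
  obtain ⟨_, ⟨a, rfl⟩, _, ⟨b, rfl⟩, rfl⟩ := gen w
  simp [h1, h2]

theorem GA.tv (h : v ^ 3 = 1) (h1 : σ v = v) (h2 : u⁻¹ * σ u ∈ zpowers v) (h3 : σ u ≠ u) :
    (σ u = u * v ∧ σ⁻¹ u = u * v⁻¹) ∨ (σ⁻¹ u = u * v ∧ σ u = u * v⁻¹) := by
  rcases GA.zp3 h h2 with e | e | e <;> rw [inv_mul_eq_iff_eq_mul] at e
  · exact absurd (e.trans (mul_one u)) h3
  · refine .inl ⟨e, σ.injective ?_⟩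
    rw [MulAut.apply_inv_self, map_mul, map_inv, e, h1, mul_inv_cancel_right]
  · refine .inr ⟨σ.injective ?_, e⟩
    rw [MulAut.apply_inv_self, map_mul, e, h1, inv_mul_cancel_right]

theorem GA.orb (ex : ∀ v : V, v ^ 3 = 1) (gen : ∀ w : V, ∃ a ∈ zpowers v, ∃ b ∈ zpowers u, w = a * b)
    (h1 : σ v = v) (h2 : u⁻¹ * σ u ∈ zpowers v) (h3 : σ ≠ 1) (hw : w ∉ zpowers v) :
    (σ ^ 3) u = u ∧ ∃ k : ℕ, (σ ^ k) u = w ∨ (σ ^ k) u = w⁻¹ := by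
  have k : ∀ c, σ c = c → σ u = u * c → (σ ^ 3) u = u ∧ (σ ^ 2) u = u * c⁻¹ := fun c e1 e2 => by
    have e : (σ ^ 2) u = u * c * c := by rw [pow_two, MulAut.mul_apply, e2, map_mul, e1, e2]
    have e3 : c * c = c⁻¹ := eq_inv_of_mul_eq_one_left (by rw [← ex c, pow_succ, pow_two])
    rw [mul_assoc, e3] at e
    exact ⟨by rw [pow_succ', MulAut.mul_apply, e, map_mul, map_inv, e1, e2, mul_inv_cancel_right], e⟩
  have a : (σ ^ 3) u = u ∧ ∀ a ∈ zpowers v, ∃ k : ℕ, (σ ^ k) u = a * u := by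
    rcases GA.tv (ex v) h1 h2 (fun e => h3 (GA.ext gen e h1)) with ⟨e, -⟩ | ⟨-, e⟩
    · obtain ⟨k1, k2⟩ := k v h1 e
      refine ⟨k1, fun a ha => ?_⟩
      rcases GA.zp3 (ex v) ha with rfl | rfl | rfl
      exacts [⟨0, by simp⟩, ⟨1, by rw [pow_one, e, mul_comm]⟩, ⟨2, by rw [k2, mul_comm]⟩]
    · obtain ⟨k1, k2⟩ := k v⁻¹ (by rw [map_inv, h1]) e
      refine ⟨k1, fun a ha => ?_⟩
      rcases GA.zp3 (ex v) ha with rfl | rfl | rfl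
      exacts [⟨0, by simp⟩, ⟨2, by rw [k2, inv_inv, mul_comm]⟩, ⟨1, by rw [pow_one, e, mul_comm]⟩]
  refine ⟨a.1, ?_⟩
  obtain ⟨c, hc, b, hb, rfl⟩ := gen w
  rcases GA.zp3 (ex u) hb with rfl | rfl | rfl
  · exact absurd (by simpa using hc) hw
  · exact (a.2 c hc).imp fun _ => .inl
  · exact (a.2 _ (inv_mem hc)).imp fun _ e => .inr (by rw [e, mul_inv, inv_inv])

theorem GA.back (h : (σ ^ 3) u = u) {k : ℕ} (e : (σ ^ k) u = w ∨ (σ ^ k) u = w⁻¹) :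
    (σ ^ (2 * k)) w = u ∨ (σ ^ (2 * k)) w = u⁻¹ := by
  have : (σ ^ (2 * k)) ((σ ^ k) u) = u := by
    rw [← MulAut.mul_apply, ← pow_add, show 2 * k + k = 3 * k by ring, pow_mul]
    clear e
    induction k with
    | zero => rfl
    | succ k ih => rw [pow_succ, MulAut.mul_apply, h, ih]
  rcases e with e | e <;> rw [e] at this
  · exact .inl this
  · exact .inr (by rw [← this, map_inv, inv_inv])

end Lin

theorem Pl.lin (p : Pl X Y L s) (hx : x ∈ X) (hx' : x ∉ L) (hy : y ∈ L) (hy' : y ∉ Y) :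
    ∃ (V : Type u) (_ : CommGroup V) (A : Act 3 (𝐍(X) ⊓ 𝐍(Y)) X Y V),
      (∀ w : V, ∃ a ∈ zpowers (A.π y), ∃ b ∈ zpowers (A.π x), w = a * b) ∧
      (∀ g : (𝐍(X) ⊓ 𝐍(Y) : Subgroup Γ), g.1 ∈ 𝐍(L) ↔ A.t g (A.π y) ∈ zpowers (A.π y)) ∧
      A.t ⟨s, p.nX, p.nY⟩ (A.π y) = A.π y ∧
      (∀ w, w⁻¹ * A.t ⟨s, p.nX, p.nY⟩ w ∈ zpowers (A.π y)) ∧ A.t ⟨s, p.nX, p.nY⟩ ≠ 1 := by
  haveI : Fact (Nat.Prime 3) := ⟨Nat.prime_three⟩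
  obtain ⟨V, _, _, ⟨A⟩⟩ := exists_act (H := 𝐍(X) ⊓ 𝐍(Y)) p.eq inf_le_left inf_le_right
  have yX := p.lX hy
  have a : ∀ z ∈ X, z ∈ L ↔ A.π z ∈ zpowers (A.π y) := fun z hz => by
    refine ⟨fun h => ?_, A.mem_sup_zpowers p.yL hz yX hy⟩
    obtain ⟨a, ha, _, ⟨k, rfl⟩, rfl⟩ := (mem_sup_iff (zpowers_le.2 (p.eq.norm le_rfl p.eq.le yX))).1
      (le_sup_zpowers (p.pX.to_le p.lX) p.yL p.l1.le hy hy' h)
    rw [A.π_mul (p.eq.le ha) (zpow_mem yX k), (A.π_one (p.eq.le ha)).2 ha, one_mul, A.π_zpow yX]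
    exact ⟨k, rfl⟩
  refine ⟨V, inferInstance, A, fun w => ?_, fun g => ⟨fun h => ?_, fun h => mem_norm fun z hz => ?_⟩,
    (A.comm_iff _ yX).1 (p.c2 y hy), fun w => ?_, fun e => p.c3 ((A.t_eq_one _).1 e)⟩
  · obtain ⟨z, hz, rfl⟩ := A.π_surj w
    obtain ⟨l, hl, _, ⟨k, rfl⟩, rfl⟩ := (mem_sup_iff (zpowers_le.2 (p.eq.norm p.yL p.lX hx))).1
      (le_sup_zpowers p.pX p.lX (by rw [p.l1, p.l2]) hx hx' hz)
    exact ⟨_, (a l (p.lX hl)).1 hl, _, ⟨k, rfl⟩, by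
      rw [A.π_mul (p.lX hl) (zpow_mem hx k), A.π_zpow hx]⟩
  · rw [← A.π_conj g.2 yX]
    exact (a _ (conj_mem g.2.1 yX)).1 (conj_mem h hy)
  · obtain ⟨k, hk⟩ := (a z (p.lX hz)).1 hz
    rw [a _ (conj_mem g.2.1 (p.lX hz)), A.π_conj g.2 (p.lX hz), ← hk, map_zpow]
    exact zpow_mem h k
  · obtain ⟨z, hz, rfl⟩ := A.π_surj w
    exact A.π_comm (mem_inf.2 ⟨p.nX, p.nY⟩) hz ▸ (a _ (p.lX (p.c1 z hz))).1 (p.c1 z hz)

theorem Pl.gb (p : Pl X Y L s) (g1 : g ∈ 𝐍(X)) (g2 : g ∈ 𝐍(Y)) (g3 : g ∉ 𝐍(L))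
    (h1 : h ∈ 𝐍(X)) (h2 : h ∈ 𝐍(Y)) (h3 : h ∉ 𝐍(L)) : ∃ k : ℕ, h⁻¹ * s ^ k * g ∈ 𝐍(L) := by
  haveI : Fact (Nat.Prime 3) := ⟨Nat.prime_three⟩
  obtain ⟨x, hx, hx'⟩ := SetLike.not_le_iff_exists.1 fun e : X ≤ L => by
    have := lg_mono (p := 3) e
    rw [p.l1, p.l2] at this
    omega
  obtain ⟨y, hy, hy'⟩ := SetLike.not_le_iff_exists.1 fun e : L ≤ Y => by
    have := lg_mono (p := 3) e
    rw [p.l1] at this
    omega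
  obtain ⟨V, _, A, gen, nL, s1, s2, s3⟩ := p.lin hx hx' hy hy'
  obtain ⟨o, k, hk⟩ := GA.orb A.exp gen s1 (s2 _) s3 (mt (nL ⟨g, g1, g2⟩).2 g3)
  obtain ⟨-, j, hj⟩ := GA.orb A.exp gen s1 (s2 _) s3 (mt (nL ⟨h, h1, h2⟩).2 h3)
  refine ⟨j + 2 * k, (nL (⟨h, h1, h2⟩⁻¹ * ⟨s, p.nX, p.nY⟩ ^ (j + 2 * k) * ⟨g, g1, g2⟩)).2 ?_⟩
  rw [map_mul, map_mul, map_inv, map_pow, pow_add, MulAut.mul_apply, MulAut.mul_apply, MulAut.mul_apply]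
  rcases GA.back o hk with e | e <;> rcases hj with e' | e' <;> simp [e, e']

theorem Pl.le (p : Pl X Y L s) (n1 : A ≤ 𝐍(X)) (n2 : A ≤ 𝐍(Y)) (hs : s ∈ A) (hg : g ∈ A)
    (g3 : g ∉ 𝐍(L)) (h1 : A ⊓ 𝐍(L) ≤ H) (h2 : g ∈ H) : A ≤ H := by
  have sL : s ∈ 𝐍(L) := mem_norm fun z hz => by
    simpa [commutatorElement_def] using mul_mem (p.yL (p.c2 z hz)) hz
  refine le_of_not_mem (H := 𝐍(L)) (fun e => g3 (e hg)) fun a ha ha' => ?_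
  obtain ⟨k, hk⟩ := p.gb (n1 hg) (n2 hg) g3 (n1 ha) (n2 ha) ha'
  have := inv_mem (mem_of_mul (mem_of_mul (h1 ⟨A.mul_mem (A.mul_mem (A.inv_mem ha) (A.pow_mem hs k)) hg, hk⟩) h2)
    (pow_mem (h1 ⟨hs, sL⟩) k))
  rwa [inv_inv] at this

theorem Pl.gw (p : Pl X Y L s) (n1 : A ≤ 𝐍(X)) (n2 : A ≤ 𝐍(Y)) (n3 : A ≤ 𝐍(K)) (hs : s ∈ A)
    (hK : s ∈ K) (hn : ¬ A ≤ 𝐍(L)) (hx : x ∈ X) (hx' : x ∉ L) (hy : y ∈ L) (hy' : y ∉ Y) :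
    ∃ w ∈ A, w ∈ K ∧ w * y * w⁻¹ * x⁻¹ ∈ Y ∧ w * x * w⁻¹ * y ∈ Y := by
  obtain ⟨V, _, B, gen, nL, s1, s2, s3⟩ := p.lin hx hx' hy hy'
  obtain ⟨a, ha, ha'⟩ := SetLike.not_le_iff_exists.1 hn
  obtain ⟨o, k, hk⟩ := GA.orb B.exp gen s1 (s2 _) s3 (mt (nL ⟨a, n1 ha, n2 ha⟩).2 ha')
  have yX := p.lX hy
  set σ : (𝐍(X) ⊓ 𝐍(Y) : Subgroup Γ) := ⟨s, p.nX, p.nY⟩ with hσ
  obtain ⟨γ, γA, e⟩ : ∃ γ : (𝐍(X) ⊓ 𝐍(Y) : Subgroup Γ), γ.1 ∈ A ∧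
      (B.t γ (B.π y) = B.π x ∨ B.t γ (B.π y) = (B.π x)⁻¹) :=
    ⟨σ ^ (2 * k) * ⟨a, n1 ha, n2 ha⟩, mul_mem (pow_mem hs _) ha, by
      rw [map_mul, map_pow]
      exact GA.back o hk⟩
  have f0 : B.t (γ * σ * γ⁻¹) (B.t γ (B.π y)) = B.t γ (B.π y) := by simp [s1]
  have f1 : B.t (γ * σ * γ⁻¹) (B.π x) = B.π x := by
    rcases e with e | e <;> rw [e] at f0
    · exact f0
    · rwa [map_inv, inv_inj] at f0
  have f2 : (B.π y)⁻¹ * B.t (γ * σ * γ⁻¹) (B.π y) ∈ zpowers (B.π x) := by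
    obtain ⟨j, hj⟩ := s2 ((B.t γ)⁻¹ (B.π y))
    have := congrArg (B.t γ) hj
    simp only [map_zpow, map_mul, map_inv, MulAut.apply_inv_self] at this
    rw [map_mul, map_mul, map_inv, MulAut.mul_apply, MulAut.mul_apply, ← this]
    rcases e with e | e <;> rw [e]
    exacts [zpow_mem (mem_zpowers _) j, zpow_mem (inv_mem (mem_zpowers _)) j]
  have f3 : B.t (γ * σ * γ⁻¹) (B.π y) ≠ B.π y := fun l => s3 (by
    have := GA.ext gen f1 l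
    rwa [map_mul, map_mul, map_inv, conj_eq_one_iff] at this)
  obtain ⟨a, aA, aK, a1, a2⟩ : ∃ a : (𝐍(X) ⊓ 𝐍(Y) : Subgroup Γ), a.1 ∈ A ∧ a.1 ∈ K ∧
      B.t a (B.π y) = B.π y ∧ B.t a (B.π x) = B.π x * (B.π y)⁻¹ := by
    rcases GA.tv (B.exp _) s1 (s2 (B.π x)) (fun e => s3 (GA.ext gen e s1)) with ⟨-, e⟩ | ⟨-, e⟩
    · exact ⟨σ⁻¹, inv_mem hs, inv_mem hK, by
        rw [map_inv]; exact (B.t σ).injective (by rw [MulAut.apply_inv_self, s1]), by rwa [map_inv]⟩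
    · exact ⟨σ, hs, hK, s1, e⟩
  obtain ⟨b, bA, bK, b1, b2⟩ : ∃ b : (𝐍(X) ⊓ 𝐍(Y) : Subgroup Γ), b.1 ∈ A ∧ b.1 ∈ K ∧
      B.t b (B.π x) = B.π x ∧ B.t b (B.π y) = B.π y * B.π x := by
    have mA : (γ * σ * γ⁻¹).1 ∈ A := mul_mem (mul_mem γA hs) (inv_mem γA)
    have mK : (γ * σ * γ⁻¹).1 ∈ K := conj_mem (n3 γA) hK
    rcases GA.tv (B.exp _) f1 f2 f3 with ⟨e, -⟩ | ⟨e, -⟩
    · exact ⟨_, mA, mK, f1, e⟩
    · exact ⟨(γ * σ * γ⁻¹)⁻¹, inv_mem mA, inv_mem mK, by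
        rw [map_inv]; exact (B.t _).injective (by rw [MulAut.apply_inv_self, f1]), by rwa [map_inv]⟩
  have hw := (a * b * a).2
  refine ⟨(a * b * a).1, mul_mem (mul_mem aA bA) aA, mul_mem (mul_mem aK bK) aK, ?_, ?_⟩
  · rw [B.π_div (conj_mem hw.1 yX) hx, B.π_conj hw yX]
    change B.t (a * b * a) _ = _
    simp [a1, a2, b2]
  · rw [← B.π_one (mul_mem (conj_mem hw.1 hx) yX), B.π_mul (conj_mem hw.1 hx) yX, B.π_conj hw hx]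
    change B.t (a * b * a) _ * _ = _
    simp [a1, a2, b1, b2]

end H18.CO
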