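import Mathlib
import Cfsg.Agent.Base
import Cfsg.Agent.Lib.CO3.GA
import Cfsg.Agent.Lib.CO3.CH

set_option autoImplicit false
set_option maxRecDepth 100000

namespace H18.CO

open Subgroup H54 H2 H90 H91 H93.R3 H18.TH Cfsg Cfsg.FusionSystem
open scoped commutatorElement Pointwise

local notation:max "𝐍(" A ")" => Subgroup.normalizer (SetLike.coe A)
local notation:max "𝐂(" A ")" => Subgroup.centralizer (SetLike.coe A)

universe u v

variable {Γ : Type u} [Group Γ] [Finite Γ] {Γ' : Type v} [Group Γ'] [Finite Γ'] {S E : Subgroup Γ}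
  {S' : Subgroup Γ'} {el : ℕ → Γ} {el' : ℕ → Γ'} {g : Γ} {b : Bool}

omit [Finite Γ] in
theorem Md.ls_le (m : Md S el) {A B : List ℕ} (e : H18.CO.leB (em A) (em B) = true) :
    G el A ≤ G el B := m.leB (av_em _) (av_em _) e

omit [Finite Γ] in
theorem Md.ls_mem (m : Md S el) {L : List ℕ} {n : ℕ} (e : (H18.CO.tb (em L)).mem (enc n) = true) :
    el (enc n) ∈ G el L := m.memB (av_em _) (val_enc _) e

theorem Md.ls_nmem (m : Md S el) (pS : IsPGroup 3 S) {L : List ℕ} {n : ℕ}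
    (e : band (H18.CO.lgB (em L)) ((H18.CO.tb (em L)).nm (len (em L)) (enc n)) = true) :
    el (enc n) ∉ G el L := by
  rw [band_eq_true] at e
  exact m.nmemB pS (av_em _) e.1 (val_enc _) e.2

theorem Md.ls_cm (m : Md S el) {A B C : List ℕ} (e : H18.CO.cmB (em A) (em B) (em C) = true) :
    ⁅G el A, G el B⁆ ≤ G el C := m.cmB (av_em _) (av_em _) (av_em _) e

theorem Md.ls_cS (m : Md S el) (pS : IsPGroup 3 S) {B C : List ℕ}
    (e : H18.CO.cmB (em LS) (em B) (em C) = true) (N : Subgroup Γ) : ⁅S ⊓ N, G el B⁆ ≤ G el C :=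
  (commutator_mono (inf_le_left.trans (m.top pS).ge) le_rfl).trans (m.ls_cm e)

theorem Md.ls_nS (m : Md S el) (pS : IsPGroup 3 S) {B : List ℕ}
    (e : H18.CO.nmB (em LS) (em B) = true) : S ≤ 𝐍(G el B) :=
  (m.top pS).ge.trans (m.nmB (av_em _) (av_em _) e)

omit [Finite Γ] in
theorem ls_self (n : ℕ) : el (enc n) ∈ G el [n] := mem_gp List.mem_cons_self

theorem Md.ls_nm (m : Md S el) {L : List ℕ} {n : ℕ} (e : H18.CO.nmB (em [n]) (em L) = true) :
    el (enc n) ∈ 𝐍(G el L) := m.nmB (av_em _) (av_em _) e (ls_self n)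

theorem Md.ls_rc (m : Md S el) {L K : List ℕ} {n : ℕ}
    (e : H18.CO.cmB (em [n]) (em L) (em K) = true) : el (enc n) ∈ relCentralizer (G el L) (G el K) := by
  have e' := e
  rw [H18.CO.cmB, band_eq_true] at e'
  exact le_rc (m.nmB (av_em _) (av_em _) e'.1) (m.ls_cm e) (ls_self n)

/-- the check for `Pl` -/
noncomputable def lsPl (X Y L : List ℕ) (s x : ℕ) : Bool :=
  band (band (leB (em Y) (em L)) (leB (em L) (em X)))
    (band (band (lgB (em X)) (band (lgB (em Y)) (lgB (em L))))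
      (band (band (nmB (em [s]) (em X)) (band (cmB (em [s]) (em X) (em L)) (cmB (em [s]) (em L) (em Y))))
        (band ((tb (em X)).mem (enc x)) ((tb (em Y)).nm (len (em Y)) (cm (enc s) (enc x))))))

theorem Md.ls_pl (m : Md S el) (pS : IsPGroup 3 S) {X Y L : List ℕ} {s x : ℕ}
    (q : EQ 3 (G el X) (G el Y)) (e : lsPl X Y L s x = true)
    (l1 : (em L).length = (em Y).length + 1) (l2 : (em X).length = (em Y).length + 2) :
    Pl (G el X) (G el Y) (G el L) (el (enc s)) := by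
  simp only [lsPl, band_eq_true] at e
  obtain ⟨⟨a1, a2⟩, ⟨b1, b2, b3⟩, ⟨c1, c2, c3⟩, d1, d2⟩ := e
  exact ⟨pS.to_le (m.gp_le_S _), q, m.ls_le a1, m.ls_le a2, by rw [m.lgG pS b3, m.lgG pS b2, l1],
    by rw [m.lgG pS b1, m.lgG pS b2, l2], m.ls_nm c1, (mem_rc.1 (m.ls_rc c3)).1,
    (mem_rc.1 (m.ls_rc c2)).2, (mem_rc.1 (m.ls_rc c3)).2, fun h =>
      m.nmemB pS (av_em _) b2 ((val_enc s).cm (val_enc x)) d2
        (m.cm (val_enc s) (val_enc x) ▸ h _ (m.ls_mem d1))⟩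

theorem Md.pl1 (m : Md S el) (pS : IsPGroup 3 S) : Pl (G el LE1) (G el LA) (G el LP) (el (enc 6561)) := by
  have q := eq_ph (p := 3) (pS.to_le (m.gp_le_S (em LE1)))
  rw [(m.ok pS).ph1] at q
  exact m.ls_pl pS (x := 2187) (q.mono (m.ls_le (by decide +kernel)) (m.ls_le (by decide +kernel)) le_rfl)
    (by decide +kernel) rfl rfl

theorem Md.pl2 (m : Md S el) (pS : IsPGroup 3 S) : Pl (G el LE2) (G el LA) (G el LP) (el (enc 2187)) := by
  have q := eq_ph (p := 3) (pS.to_le (m.gp_le_S (em LE2)))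
  rw [(m.ok pS).ph2] at q
  exact m.ls_pl pS (x := 6561) (q.mono (m.ls_le (by decide +kernel)) (m.ls_le (by decide +kernel)) le_rfl)
    (by decide +kernel) rfl rfl

theorem Md.pl3 (m : Md S el) (pS : IsPGroup 3 S) : Pl (G el LV) (G el LF3) (G el LF) (el (enc 729)) := by
  have q := eq_ph (p := 3) (pS.to_le (m.gp_le_S (em LE3)))
  rw [(m.ok pS).ph3] at q
  exact m.ls_pl pS (x := 2187) (q.mono le_rfl (m.ls_le (by decide +kernel)) (m.ls_le (by decide +kernel)))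
    (by decide +kernel) rfl rfl

theorem Md.pl4 (m : Md S el) (pS : IsPGroup 3 S) (b : Bool) : Pl (G el LA) (G el (LF4 b)) (G el LH) (el (enc 243)) := by
  cases b <;> exact m.ls_pl pS (x := 729) ((m.ok pS).eaA.eq.mono bot_le (m.ls_le (by decide +kernel)) le_rfl)
    (by decide +kernel) rfl rfl

theorem Md.ls1' (m : Md S el) (pS : IsPGroup 3 S) (hF : Sat S) (h1 : g ∈ 𝐍(G el LE1))
    (h2 : g ∈ 𝐍(G el LP)) : g ∈ 𝐍(G el LE1) ⊓ 𝐍(S ⊓ 𝐍(G el LE1)) ⊔ 𝐂(G el LE1) := by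
  refine ls pS hF (fn_of_norm (m.gp_le_S _) (m.ls_nS pS (by decide +kernel)))
    (X := fun i => G el ([LE1, LP].getD i LH)) (k := 2) rfl (fun i hi => ?_) (m.ok pS).ph1.ge
    (fun i hi => ?_) fun i hi => ?_
  · interval_cases i <;> exact m.ls_le (by decide +kernel)
  · interval_cases i <;> exact m.ls_cS pS (by decide +kernel) _
  · interval_cases i
    exacts [h1, h2]

theorem Md.ls2' (m : Md S el) (pS : IsPGroup 3 S) (hF : Sat S) (h1 : g ∈ 𝐍(G el LE2))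
    (h2 : g ∈ 𝐍(G el LP)) : g ∈ 𝐍(G el LE2) ⊓ 𝐍(S ⊓ 𝐍(G el LE2)) ⊔ 𝐂(G el LE2) := by
  refine ls pS hF (fn_of_norm (m.gp_le_S _) (m.ls_nS pS (by decide +kernel)))
    (X := fun i => G el ([LE2, LP, LH, LT].getD i LY)) (k := 4) rfl (fun i hi => ?_) (m.ok pS).ph2.ge
    (fun i hi => ?_) fun i hi => ?_
  · interval_cases i <;> exact m.ls_le (by decide +kernel)
  · interval_cases i <;> exact m.ls_cS pS (by decide +kernel) _
  · interval_cases i
    exacts [h1, h2, ((m.ok pS).nP h2).1, ((m.ok pS).nP h2).2]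

theorem Md.ls3' (m : Md S el) (pS : IsPGroup 3 S) (hF : Sat S) (h1 : g ∈ 𝐍(G el LE3))
    (h2 : g ∈ 𝐍(G el LF)) : g ∈ 𝐍(G el LE3) ⊓ 𝐍(S ⊓ 𝐍(G el LE3)) ⊔ 𝐂(G el LE3) := by
  refine ls pS hF (fn_of_norm (m.gp_le_S _) (m.ls_nS pS (by decide +kernel)))
    (X := fun i => G el ([LE3, LF].getD i LF3)) (k := 2) rfl (fun i hi => ?_) (m.ok pS).ph3.ge
    (fun i hi => ?_) fun i hi => ?_
  · interval_cases i <;> exact m.ls_le (by decide +kernel)
  · interval_cases i <;> exact m.ls_cS pS (by decide +kernel) _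
  · interval_cases i
    exacts [h1, h2]

omit [Finite Γ] in
theorem ls_fin (h : S ≤ 𝐍(E)) : 𝐍(E) ⊓ 𝐍(S ⊓ 𝐍(E)) ⊔ 𝐂(E) ≤ 𝐍(S) ⊔ 𝐂(E) := by
  rw [inf_eq_left.2 h]
  exact sup_le_sup_right inf_le_right _

theorem Md.ls1 (m : Md S el) (pS : IsPGroup 3 S) (hF : Sat S) :
    𝐍(G el LE1) ⊓ 𝐍(G el LP) ≤ 𝐍(S) ⊔ 𝐂(G el LE1) := by
  exact fun g h => ls_fin (m.ls_nS pS (by decide +kernel)) (m.ls1' pS hF h.1 h.2)

theorem Md.ls2 (m : Md S el) (pS : IsPGroup 3 S) (hF : Sat S) :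
    𝐍(G el LE2) ⊓ 𝐍(G el LP) ≤ 𝐍(S) ⊔ 𝐂(G el LE2) := by
  exact fun g h => ls_fin (m.ls_nS pS (by decide +kernel)) (m.ls2' pS hF h.1 h.2)

theorem Md.ls3 (m : Md S el) (pS : IsPGroup 3 S) (hF : Sat S) :
    𝐍(G el LE3) ⊓ 𝐍(G el LF) ≤ 𝐍(S) ⊔ 𝐂(G el LE3) := by
  exact fun g h => ls_fin (m.ls_nS pS (by decide +kernel)) (m.ls3' pS hF h.1 h.2)

theorem Md.lsR (m : Md S el) (pS : IsPGroup 3 S) (hF : Sat S) (b : Bool) : 𝐍(G el (LR b)) ≤ 𝐍(S) ⊔ 𝐂(G el (LR b)) := by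
  have o := m.ok pS
  intro g h
  refine ls_fin (o.sR b) (ls pS hF (fn_of_norm (m.gp_le_S _) (o.sR b))
    (X := fun i => G el ([LR b, LP].getD i LH)) (k := 2) rfl (fun i hi => ?_) (o.phR b).ge
    (fun i hi => ?_) fun i hi => ?_)
  · cases b <;> interval_cases i <;> exact m.ls_le (by decide +kernel)
  · cases b <;> interval_cases i <;> exact m.ls_cS pS (by decide +kernel) _
  · interval_cases i
    exacts [h, o.nR b h]

theorem Md.fn4 (m : Md S el) (pS : IsPGroup 3 S) (b : Bool) : (groupFusionSystem S).IsFullyNormalized (G el (LE4 b)) := by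
  have o := m.ok pS
  refine ⟨m.gp_le_S _, ?_⟩
  rintro _ ⟨φ, ⟨-, h2, g, hg⟩, rfl⟩
  have e : φ.range = cn g (G el (LE4 b)) := by
    ext y
    constructor
    · rintro ⟨x, rfl⟩; rw [hg]; exact conj_mem_cn x.2
    · intro hy
      exact ⟨⟨_, mem_cn.1 hy⟩, by rw [hg]; group⟩
  have QS : cn g (G el (LE4 b)) ≤ S := by
    rw [← e]; rintro _ ⟨x, rfl⟩; exact h2 x
  have aE : G el LA ≤ G el (LE4 b) := by cases b <;> exact m.ls_le (by decide +kernel)
  have aQ : G el LA ≤ cn g (G el (LE4 b)) :=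
    (cn_eq (o.wA g ((cn_mono aE).trans QS))).ge.trans (cn_mono aE)
  have l7 : lg 3 (cn g (G el (LE4 b))) = 7 := by
    rw [lg_cn]; cases b <;> exact m.lgG pS (by decide +kernel)
  have nn : ¬ S ≤ 𝐍(cn g (G el (LE4 b))) := fun hn => by
    have c := comm_le_of_lg pS QS aQ (by rw [l7, m.lgG pS (L := LA) (by decide +kernel)]; rfl) hn o.sA
    have r := m.rcQ pS (H := LS) (A := [6561, 2187]) (B := LP) (L := LS) (K := LA) (by decide +kernel)
    rw [m.top pS] at r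
    have e1 : cn g (G el (LE4 b)) = G el LP := eq_of_lg (pS.to_le (m.gp_le_S _))
      (r ▸ le_inf QS (le_rc (QS.trans o.sA) (comm_le_symm c)))
      (by rw [l7, m.lgG pS (L := LP) (by decide +kernel)]; rfl)
    have z1 := m.ceQ (H := LP) (A := [729, 243, 81, 27]) (B := LW) (L := LP) (by decide +kernel)
    have z2 : G el (LE4 b) ⊓ 𝐂(G el (LE4 b)) = G el [cond b 42 48, 1] := by
      cases b
      · exact m.ceQ (A := [8748, 729, 81, 9, 3]) (by decide +kernel)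
      · exact m.ceQ (A := [10935, 729, 81, 9, 3]) (by decide +kernel)
    rw [← e1, cn_cent, ← cn_inf, z2] at z1
    have := congrArg (lg 3) z1
    rw [lg_cn, m.lgG pS (L := LW) (by decide +kernel),
      m.lgG pS (L := [cond b 42 48, 1]) (by cases b <;> decide +kernel)] at this
    cases this
  have l1 := lg_inf_lt' pS nn
  have l2 := m.lg_S pS
  have l3 : lg 3 (G el (LR b)) = 8 := by cases b <;> exact m.lgG pS (by decide +kernel)
  rw [e]
  show Nat.card (S ⊓ 𝐍(cn g (G el (LE4 b))) : Subgroup Γ) ≤ Nat.card (S ⊓ 𝐍(G el (LE4 b)) : Subgroup Γ)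
  rw [o.n4 b, card_eq (pS.to_le inf_le_left), card_eq (pS.to_le (m.gp_le_S (em (LR b)))), l3]
  exact Nat.pow_le_pow_right (by norm_num) (by omega)

theorem Md.ls4' (m : Md S el) (pS : IsPGroup 3 S) (hF : Sat S) (h1 : g ∈ 𝐍(G el (LE4 b)))
    (h2 : g ∈ 𝐍(G el LH)) :
    g ∈ 𝐍(G el (LE4 b)) ⊓ 𝐍(S ⊓ 𝐍(G el (LE4 b))) ⊔ 𝐂(G el (LE4 b)) := by
  have o := m.ok pS
  refine ls pS hF (m.fn4 pS b)
    (X := fun i => G el ([LE4 b, LH].getD i (LF4 b))) (k := 2) rfl (fun i hi => ?_) (o.ph4 b).ge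
    (fun i hi => ?_) fun i hi => ?_
  · cases b <;> interval_cases i <;> exact m.ls_le (by decide +kernel)
  · rw [o.n4 b]
    cases b <;> interval_cases i <;> exact m.ls_cm (by decide +kernel)
  · interval_cases i
    exacts [h1, h2]

theorem Md.ls4 (m : Md S el) (pS : IsPGroup 3 S) (hF : Sat S) (b : Bool) :
    𝐍(G el (LE4 b)) ⊓ 𝐍(G el LH) ≤ 𝐍(G el (LE4 b)) ⊓ 𝐍(G el (LR b)) ⊔ 𝐂(G el (LE4 b)) := by
  intro g h
  have := m.ls4' pS hF h.1 h.2
  rwa [(m.ok pS).n4 b] at this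

theorem Md.raw1 (m : Md S el) (pS : IsPGroup 3 S) (hF : Sat S) (h : Mv S (G el LE1)) :
    ∃ w ∈ 𝐍(G el LE1), w ∈ relCentralizer (G el LA) (G el LH) ∧
      w * el (enc 243) * w⁻¹ * (el (enc 2187))⁻¹ ∈ G el LA ∧ w * el (enc 2187) * w⁻¹ * el (enc 243) ∈ G el LA := by
  have o := m.ok pS
  have p := m.pl1 pS
  have n2 := o.nA p.eq.le (m.gp_le_S _)
  exact p.gw le_rfl n2 (norm_rc n2 (o.ph1 ▸ norm_ph le_rfl)) p.nX (m.ls_rc (by decide +kernel))
    (fun c => h fun g hg => m.ls1' pS hF hg (c hg)) (m.ls_mem (by decide +kernel))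
    (m.ls_nmem pS (by decide +kernel)) (m.ls_mem (by decide +kernel)) (m.ls_nmem pS (by decide +kernel))

theorem Md.raw2 (m : Md S el) (pS : IsPGroup 3 S) (hF : Sat S) (h : Mv S (G el LE2)) :
    ∃ w ∈ 𝐍(G el LE2), w ∈ 𝐂(G el LZ) ∧
      w * el (enc 243) * w⁻¹ * (el (enc 6561))⁻¹ ∈ G el LA ∧ w * el (enc 6561) * w⁻¹ * el (enc 243) ∈ G el LA := by
  have o := m.ok pS
  have p := m.pl2 pS
  exact p.gw le_rfl (o.nA p.eq.le (m.gp_le_S _))
    (norm_cent (o.z2 ▸ norm_inf le_rfl (norm_cent le_rfl))) p.nX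
    (m.ceB (av_em [2187]) (av_em LZ) (by decide +kernel) (ls_self _))
    (fun c => h fun g hg => m.ls2' pS hF hg (c hg)) (m.ls_mem (by decide +kernel))
    (m.ls_nmem pS (by decide +kernel)) (m.ls_mem (by decide +kernel)) (m.ls_nmem pS (by decide +kernel))

theorem Md.raw3 (m : Md S el) (pS : IsPGroup 3 S) (hF : Sat S) (h : Mv S (G el LE3)) :
    ∃ w ∈ 𝐍(G el LE3), w ∈ relCentralizer (G el LE3) (G el LV) ∧
      w * el (enc 81) * w⁻¹ * (el (enc 2187))⁻¹ ∈ G el LF3 ∧ w * el (enc 2187) * w⁻¹ * el (enc 81) ∈ G el LF3 := by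
  have o := m.ok pS
  exact (m.pl3 pS).gw o.n3V (o.ph3 ▸ norm_ph le_rfl) (norm_rc le_rfl o.n3V)
    (m.ls_nm (by decide +kernel)) (m.ls_rc (by decide +kernel))
    (fun c => h fun g hg => m.ls3' pS hF hg (c hg)) (m.ls_mem (by decide +kernel))
    (m.ls_nmem pS (by decide +kernel)) (m.ls_mem (by decide +kernel)) (m.ls_nmem pS (by decide +kernel))

theorem Md.raw4 (m : Md S el) (pS : IsPGroup 3 S) (hF : Sat S) (h : Mv S (G el (LE4 b))) :
    ∃ g ∈ 𝐍(G el (LE4 b)), g ^ 3 = 1 ∧ g ∈ relCentralizer (G el (LE4 b)) (G el LA) ∧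
      g * el (enc 729) * g⁻¹ * (el (enc 729))⁻¹ ∈ G el (LF4 b) ∧
      g * el (enc 27) * g⁻¹ * (el (enc 27))⁻¹ * el (enc 729) ∈ G el (LF4 b) := by
  have o := m.ok pS
  have p := m.pl4 pS b
  have aE : G el LA ≤ G el (LE4 b) := by cases b <;> exact m.ls_le (by decide +kernel)
  have n1 := o.nA aE (m.gp_le_S _)
  have n2 : 𝐍(G el (LE4 b)) ≤ 𝐍(G el (LF4 b)) := o.ph4 b ▸ norm_ph le_rfl
  have hs : el (enc 243) ∈ 𝐍(G el (LE4 b)) := by cases b <;> exact m.ls_nm (by decide +kernel)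
  have hK : el (enc 243) ∈ relCentralizer (G el (LE4 b)) (G el LA) := by
    cases b <;> exact m.ls_rc (by decide +kernel)
  have hx : el (enc 729) ∈ G el LA := m.ls_mem (by decide +kernel)
  have hy : el (enc 27) ∈ G el LH := m.ls_mem (by decide +kernel)
  obtain ⟨w, hw, wK, f1, f2⟩ := p.gw n1 n2 (norm_rc le_rfl n1) hs hK
    (fun c => h fun g hg => m.ls4' pS hF hg (c hg)) hx (m.ls_nmem pS (by decide +kernel)) hy
    (by cases b <;> exact m.ls_nmem pS (by decide +kernel))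
  have f3 := p.c2 _ hy
  have s3 : el (enc 243) ^ 3 = 1 := by
    rw [← m.cu (val_enc _), m.eq_one (val_enc _).cu]; decide +kernel
  have v1 := (val_enc 243).cg (val_enc 729)
  have v2 := (val_enc 729).mu (val_enc 27)
  have f4 : el (mu (H18.CO.cg (enc 243) (enc 729)) (H18.CO.iv (mu (enc 729) (enc 27)))) ∈ G el (LF4 b) := by
    cases b <;> exact m.memB (av_em _) (v1.mu v2.iv.1) (by decide +kernel)
  rw [m.mul v1 v2.iv.1, m.iv v2, m.cg (val_enc _) (val_enc _), m.mul (val_enc _) (val_enc _)] at f4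
  have xN := n2 (le_normalizer (aE hx))
  have yN := n2 (le_normalizer (aE (p.lX hy)))
  have gN := mul_mem (mul_mem hw hs) (inv_mem hw)
  rw [commutatorElement_def] at f3
  generalize el (enc 243) = s at *
  generalize el (enc 729) = x at *
  generalize el (enc 27) = y at *
  refine ⟨w * s * w⁻¹, gN, by rw [conj_pow, s3, mul_one, mul_inv_cancel],
    mul_mem (mul_mem wK hK) (inv_mem wK), ?_, ?_⟩
  · have := mul_mem (mul_mem (conj_mem (n2 gN) (inv_mem f1)) (conj_mem (n2 hw) f3)) f1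
    convert this using 1; group
  · have := mul_mem (conj_mem' xN (inv_mem f1)) (conj_mem' xN (conj_mem yN
      (mul_mem (mul_mem (inv_mem f2) (conj_mem (n2 hw) (inv_mem f4))) (conj_mem (n2 gN) f2))))
    convert this using 1; group

end H18.CO
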