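import Mathlib
import Cfsg.Agent.Base
import Cfsg.Agent.Lib.CO3.Defs

set_option autoImplicit false
set_option maxRecDepth 100000

namespace H18.CO

open Subgroup H54 H2 H90 H91 H93.R3 H18.TH Cfsg Cfsg.FusionSystem
open scoped commutatorElement Pointwise

local notation:max "𝐍(" A ")" => Subgroup.normalizer (SetLike.coe A)
local notation:max "𝐂(" A ")" => Subgroup.centralizer (SetLike.coe A)

universe u v

variable {Γ : Type u} [Group Γ] {Γ' : Type v} [Group Γ'] {S : Subgroup Γ} {S' : Subgroup Γ'}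
  {el : ℕ → Γ} {el' : ℕ → Γ'} {a : ℕ → Γ}

noncomputable def wv (M L : List ℕ) : ℕ :=
  List.rec (motive := fun _ => ℕ) 0 (fun i _ ih => mu (enc (M.getD i 0)) ih) L

/-- the elements with the numbers in `M` satisfy the defining relations -/
noncomputable def pcM (M : List ℕ) : Bool :=
  band (allLt (fun i => Nat.beq (cu (enc (M.getD i 0))) 0) 9)
    (band (allLt (fun j => allLt (fun i =>
      Nat.beq (mu (enc (M.getD j 0)) (enc (M.getD i 0))) (wv M (i :: rw0 j i))) j) 9)
    (band (nb (Nat.beq (enc (M.getD 8 0)) 0)) (Nat.beq (len M) 9)))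

namespace PC

/-- collection: `d` is the collected part in reverse order, `t` the rest -/
noncomputable def col (f : ℕ) : List ℕ → List ℕ → List ℕ :=
  Nat.rec (motive := fun _ => List ℕ → List ℕ → List ℕ) (fun d t => List.reverseAux d t)
    (fun _ ih d t => List.rec (motive := fun _ => List ℕ) (List.reverseAux d []) (fun i t' _ =>
      List.rec (motive := fun _ => List ℕ) (ih [i] t') (fun j d' _ =>
        Bool.rec (motive := fun _ => List ℕ)
          (Bool.rec (motive := fun _ => List ℕ) (ih (i :: j :: d') t') (ih d'.tail t')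
            (band (Nat.beq i j) (band (Nat.ble i 8) (Nat.beq (d'.headD 9) i))))
          (ih d' (i :: (rw0 j i ++ t'))) (band (Nat.ble (Nat.succ i) j) (Nat.ble j 8))) d) t) f

theorem col_prod (h : Pc a) : ∀ (f : ℕ) (d t : List ℕ),
    ((col f d t).map a).prod = (d.reverse.map a).prod * (t.map a).prod
  | 0, d, t => by
    show ((List.reverseAux d t).map a).prod = _
    rw [List.reverseAux_eq, List.map_append, List.prod_append]
  | f + 1, d, [] => by
    show ((List.reverseAux d []).map a).prod = _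
    rw [List.reverseAux_eq, List.map_append, List.prod_append]
  | f + 1, [], i :: t => by
    show ((col f [i] t).map a).prod = _
    rw [col_prod h]; simp
  | f + 1, j :: d, i :: t => by
    show ((Bool.rec (motive := fun _ => List ℕ)
          (Bool.rec (motive := fun _ => List ℕ) (col f (i :: j :: d) t) (col f d.tail t)
            (band (Nat.beq i j) (band (Nat.ble i 8) (Nat.beq (d.headD 9) i))))
          (col f d (i :: (rw0 j i ++ t))) (band (Nat.ble (Nat.succ i) j) (Nat.ble j 8))).map a).prod = _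
    cases e : band (Nat.ble (Nat.succ i) j) (Nat.ble j 8)
    · cases e' : band (Nat.beq i j) (band (Nat.ble i 8) (Nat.beq (d.headD 9) i))
      · show ((col f (i :: j :: d) t).map a).prod = _
        rw [col_prod h]; simp [mul_assoc]
      · show ((col f d.tail t).map a).prod = _
        simp only [band_eq_true, Nat.beq_eq, Nat.ble_eq] at e'
        obtain ⟨rfl, e1, e2⟩ := e'
        rcases d with _ | ⟨k, d⟩
        · simp at e2; omega
        · obtain rfl : k = i := e2
          have c := h.cb k (by omega)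
          rw [pow_three] at c
          rw [col_prod h]
          simp only [List.tail_cons, List.reverse_cons, List.map_append, List.prod_append, List.map_cons,
            List.map_nil, List.prod_cons, List.prod_nil, mul_one, mul_assoc]
          rw [← mul_assoc (a k) (a k) (List.prod _), ← mul_assoc (a k) _ (List.prod _), c, one_mul]
    · show ((col f d (i :: (rw0 j i ++ t))).map a).prod = _
      simp only [band_eq_true, Nat.ble_eq] at e
      rw [col_prod h]
      simp only [List.reverse_cons, List.map_append, List.prod_append, List.map_cons,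
        List.map_nil, List.prod_cons, List.prod_nil, mul_one, mul_assoc]
      rw [← mul_assoc (a j), h.rw j (by omega) i e.1, mul_assoc]

noncomputable def eqW : List ℕ → List ℕ → Bool := fun A =>
  List.rec (motive := fun _ => List ℕ → Bool)
    (fun B => List.rec (motive := fun _ => Bool) true (fun _ _ _ => false) B)
    (fun x _ ih B => List.rec (motive := fun _ => Bool) false
      (fun b B' _ => band (Nat.beq x b) (ih B')) B) A

theorem eqW_eq : ∀ {A B : List ℕ}, eqW A B = true → A = B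
  | [], [], _ => rfl
  | [], _ :: _, h => by cases h
  | _ :: _, [], h => by cases h
  | x :: A, b :: B, h => by
    have h' : band (Nat.beq x b) (eqW A B) = true := h
    rw [band_eq_true, Nat.beq_eq] at h'
    rw [h'.1, eqW_eq h'.2]

theorem eqW_sound (h : Pc a) {u w : List ℕ} (e : eqW (col 2000 [] u) w = true) :
    (u.map a).prod = (w.map a).prod := by
  rw [← eqW_eq e, col_prod h]; simp

def w5 (v : ℕ) : List ℕ :=
  List.replicate (v / 81 % 3) 4 ++ (List.replicate (v / 27 % 3) 5 ++
    (List.replicate (v / 9 % 3) 6 ++ (List.replicate (v / 3 % 3) 7 ++ List.replicate (v % 3) 8)))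

def w4 (v : ℕ) : List ℕ :=
  List.replicate (v / 27 % 3) 0 ++
    (List.replicate (v / 9 % 3) 1 ++ (List.replicate (v / 3 % 3) 2 ++ List.replicate (v % 3) 3))

theorem prod_w5 (a : ℕ → Γ) (v : ℕ) : ((w5 v).map a).prod = p5 a 4 v := by
  simp only [w5, p5, List.map_append, List.prod_append, List.map_replicate, List.prod_replicate,
    mul_assoc]

theorem prod_w4 (a : ℕ → Γ) (v : ℕ) : ((w4 v).map a).prod = p4 a v := by
  simp only [w4, p4, List.map_append, List.prod_append, List.map_replicate, List.prod_replicate,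
    mul_assoc]

noncomputable def rowC (r : ℕ) : Bool :=
  band (allLt (fun q => force (gT r q) fun t => force (t / 2225411534618624) fun t1 =>
      force (t % 253) fun t2 => eqW (col 2000 [] (w4 q ++ w4 r)) (w4 t1 ++ w5 t2)) 81)
    (allLt (fun q => force (gA r q % 253) fun s => eqW (col 2000 [] (w5 q ++ w4 r)) (w4 r ++ w5 s)) 243)

theorem row_chk : allL rowC [0, 1, 3, 9, 27] = true := by decide +kernel

theorem ea_enc (a : ℕ → Γ) (n : ℕ) : ea a (enc n) = a 0 ^ (n / 6561 % 3) * a 1 ^ (n / 2187 % 3) *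
    a 2 ^ (n / 729 % 3) * a 3 ^ (n / 243 % 3) * a 4 ^ (n / 81 % 3) * a 5 ^ (n / 27 % 3) *
    a 6 ^ (n / 9 % 3) * a 7 ^ (n / 3 % 3) * a 8 ^ (n % 3) := by
  rw [enc_eq, ea_eq a _ (Nat.mod_lt n (by norm_num)), p4, p5,
    show n / 243 % 81 / 27 % 3 = n / 6561 % 3 by omega, show n / 243 % 81 / 9 % 3 = n / 2187 % 3 by omega,
    show n / 243 % 81 / 3 % 3 = n / 729 % 3 by omega, show n / 243 % 81 % 3 = n / 243 % 3 by omega,
    show n % 243 / 81 % 3 = n / 81 % 3 by omega, show n % 243 / 27 % 3 = n / 27 % 3 by omega,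
    show n % 243 / 9 % 3 = n / 9 % 3 by omega, show n % 243 / 3 % 3 = n / 3 % 3 by omega,
    show n % 243 % 3 = n % 3 by omega]
  simp only [mul_assoc]

theorem ea_zero (a : ℕ → Γ) : ea a 0 = 1 := by rw [← enc_zero, ea_enc]; simp

theorem ea_iv (h : Rel a) {x : ℕ} (hx : Val x) : ea a (iv x) = (ea a x)⁻¹ :=
  eq_inv_of_mul_eq_one_right (by rw [← h.mul hx hx.iv.1, hx.iv.2, ea_zero])

theorem ker_chk : allLt (fun i => allLt (fun j => force (Nat.add (Nat.mul 243 i) j) fun n =>
    bor (Nat.ble n 2) (force (enc n) fun x => anyL (fun g => force (cm x (enc g)) fun y =>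
      band (Nat.ble 1 y) (Nat.ble (Nat.succ (dec y)) n)) [6561, 2187, 729])) 243) 81 = true := by
  decide +kernel

theorem ker (h : Pc a) (r : Rel a) (hz : a 8 ≠ 1) (n : ℕ) :
    n < 19683 → ea a (enc n) = 1 → enc n = 0 := by
  induction n using Nat.strong_induction_on with
  | _ n ih =>
    intro hn e
    have k := (allLt_iff _ _).1 ((allLt_iff _ _).1 ker_chk (n / 243) (by omega)) (n % 243)
      (Nat.mod_lt _ (by norm_num))
    rw [show Nat.add (Nat.mul 243 (n / 243)) (n % 243) = n from Nat.div_add_mod n 243] at k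
    simp only [force_eq, bor_eq_true, anyL_iff, band_eq_true, Nat.ble_eq] at k
    rcases k with k | ⟨g, -, k1, k2⟩
    · rw [ea_enc] at e
      interval_cases n
      · exact enc_zero
      · exact absurd (by simpa using e) hz
      · have c := h.cb 8 (by norm_num)
        have e' : a 8 ^ 2 = 1 := by simpa using e
        rw [pow_succ, e', one_mul] at c
        exact absurd c hz
    · have v := (val_enc n).cm (val_enc g)
      have := ih _ k2 v.enc_dec.2 (by
        rw [v.enc_dec.1, cm, r.mul ((val_enc _).mu (val_enc _)) ((val_enc _).mu (val_enc _)).iv.1,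
          ea_iv r ((val_enc _).mu (val_enc _)), r.mul (val_enc _) (val_enc _), r.mul (val_enc _) (val_enc _), e]
        group)
      rw [v.enc_dec.1] at this
      omega

theorem can_chk : allLt (fun r => force (Nat.div (iv (Nat.mul 2225411534618624 r)) 2225411534618624) fun s =>
    band (allLt (fun q => bimp (Nat.beq (Nat.div (gT r q) 2225411534618624) 0) (Nat.beq q s)) 81)
      (allLt (fun v => Nat.beq (Nat.mod (gA s (Nat.mod (gA r v) 253)) 253) v) 243)) 81 = true := by
  decide +kernel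

theorem ad_can {t w w' u : ℕ} (hw : w < 243) (hw' : w' < 243) (e : wd (ad t w u) = 0)
    (e' : wd (ad t w' u) = 0) : w = w' := by
  have k : ∀ {v : ℕ}, wd (ad t v u) = 0 → ad t v u = 0 := fun {v} c => by
    rw [← (gW_eq (ad_lt t v u)).2, c]
  have b := k e
  have b' := k e'
  have z : ∀ {a b c d e : ℕ}, a + 3 * b + 9 * c + 27 * d + 81 * e = 0 →
      a = 0 ∧ b = 0 ∧ c = 0 ∧ d = 0 ∧ e = 0 := fun h => by omega
  have y : ∀ {a b b' c : ℕ}, (a % 3 + b % 3 + c % 3) % 3 = 0 → (a % 3 + b' % 3 + c % 3) % 3 = 0 →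
      b % 3 = b' % 3 := fun h h' => by omega
  have x : ∀ v < 243, v = v % 3 + 3 * (v / 3 % 3) + 9 * (v / 9 % 3) + 27 * (v / 27 % 3) +
      81 * (v / 81 % 3) := by decide +kernel
  obtain ⟨b0, b1, b2, b3, b4⟩ := z b
  obtain ⟨c0, c1, c2, c3, c4⟩ := z b'
  rw [x w hw, x w' hw', y b0 c0, y b1 c1, y b2 c2, y b3 c3, y b4 c4]

theorem can {x y z : ℕ} (hx : Val x) (hy : Val y) (hz : Val z) (e : mu x z = 0) (e' : mu y z = 0) :
    x = y := by
  obtain ⟨q, hq, v, hv, rfl⟩ := hx
  obtain ⟨q', hq', v', hv', rfl⟩ := hy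
  obtain ⟨r, hr, u, hu, rfl⟩ := hz
  have k := (allLt_iff _ _).1 can_chk r hr
  simp only [force_eq, band_eq_true, allLt_iff, bimp_eq_true, Nat.beq_eq] at k
  obtain ⟨h, -, t, ht, e1⟩ := row_val hr hq
  obtain ⟨w, hw, e2⟩ := row_val' hr hv
  obtain ⟨h', -, t', ht', e1'⟩ := row_val hr hq'
  obtain ⟨w', hw', e2'⟩ := row_val' hr hv'
  rw [mu_form hv hu e1 e2] at e
  rw [mu_form hv' hu e1' e2'] at e'
  obtain rfl : h = 0 := by omega
  obtain rfl : h' = 0 := by omega
  have c : q = q' := (k.1 q hq (by rw [e1]; exact (sp ht).1)).trans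
    (k.1 q' hq' (by rw [e1']; exact (sp ht').1)).symm
  subst c
  have c : t = t' := by rw [← (sp (q := 0) ht).2.2, ← (sp (q := 0) ht').2.2, ← e1, ← e1']
  subst c
  have c : w = w' := ad_can (t := t) (u := u) hw hw' (by omega) (by omega)
  subst c
  rw [← k.2 v hv, ← k.2 v' hv', e2, e2']

theorem wv_val (M : List ℕ) : ∀ L, Val (wv M L)
  | [] => val_zero
  | _ :: L => (val_enc _).mu (wv_val M L)

theorem wv_eq (m : Md S el) (M : List ℕ) : ∀ L,
    el (wv M L) = (L.map fun i => el (enc (M.getD i 0))).prod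
  | [] => m.one
  | i :: L => by
    rw [List.map_cons, List.prod_cons, ← wv_eq m M L]; exact m.mul (val_enc _) (wv_val M L)

theorem pc_of (m : Md S el) {M : List ℕ} (e : pcM M = true) : Pc fun i => el (enc (M.getD i 0)) := by
  simp only [pcM, band_eq_true, allLt_iff, Nat.beq_eq] at e
  refine ⟨fun i hi => ?_, fun j hj i hi => ?_⟩
  · rw [← m.cu (val_enc _), e.1 i hi, m.one]
  · rw [← m.mul (val_enc _) (val_enc _), e.2.1 j hj i hi, wv_eq m, List.map_cons, List.prod_cons]

theorem ebA_cons (m : Md S el) (c : ℕ) (M : List ℕ) (n p : ℕ) {x : ℕ} {g : Γ} (hx : Val x ∧ el x = g)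
    {k : Γ} (h : ∀ {y}, Val y ∧ el y = g * el (enc c) ^ (n / p % 3) → el (ebA M n (p / 3) y) = k) :
    el (ebA (c :: M) n p x) = k := by
  show el (force (mp x (enc c) (Nat.mod (Nat.div n p) 3)) (ebA M n (Nat.div p 3))) = k
  rw [force_eq]
  exact h ⟨hx.1.mp (val_enc _) _, hx.2 ▸ m.mp hx.1 (val_enc _) (Nat.mod_lt _ (by norm_num))⟩

theorem eb_eq (m : Md S el) {M : List ℕ} (e : M.length = 9) (n : ℕ) :
    el (eb M n) = ea (fun i => el (enc (M.getD i 0))) (enc n) := by
  match M, e with
  | [c0, c1, c2, c3, c4, c5, c6, c7, c8], _ =>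
    refine ebA_cons m _ _ _ _ ⟨val_zero, m.one⟩ fun h => ebA_cons m _ _ _ _ h fun h =>
      ebA_cons m _ _ _ _ h fun h => ebA_cons m _ _ _ _ h fun h => ebA_cons m _ _ _ _ h fun h =>
      ebA_cons m _ _ _ _ h fun h => ebA_cons m _ _ _ _ h fun h => ebA_cons m _ _ _ _ h fun h =>
      ebA_cons m _ _ _ _ h fun h => h.2.trans ?_
    rw [ea_enc]; simp

end PC

open PC

theorem Pc.rel (h : Pc a) : Rel a := by
  refine ⟨fun i hi j hj => ?_, fun i hi => h.cb _ (by omega), fun r hr => ?_⟩
  · have k : ∀ j < 5, ∀ i < j, rw0 (4 + j) (4 + i) = [4 + j] := by decide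
    have k' : ∀ j < 5, ∀ i < j, Commute (a (4 + j)) (a (4 + i)) := fun j hj i hi => by
      have := h.rw (4 + j) (by omega) (4 + i) (by omega)
      rw [k j hj i hi] at this
      simpa [Commute, SemiconjBy] using this
    rcases lt_trichotomy i j with c | rfl | c
    exacts [(k' j hj i c).symm, Commute.refl _, k' i hi j c]
  · have k := (allL_iff _ _).1 row_chk r hr
    simp only [rowC, force_eq, band_eq_true, allLt_iff] at k
    refine ⟨fun q hq => ?_, fun q hq => ?_⟩
    · have := eqW_sound h (k.1 q hq)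
      simp only [List.map_append, List.prod_append, prod_w4, prod_w5] at this
      exact this.symm
    · have := eqW_sound h (k.2 q hq)
      simp only [List.map_append, List.prod_append, prod_w4, prod_w5] at this
      exact this.symm

theorem ea_gen (a : ℕ → Γ) : ∀ i < 9, ea a (enc (LS.getD i 0)) = a i := by
  intro i hi
  rw [ea_enc]
  interval_cases i <;> simp [LS]

theorem Pc.md [Finite Γ] (h : Pc a) (hz : a 8 ≠ 1) : Md (closure (a '' {i | i < 9})) (ea a) := by
  have r := h.rel
  have g : ∀ i < 9, ∀ k : ℕ, a i ^ k ∈ closure (a '' {i | i < 9}) := fun i hi k =>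
    pow_mem (Subgroup.subset_closure (Set.mem_image_of_mem a (show i ∈ {i | i < 9} from hi))) k
  refine ⟨r.mul, fun {x y} hx hy e => ?_, fun x => ?_, fun g hg => ?_⟩
  · have v := hx.mu hy.iv.1
    have := ker h r hz _ v.enc_dec.2 (by
      rw [v.enc_dec.1, r.mul hx hy.iv.1, ea_iv r hy, e, mul_inv_cancel])
    rw [v.enc_dec.1] at this
    exact can hx hy hy.iv.1 this hy.iv.2
  · unfold ea p4 p5
    refine mul_mem (mul_mem (mul_mem (mul_mem ?_ ?_) ?_) ?_)
      (mul_mem (mul_mem (mul_mem (mul_mem ?_ ?_) ?_) ?_) ?_) <;> exact g _ (by norm_num) _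
  · induction hg using closure_induction with
    | mem _ hx => obtain ⟨i, hi, rfl⟩ := hx; exact ⟨_, val_enc _, ea_gen a i hi⟩
    | one => exact ⟨0, val_zero, ea_zero a⟩
    | mul _ _ _ _ b c =>
      obtain ⟨x, hx, rfl⟩ := b
      obtain ⟨y, hy, rfl⟩ := c
      exact ⟨_, hx.mu hy, r.mul hx hy⟩
    | inv _ _ b => obtain ⟨x, hx, rfl⟩ := b; exact ⟨_, hx.iv.1, ea_iv r hx⟩

theorem Md.card (m : Md S el) : Nat.card S = 3 ^ 9 := by
  have : Function.Bijective fun n : Fin 19683 => (⟨el (enc n), m.mem _⟩ : S) := by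
    refine ⟨fun n k e => Fin.ext ?_, fun ⟨g, hg⟩ => ?_⟩
    · rw [← (dec_enc n.2).1, m.inj (val_enc _) (val_enc _) (congrArg Subtype.val e), (dec_enc k.2).1]
    · obtain ⟨x, v, rfl⟩ := m.sur g hg
      obtain ⟨n, hn, rfl⟩ := v.ex
      exact ⟨⟨n, hn⟩, rfl⟩
  rw [← Nat.card_eq_of_bijective _ this, Nat.card_eq_fintype_card, Fintype.card_fin]
  norm_num

theorem Md.pc (m : Md S el) : Pc fun i => el (enc (LS.getD i 0)) := by
  exact pc_of m (by decide +kernel)

theorem Md.tw [Finite Γ] (m : Md S el) {M : List ℕ} (e : pcM M = true) :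
    Md S fun x => el (eb M (dec x)) := by
  have p := pc_of m e
  simp only [pcM, band_eq_true, nb_eq, Nat.beq_eq, len_eq] at e
  have k := p.md fun c => e.2.2.1 ((m.eq_one (val_enc _)).1 c)
  have hS : closure ((fun i => el (enc (M.getD i 0))) '' {i | i < 9}) = S :=
    eq_of_le_of_card_ge ((closure_le _).2 fun _ ⟨_, _, c⟩ => c ▸ m.mem _) (by rw [m.card, k.card])
  rw [hS] at k
  have q : ∀ {x}, Val x → el (eb M (dec x)) = ea (fun i => el (enc (M.getD i 0))) x := fun hx => by
    rw [eb_eq m e.2.2.2, hx.enc_dec.1]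
  refine ⟨fun hx hy => ?_, fun hx hy c => ?_, fun x => m.mem _, fun g hg => ?_⟩
  · rw [q hx, q hy, q (hx.mu hy), k.mul hx hy]
  · exact k.inj hx hy (by rw [← q hx, ← q hy]; exact c)
  · obtain ⟨x, hx, c⟩ := k.sur g hg
    exact ⟨x, hx, (q hx).trans c⟩

theorem Md.equiv (m : Md S el) (m' : Md S' el') :
    ∃ θ : S ≃* S', ∀ x, Val x → (θ ⟨el x, m.mem x⟩ : Γ') = el' x := by
  choose c hc using fun g : S => m.sur g g.2
  have k : ∀ x, Val x → c ⟨el x, m.mem x⟩ = x := fun x hx => m.inj (hc _).1 hx (hc _).2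
  let f : S →* S' := MonoidHom.mk' (fun g => ⟨el' (c g), m'.mem _⟩) fun g h => Subtype.ext (by
    have : c (g * h) = mu (c g) (c h) := m.inj (hc _).1 ((hc _).1.mu (hc _).1) (by
      rw [m.mul (hc _).1 (hc _).1, (hc _).2, (hc _).2, (hc _).2]; rfl)
    show el' (c (g * h)) = el' (c g) * el' (c h)
    rw [this, m'.mul (hc _).1 (hc _).1])
  have b : Function.Bijective f := by
    refine ⟨fun g h e => Subtype.ext ?_, fun ⟨g, hg⟩ => ?_⟩
    · rw [← (hc g).2, ← (hc h).2, m'.inj (hc g).1 (hc h).1 (congrArg Subtype.val e)]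
    · obtain ⟨x, v, rfl⟩ := m'.sur g hg
      exact ⟨⟨el x, m.mem x⟩, Subtype.ext (congrArg el' (k x v))⟩
  exact ⟨MulEquiv.ofBijective f b, fun x hx => congrArg el' (k x hx)⟩

theorem Md.map (m : Md S el) (θ : S ≃* S') : Md S' fun x => (θ ⟨el x, m.mem x⟩ : Γ') := by
  refine ⟨fun {x y} hx hy => ?_, fun {x y} hx hy e => ?_, fun x => (θ _).2, fun g hg => ?_⟩
  · rw [← coe_mul, ← map_mul]
    exact congrArg (fun t => (θ t : Γ')) (Subtype.ext (m.mul hx hy))
  · exact m.inj hx hy (congrArg Subtype.val (θ.injective (Subtype.ext e)))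
  · obtain ⟨x, v, e⟩ := m.sur _ (θ.symm ⟨g, hg⟩).2
    refine ⟨x, v, ?_⟩
    rw [show (⟨el x, m.mem x⟩ : S) = θ.symm ⟨g, hg⟩ from Subtype.ext e, MulEquiv.apply_symm_apply]

end H18.CO
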