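import Mathlib
import Cfsg.Agent.Base
import Cfsg.Agent.Lib.CO3.GA
import Cfsg.Agent.Lib.CO3.CH
import Cfsg.Agent.Lib.CO3.PC
import Cfsg.Agent.Lib.CO3.WD

set_option autoImplicit false
set_option maxRecDepth 100000

namespace H18.CO

open Subgroup H54 H2 H90 H91 H93.R3 H18.TH Cfsg Cfsg.FusionSystem
open scoped commutatorElement Pointwise

local notation:max "𝐍(" A ")" => Subgroup.normalizer (SetLike.coe A)
local notation:max "𝐂(" A ")" => Subgroup.centralizer (SetLike.coe A)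

universe u v

variable {Γ : Type u} [Group Γ] [Finite Γ] {Γ' : Type v} [Group Γ'] [Finite Γ'] {S E : Subgroup Γ}
  {S' : Subgroup Γ'} {el : ℕ → Γ} {el' : ℕ → Γ'} {g : Γ} {b : Bool}

/-- the sign -/
def twSg (a : Bool) : ℤ := cond a (-1) 1

theorem twSg_eq : twSg true = -1 ∧ twSg false = 1 := ⟨rfl, rfl⟩

theorem tw_ev {X : Subgroup Γ} (pS : IsPGroup 3 S) (hX : X ≤ S) (e : lg 3 S ≤ lg 3 X + 1)
    (hg : g ∈ 𝐍(S)) (hg' : g ∈ 𝐍(X)) : ∃ a, Ev g S X (twSg a) := by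
  obtain ⟨k, hk⟩ := ev_of_lg pS hX e hg hg'
  have p3 : ∀ x ∈ S, ∀ j : ℤ, x ^ (3 * j) ∈ X := fun x hx j => by
    rw [zpow_mul]; exact zpow_mem (by exact_mod_cast pow_mem_of_lg pS hX e hx) _
  have key : ∀ r : ℤ, (∃ j, k = r + 3 * j) → Ev g S X r := fun r ⟨j, hj⟩ x hx => by
    have := mul_mem (hk x hx) (p3 x hx j)
    rwa [show g * x * g⁻¹ * (x ^ k)⁻¹ * x ^ (3 * j) = g * x * g⁻¹ * (x ^ r)⁻¹ by rw [hj]; group] at this
  have h3 : k % 3 = 0 ∨ k % 3 = 1 ∨ k % 3 = 2 := by omega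
  rcases h3 with h | h | h
  · refine ⟨false, fun x hx => ?_⟩
    have := key 0 ⟨k / 3, by omega⟩ x hx
    rw [zpow_zero, inv_one, mul_one] at this
    exact mul_mem this (inv_mem (zpow_mem (mem_of_conj hg' this) _))
  · exact ⟨false, key 1 ⟨k / 3, by omega⟩⟩
  · exact ⟨true, key (-1) ⟨k / 3 + 1, by omega⟩⟩

omit [Finite Γ] in
theorem tw_div {X : Subgroup Γ} {h : Γ} {k : ℤ} (a : Ev g S X k) (b : Ev h S X k) (hh : h ∈ 𝐍(X))
    {x : Γ} (hx : x ∈ S) : ⁅h⁻¹ * g, x⁆ ∈ X := by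
  have := conj_mem' hh (mul_mem (a x hx) (inv_mem (b x hx)))
  rwa [show h⁻¹ * (g * x * g⁻¹ * (x ^ k)⁻¹ * (h * x * h⁻¹ * (x ^ k)⁻¹)⁻¹) * h = ⁅h⁻¹ * g, x⁆ by
    rw [commutatorElement_def]; group] at this

theorem tw_ev' {X : Subgroup Γ} (pS : IsPGroup 3 S) (hX : X ≤ S) (e : lg 3 S ≤ lg 3 X + 1)
    (hg : g ∈ 𝐍(S)) (hg' : g ∈ 𝐍(X)) {x : Γ} (hx : x ∈ S) (hx' : x ∉ X) {a : Bool}
    (h : g * x * g⁻¹ = x ^ twSg a) : Ev g S X (twSg a) := by
  obtain ⟨a', k⟩ := tw_ev pS hX e hg hg'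
  by_cases c : a' = a
  · exact c ▸ k
  · refine absurd (mem_of_ev (p := 3) (g := g) (a := twSg a') (b := twSg a) (k x hx)
      (by rw [h, mul_inv_cancel]; exact one_mem _) (pow_mem_of_lg pS hX e hx) ?_) hx'
    revert c; cases a <;> cases a' <;> decide

theorem tw_tau_mul : ∀ a b c a' b' c' : Bool, band (allL (dm (tau a b c)) (tau a' b' c'))
    (eqL (cp (tau a b c) (tau a' b' c')) (tau (xor a a') (xor b b') (xor c c'))) = true := by
  decide +kernel

theorem tw_tau_pc : ∀ a b c : Bool, band (pcM (tau a b c)) (eqL (cp (tau a b c) LS) (tau a b c)) = true := by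
  decide +kernel

theorem tw_tau_nm : ∀ a b c : Bool, allL (fun n => band (dm (tau a b c) n)
    ((tb (em LS)).mem (eb (tau a b c) n))) LS = true := by
  decide +kernel

omit [Finite Γ] in
theorem Md.tw_mul (m : Md S el) {h : Γ} {a b c a' b' c' : Bool} (x : Ac el g (tau a b c))
    (y : Ac el h (tau a' b' c')) : Ac el (g * h) (tau (xor a a') (xor b b') (xor c c')) := by
  have := tw_tau_mul a b c a' b' c'
  rw [band_eq_true, eqL_iff] at this
  exact this.2 ▸ m.ac_mul x y this.1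

omit [Finite Γ] in
theorem Md.tw_pg (m : Md S el) : IsPGroup 3 S := IsPGroup.of_card m.card

theorem Md.tw_norm (m : Md S el) {a b c : Bool} (x : Ac el g (tau a b c)) : g ∈ 𝐍(S) := by
  rw [← m.top m.tw_pg]; exact m.ac_norm x (tw_tau_nm a b c)

omit [Finite Γ] in
theorem Md.tw_sq (m : Md S el) {x y : ℕ} (e : Nat.beq (H18.CO.iv (enc x)) (enc y) = true) (a : Bool) :
    el (enc (cond a y x)) = el (enc x) ^ twSg a := by
  cases a
  · exact (zpow_one _).symm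
  · rw [twSg_eq.1, zpow_neg_one, ← m.iv (val_enc _), Nat.eq_of_beq_eq_true e]; rfl

theorem Md.tw_lg (m : Md S el) {L : List ℕ} (e : band (H18.CO.lgB (em L)) (Nat.beq (len (em L)) 8) = true) :
    lg 3 S ≤ lg 3 (G el L) + 1 := by
  rw [band_eq_true, Nat.beq_eq] at e
  have := m.lg_S m.tw_pg
  rw [m.lgG m.tw_pg e.1, ← len_eq, e.2]; exact this

theorem tw_e11 : allE (fun t => bor (Nat.beq t 0) (allE (fun h => nb (Nat.beq
    (cm (cm (mu h (iv (enc 729))) t) t) (cm (cm (enc 729) (enc 243)) (enc 243)))) (em LH) 0))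
      (em [243]) 0 = true := by decide +kernel

/-- the sign on the centre -/
theorem Md.tw_z (m : Md S el) (hg : g ∈ 𝐍(S)) (e : Ev g S (G el LE3) (twSg true))
    (h1 : g * el (enc 1) * g⁻¹ = el (enc 1)) : False := by
  have pS := m.tw_pg
  have o := m.ok pS
  have nA : g ∈ 𝐍(G el LA) := o.nA (m.gp_le_S _) le_rfl hg
  have a33 : el (enc 729) ∈ G el LA := m.memB (av_em _) (val_enc _) (by decide +kernel)
  have hP : G el LE1 ⊓ G el LE2 = G el LP :=
    m.meQ pS (A := [2187]) (by decide +kernel)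
  have nP : g ∈ 𝐍(G el LP) := hP ▸ norm_inf o.nS1 o.nS2 hg
  have hH : G el LA ⊓ G el LE3 = G el LH := m.meQ pS (A := [729]) (by decide +kernel)
  have u1 : g * el (enc 729) * g⁻¹ * el (enc 729) ∈ G el LH := by
    rw [← hH]
    refine ⟨mul_mem (conj_mem nA a33) a33, ?_⟩
    have := e _ (m.mem (enc 729))
    rwa [twSg_eq.1, zpow_neg_one, inv_inv] at this
  have z1 : g * el (enc 243) * g⁻¹ ∈ gp el (em [243] ++ em LA) :=
    m.leB (av_em LP) ((av_em _).append (av_em _)) (by decide +kernel)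
      (conj_mem nP (m.memB (av_em _) (val_enc _) (by decide +kernel)))
  obtain ⟨t, vt, ct, k, hk, e1⟩ := m.cover ((av_em _).append (av_em _)) (by decide +kernel) val_zero tw_e11 z1
  rw [m.one, one_mul] at e1
  rcases (bor_eq_true _ _).1 ct with c | c
  · rw [Nat.eq_of_beq_eq_true c, m.one, one_mul] at e1
    exact m.nmemB pS (av_em LA) (by decide +kernel) (val_enc 243) (by decide +kernel)
      (mem_of_conj nA (e1 ▸ hk))
  obtain ⟨h, vh, ch, e2⟩ := m.allG (by decide +kernel) c u1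
  have v1 := vh.mu (val_enc 729).iv.1
  refine (nb_eq _).1 ch (Nat.beq_eq ▸ m.inj ((v1.cm vt).cm vt) (((val_enc _).cm (val_enc _)).cm (val_enc _)) ?_)
  have k1 : ∀ u ∈ G el LA, ⁅u, el t * k⁆ = ⁅u, el t⁆ := fun u hu => by
    have := conj_eq (o.eaA.comm hu) hk
    rw [commutatorElement_def, commutatorElement_def,
      show u * (el t * k) * u⁻¹ = u * el t * u⁻¹ * (u * k * u⁻¹) by group, this]
    group
  have e3 : el h * (el (enc 729))⁻¹ = g * el (enc 729) * g⁻¹ := by rw [← e2]; group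
  have u2 := conj_mem nA a33
  rw [m.cm (v1.cm vt) vt, m.cm v1 vt, m.mul vh (val_enc _).iv.1, m.iv (val_enc _), e3,
    ← k1 _ (comm_mem_l (o.sA (m.mem t)) u2), ← k1 _ u2, ← e1, ← conj_comm, ← conj_comm,
    ← m.cm (val_enc _) (val_enc _), ← m.cm ((val_enc _).cm (val_enc _)) (val_enc _)]
  have zz : el (H18.CO.cm (H18.CO.cm (enc 729) (enc 243)) (enc 243)) ∈ G el [1] :=
    m.memB (av_em _) (((val_enc _).cm (val_enc _)).cm (val_enc _)) (by decide +kernel)
  rw [G_one] at zz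
  exact conj_eq (mem_cent_zpowers.2 (by
    rw [commutatorElement_def, h1, mul_inv_cancel])) zz

/-- the three signs determine the action on the Frattini quotient -/
theorem Md.tw_core (m : Md S el) (hg : g ∈ 𝐍(S)) :
    ∃ a b c, (∀ h, Ac el h (tau a b c) → h⁻¹ * g ∈ 𝐍(S) ⊓ relCentralizer S (ph S)) ∧
      g * g ∈ 𝐍(S) ⊓ relCentralizer S (ph S) ∧ (g * el (enc 1) * g⁻¹ = el (enc 1) → c = false) := by
  have pS := m.tw_pg
  have o := m.ok pS
  have l1 := m.tw_lg (L := LE1) (by decide +kernel)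
  have l2 := m.tw_lg (L := LE2) (by decide +kernel)
  have l3 := m.tw_lg (L := LE3) (by decide +kernel)
  obtain ⟨a, ea⟩ := tw_ev pS (m.gp_le_S _) l1 hg (o.nS1 hg)
  obtain ⟨b, eb⟩ := tw_ev pS (m.gp_le_S _) l2 hg (o.nS2 hg)
  obtain ⟨c, ec⟩ := tw_ev pS (m.gp_le_S _) l3 hg (o.nS3 hg)
  have hP : G el LE1 ⊓ G el LE2 = G el LP := m.meQ pS (A := [2187]) (by decide +kernel)
  have hF : G el LP ⊓ G el LE3 = G el LF := m.meQ pS (A := [729]) (by decide +kernel)
  have key : ∀ h ∈ 𝐍(S), Ev h S (G el LE1) (twSg a) → Ev h S (G el LE2) (twSg b) →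
      Ev h S (G el LE3) (twSg c) → h⁻¹ * g ∈ 𝐍(S) ⊓ relCentralizer S (ph S) := fun h hh a1 a2 a3 => by
    have n := mul_mem (inv_mem hh) hg
    refine ⟨n, mem_rc.2 ⟨norm_ph le_rfl n, fun x hx => ?_⟩⟩
    rw [o.phS, ← hF, ← hP]
    exact ⟨⟨tw_div ea a1 (o.nS1 hh) hx, tw_div eb a2 (o.nS2 hh) hx⟩, tw_div ec a3 (o.nS3 hh) hx⟩
  have iv : ∀ {X : Subgroup Γ} {a : Bool}, g ∈ 𝐍(X) → S ≤ 𝐍(X) → Ev g S X (twSg a) →
      Ev g⁻¹ S X (twSg a) := fun {X a} n1 n2 e x hx => by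
    have := conj_mem' n1 (e x hx)
    cases a
    · rw [twSg_eq.2, zpow_one] at this ⊢
      have := inv_mem this
      rwa [show (g⁻¹ * (g * x * g⁻¹ * x⁻¹) * g)⁻¹ = g⁻¹ * x * g⁻¹⁻¹ * x⁻¹ by group] at this
    · rw [twSg_eq.1, zpow_neg_one, inv_inv] at this ⊢
      have := conj_mem' (n2 hx) this
      rwa [show x⁻¹ * (g⁻¹ * (g * x * g⁻¹ * x) * g) * x = g⁻¹ * x * g * x⁻¹⁻¹ by group] at this
  refine ⟨a, b, c, fun h x => ?_, ?_, fun h1 => ?_⟩
  · have hh := m.tw_norm x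
    refine key h hh ?_ ?_ ?_
    · refine tw_ev' pS (m.gp_le_S _) l1 hh (o.nS1 hh) (m.mem (enc 6561))
        (m.nmemB pS (av_em _) (by decide +kernel) (val_enc _) (by decide +kernel)) ?_
      rw [← m.tw_sq (y := 13122) (by decide +kernel)]
      exact x.get (List.mem_cons_self) (by cases a <;> decide)
    · refine tw_ev' pS (m.gp_le_S _) l2 hh (o.nS2 hh) (m.mem (enc 2187))
        (m.nmemB pS (av_em _) (by decide +kernel) (val_enc _) (by decide +kernel)) ?_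
      rw [← m.tw_sq (y := 4374) (by decide +kernel)]
      exact x.get (List.mem_cons_of_mem _ List.mem_cons_self) (by cases b <;> decide)
    · refine tw_ev' pS (m.gp_le_S _) l3 hh (o.nS3 hh) (m.mem (enc 729))
        (m.nmemB pS (av_em _) (by decide +kernel) (val_enc _) (by decide +kernel)) ?_
      rw [← m.tw_sq (y := 1458) (by decide +kernel)]
      exact x.get (List.mem_cons_of_mem _ (List.mem_cons_of_mem _ List.mem_cons_self))
        (by cases c <;> decide)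
  · have := key g⁻¹ (inv_mem hg) (iv (o.nS1 hg) (norm_of_lg pS (m.gp_le_S _) l1) ea)
      (iv (o.nS2 hg) (norm_of_lg pS (m.gp_le_S _) l2) eb) (iv (o.nS3 hg) (norm_of_lg pS (m.gp_le_S _) l3) ec)
    rwa [inv_inv] at this
  · cases c
    · rfl
    · exact (m.tw_z hg ec h1).elim

theorem tw_cop (pS : IsPGroup 3 S) (hg : g ∈ 𝐍(S) ⊓ relCentralizer S (ph S))
    (h : (orderOf g).Coprime 3) : g ∈ 𝐂(S) := cent_of_ph pS h hg.1 (mem_rc.1 hg.2).2

theorem tw_R (pS : IsPGroup 3 S) (hF : Sat S) : 𝐍(S) ⊓ relCentralizer S (ph S) ≤ S ⊔ 𝐂(S) := by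
  have h := lg_norm pS hF (fn_of_norm le_rfl (norm_self le_rfl))
  rw [inf_eq_left.2 (norm_self le_rfl)] at h
  refine le_of_syl (p := 3) (J := S ⊔ 𝐂(S)) (sup_le (le_inf (norm_self le_rfl)
    (le_rc (norm_ph (norm_self le_rfl)) (eq_ph pS).comm)) (le_inf (cent_le_norm _)
    (le_rc (norm_ph (cent_le_norm _)) ((comm_le_bot.2 le_rfl).trans bot_le))))
    ((lg_mono inf_le_left).trans h) le_rfl fun x hx c => mem_sup_right (tw_cop pS hx c)

omit [Finite Γ] in
theorem Md.tw_cent (m : Md S el) {M : List ℕ} (x : Ac el g M) {c : Γ} (hc : c ∈ 𝐂(S)) :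
    Ac el (g * c) M := x.of_cent fun _ _ _ _ => conj_eq hc (m.mem _)

theorem Md.tw_one (m : Md S el) (x : Ac el g LS) : g ∈ 𝐂(S) := by
  rw [← m.top m.tw_pg]
  refine cent_symm (A := G el LS) (X := zpowers g) (gp_le.2 fun y hy => mem_cent_zpowers.2 ?_)
    (mem_zpowers g)
  have k : ∀ y, (y, y) ∈ LS.zip LS → y ≠ 0 → ⁅el (enc y), g⁆ = 1 := fun y b c => by
    rw [commutatorElement_eq_one_iff_mul_comm]
    exact (mul_inv_eq_iff_eq_mul.1 (x.get b c)).symm
  simp only [LS, em, List.mem_cons, List.not_mem_nil, or_false] at hy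
  rcases hy with rfl | rfl | rfl | rfl | rfl | rfl | rfl | rfl | rfl <;> exact k _ (by decide) (by decide)

/-- the diagonal elements -/
def Md.twD (m : Md S el) : Subgroup Γ where
  carrier := {g | ∃ a b c, Ac el g (tau a b c)}
  one_mem' := ⟨false, false, false, Md.ac_one (by decide)⟩
  mul_mem' := fun ⟨_, _, _, x⟩ ⟨_, _, _, y⟩ => ⟨_, _, _, m.tw_mul x y⟩
  inv_mem' := fun {g} ⟨a, b, c, x⟩ => ⟨a, b, c, by
    have k := m.tw_mul x x
    simp only [Bool.xor_self] at k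
    have := m.tw_cent x (inv_mem (m.tw_one k))
    rwa [show g * (g * g)⁻¹ = g⁻¹ by group] at this⟩

theorem Md.mem_twD (m : Md S el) : g ∈ m.twD ↔ ∃ a b c, Ac el g (tau a b c) := Iff.rfl

/-- a conjugate of a `2`-group of automorphisms is diagonal -/
theorem Md.tw_aut (m : Md S el) {Q : Subgroup (MulAut S)} (hQ : IsPGroup 2 Q) :
    ∃ β : MulAut S, ∀ φ ∈ Q, ∃ a b c, ∀ x y, (x, y) ∈ LS.zip (tau a b c) →
      (β * φ * β⁻¹) ⟨el (enc x), m.mem _⟩ = ⟨el (enc y), m.mem _⟩ := by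
  haveI : Fact (Nat.Prime 2) := ⟨Nat.prime_two⟩
  let Γ₀ := S ⋊[MonoidHom.id (MulAut S)] MulAut S
  haveI : Finite Γ₀ := Finite.of_equiv _ SemidirectProduct.equivProd.symm
  let ι : S →* Γ₀ := SemidirectProduct.inl
  let κ : MulAut S →* Γ₀ := SemidirectProduct.inr
  have cj : ∀ φ n, κ φ * ι n * (κ φ)⁻¹ = ι (φ n) := fun φ n => by
    rw [← map_inv]; exact (SemidirectProduct.inl_aut (φ := MonoidHom.id (MulAut S)) φ n).symm
  have hι : Function.Injective ι := SemidirectProduct.inl_injective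
  have m₀ : Md ι.range fun x => ι ⟨el x, m.mem x⟩ := m.map (MonoidHom.ofInjective hι)
  have nn : ∀ φ, κ φ ∈ 𝐍(ι.range) := fun φ => mem_norm fun _ ⟨n, e⟩ => ⟨φ n, by rw [← e, cj]⟩
  have c1 : ∀ φ, κ φ ∈ 𝐂(ι.range) → φ = 1 := fun φ h => MulEquiv.ext fun n =>
    hι ((cj φ n).symm.trans (conj_eq h ⟨n, rfl⟩))
  let D := m₀.twD.comap κ
  let O := (𝐍(ι.range) ⊓ relCentralizer ι.range (ph ι.range)).comap κ
  have pD : IsPGroup 2 D := fun ⟨φ, a, b, c, x⟩ => ⟨1, Subtype.ext (c1 _ (by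
    have k := m₀.tw_mul x x
    simp only [Bool.xor_self] at k
    have := m₀.tw_one k
    rwa [← map_mul, ← pow_two] at this))⟩
  have lO : lg 2 O = 0 := padicValNat.eq_zero_of_not_dvd fun h => by
    obtain ⟨φ, e⟩ := exists_prime_orderOf_dvd_card' 2 h
    have e' : orderOf (κ φ.1) = 2 := by
      rw [orderOf_injective κ SemidirectProduct.inr_injective, orderOf_coe, e]
    have := c1 _ (tw_cop m₀.tw_pg φ.2 (by rw [e']; decide))
    rw [this, map_one, orderOf_one] at e'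
    omega
  have nO : D ≤ 𝐍(O) := le_norm fun φ _ ψ hψ => by
    rw [mem_comap, map_mul, map_mul, map_inv]
    exact conj_mem (norm_inf (norm_self le_rfl) (norm_rc le_rfl (norm_ph le_rfl)) (nn φ)) hψ
  have tp : ⊤ ≤ O ⊔ D := fun φ _ => by
    obtain ⟨a, b, c, k, -⟩ := m₀.tw_core (nn φ)
    have e := tw_tau_pc a b c
    rw [band_eq_true, eqL_iff] at e
    obtain ⟨θ, hθ⟩ := m.equiv (m.tw e.1)
    have x : Ac (fun x => ι ⟨el x, m.mem x⟩) (κ θ) (tau a b c) := by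
      rw [← e.2]
      unfold Ac
      have lt : ∀ y ∈ LS, y < 19683 := by decide
      generalize LS = L at lt
      induction L with
      | nil => exact .nil
      | cons y L ih =>
        rw [cp_cons]
        refine .cons (Or.inr ?_) (ih fun z hz => lt z (List.mem_cons_of_mem _ hz))
        rw [cj]
        refine congrArg ι (Subtype.ext ?_)
        rw [hθ _ (val_enc _), (val_eb _ _).enc_dec.1, (dec_enc (lt y List.mem_cons_self)).1]
    have := k _ x
    rw [← map_inv, ← map_mul] at this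
    rw [show φ = θ * (θ⁻¹ * φ) by group]
    exact mul_mem (mem_sup_right ⟨a, b, c, x⟩) (mem_sup_left this)
  have lD : lg 2 (⊤ : Subgroup (MulAut S)) ≤ lg 2 D := by
    have := lg_sup' (p := 2) nO
    have := lg_mono (p := 2) tp
    omega
  obtain ⟨P₁, h1⟩ := hQ.exists_le_sylow
  obtain ⟨P₂, h2⟩ := pD.exists_le_sylow
  obtain ⟨β, hβ⟩ := MulAction.exists_smul_eq (MulAut S) P₁ P₂
  refine ⟨β, fun φ hφ => ?_⟩
  obtain ⟨a, b, c, x⟩ : β * φ * β⁻¹ ∈ D := le_of_lg P₂.isPGroup' h2 ((lg_mono le_top).trans lD) (by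
    rw [← hβ]; exact conj_mem_cn (h1 hφ))
  refine ⟨a, b, c, fun y z e => hι ?_⟩
  rw [← cj]
  refine x.get e ?_
  have := (List.of_mem_zip e).2
  rintro rfl
  revert this; cases a <;> cases b <;> cases c <;> decide

theorem Md.sgn (m : Md S el) (pS : IsPGroup 3 S) (hF : Sat S) (hg : g ∈ 𝐍(S)) :
    ∃ a b c, (∀ h, Ac el h (tau a b c) → h⁻¹ * g ∈ S ⊔ 𝐂(S)) ∧
      (g * el (enc 1) * g⁻¹ = el (enc 1) → c = false) := by
  obtain ⟨a, b, c, k, -, k'⟩ := m.tw_core hg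
  exact ⟨a, b, c, fun h x => tw_R pS hF (k h x), k'⟩

theorem Md.ac_tau (m : Md S el) (t1 : ∃ g, Ac el g (tau true false false))
    (t3 : ∃ g, Ac el g (tau false true false)) (a b c : Bool) (h : c = true → Dl el) :
    ∃ g, Ac el g (tau a b c) := by
  have o : ∃ g, Ac el g (tau false false false) := ⟨1, Md.ac_one (by decide)⟩
  obtain ⟨g1, x1⟩ : ∃ g, Ac el g (tau a false false) := by cases a; exacts [o, t1]
  obtain ⟨g2, x2⟩ : ∃ g, Ac el g (tau false b false) := by cases b; exacts [o, t3]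
  obtain ⟨g3, x3⟩ : ∃ g, Ac el g (tau false false c) := by cases c; exacts [o, h rfl]
  have := m.tw_mul (m.tw_mul x1 x2) x3
  simp only [Bool.xor_false, Bool.false_xor] at this
  exact ⟨_, this⟩

theorem Md.tw_of (m : Md S el) (pS : IsPGroup 3 S) (hF : Sat S) (t1 : ∃ g, Ac el g (tau true false false))
    (t3 : ∃ g, Ac el g (tau false true false)) (h : Dl el ∨ Nd S el) : Tw S el := by
  intro g hg
  obtain ⟨a, b, c, k, k'⟩ := m.sgn pS hF hg
  obtain ⟨x, hx⟩ := m.ac_tau t1 t3 a b c fun e => h.resolve_right fun n => by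
    rw [k' (n g hg)] at e; cases e
  obtain ⟨s, hs, d, hd, e⟩ := (mem_sup_iff (cent_le_norm S)).1 (k x hx)
  refine ⟨(x * s * x⁻¹)⁻¹, inv_mem (conj_mem (m.tw_norm hx) hs), a, b, c, ?_⟩
  have := m.tw_cent hx hd
  rwa [show x * d = (x * s * x⁻¹)⁻¹ * g by rw [inv_mul_eq_iff_eq_mul.1 e]; group] at this

theorem Md.dl_of (m : Md S el) (t1 : ∃ g, Ac el g (tau true false false))
    (t3 : ∃ g, Ac el g (tau false true false)) {a b : Bool} (h : Ac el g (tau a b true)) : Dl el := by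
  obtain ⟨x, hx⟩ := m.ac_tau t1 t3 a b false (by simp)
  have := m.tw_mul hx h
  simp only [Bool.xor_self, Bool.false_xor] at this
  exact ⟨_, this⟩

theorem Md.dl_or_nd (m : Md S el) (pS : IsPGroup 3 S) (t : Tw S el) (t1 : ∃ g, Ac el g (tau true false false))
    (t3 : ∃ g, Ac el g (tau false true false)) : Dl el ∨ Nd S el := by
  refine or_iff_not_imp_left.2 fun n g hg => ?_
  obtain ⟨s, hs, a, b, c, x⟩ := t g hg
  cases c
  · have e := x.get (x := 1) (y := 1) (by cases a <;> cases b <;> decide) (by decide)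
    have z : el (enc 1) ∈ 𝐂(S) := ((m.ok pS).zS.ge (mem_gp List.mem_cons_self)).2
    have := conj_eq (cent_symm (A := zpowers (el (enc 1))) (zpowers_le_of_mem z) (inv_mem hs))
      (mem_zpowers _)
    calc _ = s⁻¹ * (s * g * el (enc 1) * (s * g)⁻¹) * s⁻¹⁻¹ := by group
      _ = _ := by rw [e, this]
  · exact absurd (m.dl_of t1 t3 x) n

theorem Md.not_dl (m : Md S el) (h : Nd S el) : ¬ Dl el := by
  rintro ⟨g, x⟩
  have := m.inj (val_enc _) (val_enc _)
    ((x.get (x := 1) (y := 2) (by decide) (by decide)).symm.trans (h g (m.tw_norm x)))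
  revert this; decide +kernel

theorem Md.exists_tw (m : Md S el) (pS : IsPGroup 3 S) (hF : Sat S) : ∃ el₁, Md S el₁ ∧ Tw S el₁ := by
  haveI : Fact (Nat.Prime 2) := ⟨Nat.prime_two⟩
  obtain ⟨Q, hQ, -⟩ := H68.exists_sylowIn_ge (p := 2) IsPGroup.of_bot (bot_le : ⊥ ≤ 𝐍(S))
  have hN : 𝐍(S) ≤ (S ⊔ 𝐂(S)) ⊔ Q := H90.mem_of_sylowIn_of_p'_elts hQ le_sup_right fun x hx c => by
    obtain ⟨_, _, _, -, k, -⟩ := m.tw_core hx
    exact mem_sup_left (mem_of_coprime (k := 1) (by rw [pow_one, pow_two]; exact tw_R pS hF k) c)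
  obtain ⟨β, hβ⟩ := m.tw_aut ((hQ.isPGroup.comap_subtype (K := 𝐍(S))).map S.normalizerMonoidHom)
  have m₁ := m.map β⁻¹
  refine ⟨_, m₁, fun g hg => ?_⟩
  obtain ⟨t, ht, q, hq, rfl⟩ := (mem_sup_iff (hQ.le.trans (norm_sup le_rfl (norm_cent le_rfl)))).1 (hN hg)
  obtain ⟨s, hs, d, hd, rfl⟩ := (mem_sup_iff (cent_le_norm S)).1 ht
  obtain ⟨a, b, c, k⟩ := hβ _ (mem_map_of_mem S.normalizerMonoidHom (x := ⟨q, hQ.le hq⟩) hq)
  refine ⟨s⁻¹, inv_mem hs, a, b, c, ?_⟩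
  rw [show s⁻¹ * (s * d * q) = q * (q⁻¹ * d * q) by group]
  refine m₁.tw_cent ?_ (conj_mem' (norm_cent le_rfl (hQ.le hq)) hd)
  refine List.forall₂_iff_zip.2 ⟨rfl, fun {x y} e => Or.inr ?_⟩
  beta_reduce
  rw [← k x y e, ← MulAut.mul_apply, ← mul_assoc, ← mul_assoc, inv_mul_cancel, one_mul]
  rfl

theorem co3tw_eq : True := trivial

end H18.CO
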