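import Mathlib
import Cfsg.Agent.Base
import Cfsg.Agent.Lib.CO3.LS
import Cfsg.Agent.Lib.CO3.GI
import Cfsg.Agent.Lib.CO3.WD
import Cfsg.Agent.Lib.CO3.TW
import Cfsg.Agent.Lib.CO3.E4a

set_option autoImplicit false
set_option maxRecDepth 100000
set_option linter.unusedSectionVars false

namespace H18.CO

open Subgroup H54 H2 H90 H91 H93.R3 H18.TH Cfsg Cfsg.FusionSystem
open scoped commutatorElement Pointwise

local notation:max "𝐍(" A ")" => Subgroup.normalizer (SetLike.coe A)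
local notation:max "𝐂(" A ")" => Subgroup.centralizer (SetLike.coe A)

universe u v

variable {Γ : Type u} [Group Γ] [Finite Γ] {Γ' : Type v} [Group Γ'] [Finite Γ'] {S E : Subgroup Γ}
  {S' : Subgroup Γ'} {el : ℕ → Γ} {el' : ℕ → Γ'} {g : Γ} {b : Bool}

namespace E4

theorem mem_G {L : List ℕ} {x : ℕ} (h : x ∈ L) : el (enc x) ∈ G el L := by
  refine mem_gp ?_
  induction L with
  | nil => exact absurd h List.not_mem_nil
  | cons y L ih =>
    show enc x ∈ enc y :: em L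
    rcases List.mem_cons.1 h with rfl | h
    exacts [List.mem_cons_self, List.mem_cons_of_mem _ (ih h)]

theorem G_le {L : List ℕ} {H : Subgroup Γ} (h : ∀ x ∈ L, el (enc x) ∈ H) : G el L ≤ H := by
  induction L with
  | nil => exact G_nil.le.trans bot_le
  | cons y L ih =>
    rw [G_cons]
    exact sup_le (ih fun x hx => h x (List.mem_cons_of_mem _ hx))
      (zpowers_le_of_mem (h y List.mem_cons_self))

theorem k9_nil : ∀ j, k9 [] j ≠ true
  | 0 => by decide +kernel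
  | j + 1 => by
    intro e
    simp only [k9, band_eq_true, eqL_iff] at e
    have := e.1
    rw [pwM_nil, pwM_nil, pwM_nil] at this
    cases this

variable (m : Md S el)
include m

theorem mp_cj {a x c y : ℕ} (va : Val a) (vx : Val x) (vc : Val c) (vy : Val y)
    (e1 : g * el a * g⁻¹ = el c) (e2 : g * el x * g⁻¹ = el y) :
    ∀ d, g * el (mp a x d) * g⁻¹ = el (mp c y d)
  | 0 => e1
  | 1 => by
    show g * el (mu a x) * g⁻¹ = el (mu c y)
    rw [m.mul va vx, m.mul vc vy, ← e1, ← e2]; group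
  | _ + 2 => by
    show g * el (mu (mu a x) x) * g⁻¹ = el (mu (mu c y) y)
    rw [m.mul (va.mu vx) vx, m.mul (vc.mu vy) vy, m.mul va vx, m.mul vc vy, ← e1, ← e2]; group

theorem pr_cj : ∀ {B B' : List ℕ},
    List.Forall₂ (fun x y => Val x ∧ Val y ∧ g * el x * g⁻¹ = el y) B B' → ∀ (c : List ℕ) {a a' : ℕ},
      Val a → Val a' → g * el a * g⁻¹ = el a' →
        Val (pr B c a) ∧ Val (pr B' c a') ∧ g * el (pr B c a) * g⁻¹ = el (pr B' c a')
  | _, _, .nil, _, _, _, va, va', e => ⟨va, va', e⟩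
  | _, _, .cons k r, c, _, _, va, va', e =>
    pr_cj r c.tail (va.mp k.1 _) (va'.mp k.2.1 _) (mp_cj m va k.1 va' k.2.1 e k.2.2 (c.headD 0))

theorem ac_mk (o : Ok S el) (hA : g ∈ 𝐍(G el LA)) (hr : ⁅g, el (enc (rr b))⁆ ∈ G el LA) {u v : ℕ}
    (vu : Val u) (vv : Val v) (eu : g * el (enc 729) * g⁻¹ = el u) (ev : g * el (enc 27) * g⁻¹ = el v) :
    Ac el g (mk b u v) := by
  have vr := val_enc (rr b)
  have rA : el (enc (rr b)) ∈ 𝐍(G el LA) := o.sA (m.mem _)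
  have st : ∀ x y, el x ∈ G el LA ∧ Val x ∧ Val y ∧ g * el x * g⁻¹ = el y →
      el (cg (enc (rr b)) x) ∈ G el LA ∧ Val (cg (enc (rr b)) x) ∧ Val (cg (enc (rr b)) y) ∧
        g * el (cg (enc (rr b)) x) * g⁻¹ = el (cg (enc (rr b)) y) := fun x y ⟨a, vx, vy, e⟩ => by
    rw [m.cg vr vx, m.cg vr vy, ← e]
    refine ⟨conj_mem rA a, vr.cg vx, vr.cg vy, ?_⟩
    rw [← conj_eq (o.eaA.comm hr) (conj_mem rA (conj_mem hA a)), commutatorElement_def]
    group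
  have u0 := And.intro (mem_G (el := el) (x := 729) (L := LA) (by decide))
    (And.intro (val_enc 729) (And.intro vu eu))
  have v0 := And.intro (mem_G (el := el) (x := 27) (L := LA) (by decide))
    (And.intro (val_enc 27) (And.intro vv ev))
  have F : List.Forall₂ (fun x y => Val x ∧ Val y ∧ g * el x * g⁻¹ = el y)
      (bs b (enc 729) (enc 27)) (bs b u v) :=
    .cons u0.2 (.cons (st _ _ u0).2 (.cons (st _ _ (st _ _ u0)).2
      (.cons v0.2 (.cons (st _ _ v0).2 (.cons (st _ _ (st _ _ v0)).2 .nil)))))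
  have key : ∀ c n, dec (pr (bs b (enc 729) (enc 27)) c 0) = n →
      g * el (enc n) * g⁻¹ = el (enc (dec (pr (bs b u v) c 0))) := fun c n e => by
    obtain ⟨a1, a2, a3⟩ := pr_cj m F c val_zero val_zero (by rw [m.one]; group)
    rw [← e, a1.enc_dec.1, a2.enc_dec.1, a3]
  have k := bs_chk b
  simp only [mk, IA, List.cons.injEq] at k
  obtain ⟨-, -, -, -, k1, -, k2, k3, k4, -⟩ := k
  exact .cons (.inl rfl) (.cons (.inl rfl) (.cons (.inr (by rw [vu.enc_dec.1]; exact eu))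
    (.cons (.inl rfl) (.cons (.inr (key _ _ k1)) (.cons (.inr (by rw [vv.enc_dec.1]; exact ev))
      (.cons (.inr (key _ _ k2)) (.cons (.inr (key _ _ k3)) (.cons (.inr (key _ _ k4)) .nil))))))))

theorem cube_false {M : List ℕ} (a : Ac el g M) (h3 : g ^ 3 = 1) {x : ℕ} : cube M x ≠ true := by
  intro e
  simp only [cube, force_eq, band_eq_true, nb_eq, Nat.beq_eq] at e
  refine e.1 (m.inj (val_eb _ _) (val_enc _) ?_)
  rw [← m.ap a e.2.2.2, ← m.ap' a e.2.2.1, ← m.ap' a e.2.1]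
  calc _ = g ^ 3 * el (enc x) * (g ^ 3)⁻¹ := by rw [pow_three]; group
    _ = _ := by rw [h3]; group

theorem wd_ex {Ls : ℕ → List ℕ} (h : ∀ i, ∃ g ∈ 𝐍(G el LA), Ac el g (Ls i)) {w : List ℕ}
    (e : wdM Ls w ≠ []) : ∃ g ∈ 𝐍(G el LA), Ac el g (wdM Ls w) := by
  choose x hx hx' using h
  refine ⟨_, list_prod_mem fun y hy => ?_, m.ac_wd (x := x) (fun i _ => hx' i) e⟩
  obtain ⟨i, -, rfl⟩ := List.mem_map.1 hy
  exact hx i

theorem wd_k9 (h9 : E9 (G el LA)) {Ls : ℕ → List ℕ} (h : ∀ i, ∃ g ∈ 𝐍(G el LA), Ac el g (Ls i))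
    {w : List ℕ} {j : ℕ} : k9 (wdM Ls w) j ≠ true := fun e => by
  obtain ⟨g, a, c⟩ := wd_ex m h (w := w) fun c => k9_nil j (c ▸ e)
  exact m.k9 h9 a c e

theorem l0_ok (o : Ok S el) {M : List ℕ} (hM : ∃ g ∈ 𝐍(G el LA), Ac el g M) :
    ∀ i, ∃ g ∈ 𝐍(G el LA), Ac el g (L0 M i)
  | 0 => ⟨_, o.sA (m.mem _), m.ac_x12⟩
  | 1 => ⟨_, o.sA (m.mem _), m.ac_x23⟩
  | 2 => hM
  | _ + 3 => ⟨1, one_mem _, Md.ac_one (N := IA) (by decide)⟩

theorem lt_ok {M : List ℕ} (hM : ∃ g ∈ 𝐍(G el LA), Ac el g M) {c : Bool} (n : Gn el c) :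
    ∀ i, ∃ g ∈ 𝐍(G el LA), Ac el g (Lt M c i)
  | 0 => ⟨_, m.ac_norm m.ac_x12 (by decide +kernel), m.ac_x12⟩
  | 1 => ⟨_, m.ac_norm m.ac_x23 (by decide +kernel), m.ac_x23⟩
  | 2 => hM
  | 3 => n.w1.imp fun _ (a : Ac el _ w1) => ⟨m.ac_norm (M := w1) a (by decide +kernel), a⟩
  | 4 => n.w2.imp fun _ (a : Ac el _ (w2 c)) =>
    ⟨m.ac_norm (M := w2 c) a (by cases c <;> decide +kernel), a⟩
  | 5 => n.t1.imp fun _ (a : Ac el _ (tau true false false)) =>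
    ⟨m.ac_norm (M := tau true false false) a (by decide +kernel), a⟩
  | 6 => n.t3.imp fun _ (a : Ac el _ (tau false true false)) =>
    ⟨m.ac_norm (M := tau false true false) a (by decide +kernel), a⟩
  | 7 => ⟨_, m.ac_norm m.ac_x13 (by decide +kernel), m.ac_x13⟩
  | _ + 8 => ⟨1, one_mem _, Md.ac_one (N := IA) (by decide)⟩

theorem cent2 {N : List ℕ} {h : Γ} (a : Ac el g N) (c : Ac el h N) (d : allL (dm N) IA = true) :
    h⁻¹ * g ∈ 𝐂(G el LA) := by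
  have k : ∀ x ∈ IA, h⁻¹ * g * el (enc x) * (h⁻¹ * g)⁻¹ = el (enc x) := fun x hx => by
    have e := (allL_iff _ _).1 d x hx
    calc _ = h⁻¹ * (g * el (enc x) * g⁻¹) * h := by group
      _ = _ := by rw [m.ap a e, ← m.ap c e]; group
  exact Md.cent_of_ac (.cons (.inl rfl) (.cons (.inl rfl) (.cons (.inr (k _ (by decide)))
    (.cons (.inl rfl) (.cons (.inr (k _ (by decide))) (.cons (.inr (k _ (by decide)))
      (.cons (.inr (k _ (by decide))) (.cons (.inr (k _ (by decide)))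
        (.cons (.inr (k _ (by decide))) .nil)))))))))

theorem nrm_ok {M L Q : List ℕ} (a : Ac el g M) (hA : g ∈ 𝐍(G el LA)) (e : nrm M L Q = true) :
    g ∈ 𝐍(G el L ⊔ 𝐂(G el LA)) := by
  have hC : g ∈ 𝐍(𝐂(G el LA)) := norm_cent (A := zpowers g) (zpowers_le_of_mem hA) (mem_zpowers g)
  have : G el L ⊔ 𝐂(G el LA) ≤ (G el L ⊔ 𝐂(G el LA)).comap (MulAut.conj g).toMonoidHom := by
    refine sup_le (G_le fun t ht => ?_) fun x hx => mem_sup_right (conj_mem hC hx)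
    simp only [nrm, allL_iff, band_eq_true, anyL_iff, eqL_iff] at e
    obtain ⟨e1, s, -, e2, e3, e4⟩ := e t ht
    have a1 := m.ac_mul a (m.ac_cn t (Md.ac_one (N := IA) (by decide))) ((allL_iff _ _).2 e1)
    rw [e2] at a1
    have c := conj_mem hC (cent2 m a1 (m.ac_cn s a) ((allL_iff _ _).2 e4))
    show g * el (enc t) * g⁻¹ ∈ G el L ⊔ 𝐂(G el LA)
    rw [show g * el (enc t) * g⁻¹ =
      el (enc s) * (g * ((el (enc s) * g)⁻¹ * (g * (el (enc t) * 1))) * g⁻¹) by group]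
    exact mul_mem (mem_sup_left (m.memB (av_em _) (val_enc _) e3)) (mem_sup_right c)
  exact mem_norm fun x hx => this hx

theorem mov_ok (pS : IsPGroup 3 S) {M L : List ℕ} (a : Ac el g M) (e : mov M L = true) :
    g ∉ 𝐍(G el L) := fun h => by
  simp only [mov, band_eq_true, anyL_iff] at e
  obtain ⟨e1, x, hx, e2, e3⟩ := e
  exact m.nmemB pS (av_em _) e1 (val_eb _ _) e3 (m.ap a e2 ▸ conj_mem h (mem_G hx))

theorem mov_ne {M L : List ℕ} (e : mov M L = true) : M ≠ [] := by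
  rintro rfl
  simp only [mov, band_eq_true, anyL_iff, dm] at e
  obtain ⟨-, x, -, ⟨-, e2⟩, -⟩ := e
  cases e2

theorem mv_of (pS : IsPGroup 3 S) (hF : Sat S) (o : Ok S el) {X : Subgroup Γ} (h1 : G el LA ≤ E)
    (h2 : E ≤ S) (h3 : 𝐍(S) ≤ 𝐍(E)) (h4 : 𝐍(S) ≤ 𝐍(X)) (h5 : X ≤ G el LA) (hA : g ∈ 𝐍(G el LA))
    (hn : g ∈ 𝐍(E ⊔ 𝐂(G el LA))) (hX : g ∉ 𝐍(X)) : Mv S E := fun h => by
  obtain ⟨c, hc, e⟩ := ext pS hF h1 h2 o.sA o.cA hA hn
  rw [inf_eq_left.2 (le_normalizer.trans h3)] at h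
  exact hX (mem_of_mul (sup_le (inf_le_right.trans h4) (norm_of_cent le_rfl (h5.trans h1)) (h e))
    (norm_of_cent le_rfl h5 hc))

theorem nine (pS : IsPGroup 3 S) (hF : Sat S) : E9 (G el LA) :=
  e9 pS hF (m.gp_le_S _) (m.ok pS).sA fun s hs => (m.ok pS).eaA.comm ((m.ok pS).s3 s hs)

theorem sv (pS : IsPGroup 3 S) (hF : Sat S) (h : Mv S (G el (LE4 b))) : ∃ g ∈ 𝐍(G el (LE4 b)),
    g ∈ 𝐍(G el LA) ∧ g ∈ relCentralizer (G el (LE4 b)) (G el LA) ∧
      ∃ s, svB s = true ∧ Ac el g s.M := by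
  have o := m.ok pS
  obtain ⟨g, hg, h3, hr, f1, f2⟩ := m.raw4 pS hF h
  have hA := (mem_rc.1 hr).1
  refine ⟨g, hg, hA, hr, ?_⟩
  obtain ⟨t, vt, c, e1⟩ := m.allG (pc_chk b) (row_chk b) f1
  rw [row, force_eq] at c
  obtain ⟨t', vt', c', e2⟩ := m.allG (pc_chk b) c f2
  rw [force_eq, mkK_eq] at c'
  have a := ac_mk m o hA ((mem_rc.1 hr).2 _ (mem_G (x := rr b) List.mem_cons_self))
    (vt.mu (val_enc 729)) (vt'.mu (val_enc 1485)) (by rw [m.mul vt (val_enc _), ← e1]; group) (by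
      rw [m.mul vt' (val_enc _), ← e2,
        show enc 1485 = mu (iv (enc 729)) (enc 27) by decide +kernel,
        m.mul (val_enc _).iv.1 (val_enc _), m.iv (val_enc _)]
      group)
  generalize mk b _ _ = M at a c'
  simp only [chk, bor_eq_true, anyL_iff, eqL_iff] at c'
  rcases c' with c | c | ⟨s, hs, rfl⟩ | ⟨p, -, c⟩
  · exact absurd c (cube_false m a h3)
  · exact absurd c (cube_false m a h3)
  · exact ⟨s, (allL_iff _ _).1 (sv_chk b) s hs, a⟩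
  · exact absurd c (wd_k9 m (nine m pS hF) (l0_ok m o ⟨g, hA, a⟩))

end E4

theorem Md.e4_mv (m : Md S el) (pS : IsPGroup 3 S) (hF : Sat S) (h : Mv S (G el (LE4 b))) :
    Mv S (G el LE1) ∧ Mv S (G el LE2) := by
  have o := m.ok pS
  obtain ⟨g, -, hA, -, s, c, a⟩ := E4.sv m pS hF h
  simp only [E4.svB, band_eq_true] at c
  obtain ⟨-, ⟨c1, c2⟩, ⟨c3, c4⟩, -⟩ := c
  have l := E4.l0_ok m o ⟨g, hA, a⟩
  have hZ : 𝐍(S) ≤ 𝐍(G el LZ) := o.zS ▸ norm_inf le_rfl (norm_cent le_rfl)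
  have hW : 𝐍(S) ≤ 𝐍(G el LW) := o.z1 ▸ norm_inf o.nS1 (norm_cent o.nS1)
  obtain ⟨g1, n1, a1⟩ := E4.wd_ex m l (E4.mov_ne m c2)
  obtain ⟨g2, n2, a2⟩ := E4.wd_ex m l (E4.mov_ne m c4)
  exact ⟨E4.mv_of m pS hF o (m.leB (av_em _) (av_em _) (by decide +kernel)) (m.gp_le_S _) o.nS1
      hZ (m.leB (av_em _) (av_em _) (by decide +kernel)) n1
      (E4.nrm_ok m a1 n1 c1) (E4.mov_ok m pS a1 c2),
    E4.mv_of m pS hF o (m.leB (av_em _) (av_em _) (by decide +kernel)) (m.gp_le_S _) o.nS2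
      hW (m.leB (av_em _) (av_em _) (by decide +kernel)) n2
      (E4.nrm_ok m a2 n2 c3) (E4.mov_ok m pS a2 c4)⟩

theorem Md.e4_L (m : Md S el) (pS : IsPGroup 3 S) (hF : Sat S) (n : Gn el false) : ¬ Mv S (G el (LE4 b)) := by
  intro h
  obtain ⟨g, -, hA, -, s, c, a⟩ := E4.sv m pS hF h
  simp only [E4.svB, band_eq_true] at c
  exact E4.wd_k9 m (E4.nine m pS hF) (E4.lt_ok m ⟨g, hA, a⟩ n) c.2.2.2.1

theorem Md.e4_M (m : Md S el) (pS : IsPGroup 3 S) (hF : Sat S) (m' : Md S' el') (n : Gn el true) (n' : Gn el' true)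
    (h : Mv S (G el (LE4 b))) : ∃ g ∈ 𝐍(G el (LE4 b)), g ∉ 𝐍(G el LH) ∧
      g ∈ relCentralizer (G el (LE4 b)) (G el LA) ∧ ∃ k M, Ac el g M ∧ Ac el' k M ∧ allL (dm M) IA = true := by
  obtain ⟨g, hg, hA, hr, s, c, a⟩ := E4.sv m pS hF h
  simp only [E4.svB, band_eq_true, bor_eq_true, eqL_iff] at c
  obtain ⟨⟨c1, c2⟩, -, -, -, c | c⟩ := c
  · obtain ⟨k, -, a'⟩ := E4.wd_ex m' (E4.lt_ok m' ⟨1, one_mem _, Md.ac_one (N := IA) (by decide)⟩ n')
      (w := s.wM) (c ▸ E4.mov_ne m c1)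
    exact ⟨g, hg, E4.mov_ok m pS a c1, hr, k, _, a, c ▸ a', c2⟩
  · exact absurd c (E4.wd_k9 m (E4.nine m pS hF) (E4.lt_ok m ⟨g, hA, a⟩ n))

theorem Md.gn_dl (m : Md S el) (pS : IsPGroup 3 S) (hF : Sat S) (t : Tw S el) (n : Gn el true) : Dl el := by
  have o := m.ok pS
  obtain ⟨g, hA, a⟩ := E4.wd_ex m (E4.lt_ok m ⟨1, one_mem _, Md.ac_one (N := IA) (by decide)⟩ n)
    (w := [0, 3, 4, 3, 1, 4, 3, 4, 0, 3, 4, 3, 1, 4, 3, 4]) (by rw [E4.neg_chk.1]; decide)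
  rw [E4.neg_chk.1] at a
  have hn := E4.nrm_ok m a hA E4.neg_chk.2
  rw [m.top pS] at hn
  obtain ⟨c, hc, e⟩ := ext pS hF (m.gp_le_S _) le_rfl o.sA o.cA hA hn
  obtain ⟨s, hs, x, y, z, a'⟩ := t _ e
  cases z
  · exfalso
    have e1 := a'.get (x := 1) (y := 1) (by cases x <;> cases y <;> decide) one_ne_zero
    have e2 := a.get (x := 1) (y := 2) (by decide) two_ne_zero
    have e3 : el (enc 2) ∈ S ⊓ 𝐂(S) := o.zS ▸ m.memB (av_em _) (val_enc _) (by decide +kernel)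
    have e4 := conj_eq hc (E4.mem_G (el := el) (x := 1) (L := LA) (by decide))
    have e5 : s * el (enc 2) * s⁻¹ = el (enc 2) := by rw [e3.2 s hs, mul_inv_cancel_right]
    rw [show s * (g * c) * el (enc 1) * (s * (g * c))⁻¹ =
      s * (g * (c * el (enc 1) * c⁻¹) * g⁻¹) * s⁻¹ by group, e4, e2, e5] at e1
    exact absurd (m.inj (val_enc _) (val_enc _) e1) (by decide +kernel)
  · exact m.dl_of n.t1 n.t3 a'

end H18.CO
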