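import Mathlib
import Cfsg.Agent.Base
import Cfsg.Agent.Lib.CO3.E4
import Cfsg.Agent.Lib.CO3.PC

set_option autoImplicit false
set_option maxRecDepth 100000

namespace H18.CO

open Subgroup H54 H2 H90 H91 H93.R3 H18.TH Cfsg Cfsg.FusionSystem
open scoped commutatorElement Pointwise

local notation:max "𝐍(" A ")" => Subgroup.normalizer (SetLike.coe A)
local notation:max "𝐂(" A ")" => Subgroup.centralizer (SetLike.coe A)

universe u v

variable {Γ : Type u} [Group Γ] [Finite Γ] {Γ' : Type v} [Group Γ'] [Finite Γ'] {S E : Subgroup Γ}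
  {S' : Subgroup Γ'} {el : ℕ → Γ} {el' : ℕ → Γ'} {g : Γ} {b : Bool}

/-- pairs of elements inducing the same map on `H` -/
def EQ_PZ (m : Md S el) (el' : ℕ → Γ') (H : Subgroup Γ) (hH : H ≤ S) : Subgroup (Γ × Γ') where
  carrier := {p | p.1 ∈ 𝐍(H) ∧ ∀ x y, Val x → Val y → el x ∈ H → p.1 * el x * p.1⁻¹ = el y →
    p.2 * el' x * p.2⁻¹ = el' y}
  one_mem' := ⟨one_mem _, fun x y hx hy _ e => by
    rw [m.inj hx hy (by simpa using e)]; simp⟩
  mul_mem' := fun {p q} ⟨a, b⟩ ⟨c, d⟩ => ⟨mul_mem a c, fun x y hx hy h e => by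
    obtain ⟨z, hz, e'⟩ := m.sur _ (hH (conj_mem c h))
    have := b z y hz hy (e' ▸ conj_mem c h) (by rw [e', ← e]; simp [mul_assoc])
    rw [← this, ← d x z hx hz h e'.symm]; simp [mul_assoc]⟩
  inv_mem' := fun {p} ⟨a, b⟩ => ⟨inv_mem a, fun x y hx hy h e => by
    have := b y x hy hx (e ▸ conj_mem (inv_mem a) h) (by rw [← e]; simp [mul_assoc])
    rw [← this]; simp [mul_assoc]⟩

/-- the elements whose action on `H` is induced in the second group -/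
def EQ_RZ (m : Md S el) (el' : ℕ → Γ') (H : Subgroup Γ) (hH : H ≤ S) : Subgroup Γ :=
  (EQ_PZ m el' H hH).map (MonoidHom.fst Γ Γ')

theorem EQ_eq_defs : True := by
  have := @EQ_PZ.eq_1.{0, 0}
  have := @EQ_RZ.eq_1.{0, 0}
  trivial

section
variable {H H' : Subgroup Γ} {hH : H ≤ S} {k : Γ'}

omit [Finite Γ] [Finite Γ'] in
theorem EQ_pz {m : Md S el} : (g, k) ∈ EQ_PZ m el' H hH ↔ g ∈ 𝐍(H) ∧
    ∀ x y, Val x → Val y → el x ∈ H → g * el x * g⁻¹ = el y → k * el' x * k⁻¹ = el' y := Iff.rfl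

omit [Finite Γ] [Finite Γ'] in
theorem EQ_rz {m : Md S el} : g ∈ EQ_RZ m el' H hH ↔ g ∈ 𝐍(H) ∧ Rz el el' H g :=
  ⟨fun ⟨p, hp, e⟩ => e ▸ ⟨hp.1, p.2, hp.2⟩, fun ⟨a, k, b⟩ => ⟨(g, k), ⟨a, b⟩, rfl⟩⟩

omit [Finite Γ] [Finite Γ'] in
theorem EQ_gp' (m : Md S el) (m' : Md S' el') {L : List ℕ} (a : AV L) {z : Γ} (hz : z ∈ gp el L) :
    ∃ x, Val x ∧ el x = z ∧ el' x ∈ gp el' L := by
  induction hz using closure_induction with
  | mem z h => obtain ⟨x, hx, rfl⟩ := h; exact ⟨x, a x hx, rfl, mem_gp hx⟩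
  | one => exact ⟨0, val_zero, m.one, m'.one ▸ one_mem _⟩
  | mul _ _ _ _ h h' =>
    obtain ⟨x, v, rfl, c⟩ := h
    obtain ⟨y, v', rfl, c'⟩ := h'
    exact ⟨_, v.mu v', m.mul v v', m'.mul v v' ▸ mul_mem c c'⟩
  | inv _ _ h =>
    obtain ⟨x, v, rfl, c⟩ := h
    exact ⟨_, v.iv.1, m.iv v, m'.iv v ▸ inv_mem c⟩

omit [Finite Γ] [Finite Γ'] in
theorem EQ_gp (m : Md S el) (m' : Md S' el') {L : List ℕ} (a : AV L) {x : ℕ} (hx : Val x)
    (h : el x ∈ gp el L) : el' x ∈ gp el' L := by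
  obtain ⟨y, v, e, c⟩ := EQ_gp' m m' a h
  exact m.inj v hx e ▸ c

omit [Finite Γ] [Finite Γ'] in
theorem EQ_cent (m : Md S el) (hg : g ∈ 𝐂(H))
    (hk : ∀ x, Val x → el x ∈ H → k * el' x * k⁻¹ = el' x) : (g, k) ∈ EQ_PZ m el' H hH :=
  ⟨cent_le_norm _ hg, fun x y hx hy h e => by
    rw [← m.inj hx hy ((conj_eq hg h).symm.trans e)]; exact hk x hx h⟩

omit [Finite Γ] [Finite Γ'] in
theorem EQ_C (m : Md S el) : 𝐂(H) ≤ EQ_RZ m el' H hH := fun g hg =>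
  ⟨(g, 1), EQ_cent m hg fun x _ _ => by simp, rfl⟩

omit [Finite Γ] [Finite Γ'] in
theorem EQ_in (m : Md S el) (m' : Md S' el') {z : ℕ} (hz : Val z) (h : el z ∈ 𝐍(H)) :
    (el z, el' z) ∈ EQ_PZ m el' H hH :=
  ⟨h, fun x y hx hy _ e => by
    have : H18.CO.cg z x = y := m.inj (hz.cg hx) hy ((m.cg hz hx).trans e)
    exact (m'.cg hz hx).symm.trans (congrArg el' this)⟩

omit [Finite Γ] [Finite Γ'] in
theorem EQ_S (m : Md S el) (m' : Md S' el') (hs : g ∈ S) (h : g ∈ 𝐍(H)) : g ∈ EQ_RZ m el' H hH := by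
  obtain ⟨z, hz, rfl⟩ := m.sur g hs
  exact ⟨_, EQ_in m m' hz h, rfl⟩

omit [Finite Γ] [Finite Γ'] in
theorem EQ_res (h : H ≤ H') (r : Rz el el' H' g) : Rz el el' H g :=
  let ⟨k, hk⟩ := r; ⟨k, fun x y hx hy c => hk x y hx hy (h c)⟩

omit [Finite Γ] [Finite Γ'] in
/-- generators suffice -/
theorem EQ_gen (m : Md S el) (m' : Md S' el') {L : List ℕ} (a : AV L)
    (h : ∀ x ∈ L, ∃ y, Val y ∧ g * el x * g⁻¹ = el y ∧ k * el' x * k⁻¹ = el' y) :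
    ∀ x y, Val x → Val y → el x ∈ gp el L → g * el x * g⁻¹ = el y → k * el' x * k⁻¹ = el' y := by
  have key : ∀ z ∈ gp el L, ∃ x y, Val x ∧ Val y ∧ el x = z ∧ g * el x * g⁻¹ = el y ∧
      k * el' x * k⁻¹ = el' y := fun z hz => by
    induction hz using closure_induction with
    | mem z c =>
      obtain ⟨x, hx, rfl⟩ := c
      obtain ⟨y, v, e, e'⟩ := h x hx
      exact ⟨x, y, a x hx, v, rfl, e, e'⟩
    | one => exact ⟨0, 0, val_zero, val_zero, m.one, by simp [m.one], by simp [m'.one]⟩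
    | mul _ _ _ _ c c' =>
      obtain ⟨x, y, v, w, rfl, e, f⟩ := c
      obtain ⟨x', y', v', w', rfl, e', f'⟩ := c'
      refine ⟨_, _, v.mu v', w.mu w', m.mul v v', ?_, ?_⟩
      · rw [m.mul v v', m.mul w w', ← e, ← e']; group
      · rw [m'.mul v v', m'.mul w w', ← f, ← f']; group
    | inv _ _ c =>
      obtain ⟨x, y, v, w, rfl, e, f⟩ := c
      refine ⟨_, _, v.iv.1, w.iv.1, m.iv v, ?_, ?_⟩
      · rw [m.iv v, m.iv w, ← e]; group
      · rw [m'.iv v, m'.iv w, ← f]; group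
  intro x y hx hy c e
  obtain ⟨x', y', v, w, e1, e2, e3⟩ := key _ c
  obtain rfl := m.inj v hx e1
  rw [← m.inj w hy (e2.symm.trans e)]; exact e3

theorem EQ_em {y : ℕ} : ∀ {L : List ℕ}, y ∈ em L → ∃ n ∈ L, y = enc n
  | [], h => absurd h List.not_mem_nil
  | x :: L, h => by
    rcases List.mem_cons.1 (show y ∈ enc x :: em L from h) with rfl | h
    · exact ⟨x, List.mem_cons_self, rfl⟩
    · obtain ⟨n, a, b⟩ := EQ_em h; exact ⟨n, List.mem_cons_of_mem _ a, b⟩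

omit [Finite Γ] [Finite Γ'] in
theorem EQ_ac (m : Md S el) (m' : Md S' el') {L M : List ℕ} (a : Ac el g M) (a' : Ac el' k M)
    (d : ∀ n ∈ L, dm M n = true) :
    ∀ x y, Val x → Val y → el x ∈ G el L → g * el x * g⁻¹ = el y → k * el' x * k⁻¹ = el' y :=
  EQ_gen m m' (av_em L) fun x hx => by
    obtain ⟨n, hn, rfl⟩ := EQ_em hx
    exact ⟨_, val_eb M n, m.ap a (d n hn), m'.ap a' (d n hn)⟩

omit [Finite Γ] [Finite Γ'] in
theorem EQ_conj (m : Md S el) (m' : Md S' el') {s : Γ} (hs : s ∈ S) (h : ∀ g ∈ 𝐍(H), Rz el el' H g)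
    (hg : g ∈ 𝐍(cn s H)) : Rz el el' (cn s H) g := by
  obtain ⟨z, hz, rfl⟩ := m.sur s hs
  rw [cn_norm, mem_cn] at hg
  obtain ⟨k, hk⟩ := h _ hg
  refine ⟨el' z * k * (el' z)⁻¹, fun x y hx hy c e => ?_⟩
  have := hk _ _ (hz.iv.1.cg hx) (hz.iv.1.cg hy)
    (by rw [m.cg hz.iv.1 hx, m.iv hz, inv_inv]; exact mem_cn.1 c)
    (by rw [m.cg hz.iv.1 hx, m.cg hz.iv.1 hy, m.iv hz, ← e]; group)
  rw [m'.cg hz.iv.1 hx, m'.cg hz.iv.1 hy, m'.iv hz] at this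
  calc _ = el' z * (k * ((el' z)⁻¹ * el' x * (el' z)⁻¹⁻¹) * k⁻¹) * (el' z)⁻¹ := by group
    _ = _ := by rw [this]; group

end

theorem EQ_top (m : Md S el) (pS : IsPGroup 3 S) (m' : Md S' el') (t : Tw S el) (n : Gn el b)
    (n' : Gn el' b) (d : Dl el → Dl el') (hg : g ∈ 𝐍(S)) : Rz el el' S g := by
  obtain ⟨s, hs, a, b', c, h⟩ := t g hg
  obtain ⟨k, hk⟩ := m'.ac_tau n'.t1 n'.t3 a b' c fun hc => d (m.dl_of n.t1 n.t3 (hc ▸ h))
  have e := EQ_ac m m' (L := LS) h hk ((allL_iff _ _).1 (by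
    cases a <;> cases b' <;> cases c <;> decide +kernel))
  rw [m.top pS] at e
  have r1 : s * g ∈ EQ_RZ m el' S le_rfl := EQ_rz.2 ⟨mul_mem (le_normalizer hs) hg, k, e⟩
  exact (EQ_rz.1 (mem_of_mul' r1 (EQ_S m m' hs (le_normalizer hs)))).2

/-- the step by the action on a plane -/
theorem EQ_pl (m : Md S el) (m' : Md S' el') (r : ∀ g ∈ 𝐍(S), Rz el el' S g) {LE LL M : List ℕ}
    {X Y : Subgroup Γ} {s : Γ} (p : Pl X Y (G el LL) s) (n1 : 𝐍(G el LE) ≤ 𝐍(X))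
    (n2 : 𝐍(G el LE) ≤ 𝐍(Y)) (hs : s ∈ S) (n3 : 𝐍(S) ≤ 𝐍(G el LE))
    (l : 𝐍(G el LE) ⊓ 𝐍(G el LL) ≤ 𝐍(S) ⊔ 𝐂(G el LE)) (a : ∃ g, Ac el g M) (a' : ∃ g, Ac el' g M)
    (pS : IsPGroup 3 S) {x y : ℕ} (h1 : (x, y) ∈ LS.zip M) (h2 : y ≠ 0) (h3 : enc x ∈ em LL)
    (e : band (allL (fun n => band (dm M n) ((tb (em LE)).mem (eb M n))) LE)
      (band (lgB (em LL)) ((tb (em LL)).nm (len (em LL)) (enc y))) = true)
    (hg : g ∈ 𝐍(G el LE)) : Rz el el' (G el LE) g := by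
  obtain ⟨w, a⟩ := a
  obtain ⟨k, a'⟩ := a'
  simp only [band_eq_true] at e
  have hw := m.ac_norm a e.1
  have hE := m.gp_le_S (em LE)
  refine (EQ_rz.1 (p.le (H := EQ_RZ m el' _ hE) n1 n2 (n3 (le_normalizer hs)) hw (fun c => ?_)
    (l.trans (sup_le (fun g c => EQ_rz.2 ⟨n3 c, EQ_res hE (r g c)⟩) (EQ_C m)))
    (EQ_rz.2 ⟨hw, k, EQ_ac m m' a a' fun n hn => ?_⟩) hg)).2
  · exact m.nmemB pS (av_em _) e.2.1 (val_enc _) e.2.2 (a.get h1 h2 ▸ conj_mem c (mem_gp h3))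
  · exact ((band_eq_true _ _).1 ((allL_iff _ _).1 e.1 n hn)).1

theorem EQ_R (m : Md S el) (pS : IsPGroup 3 S) (hF : Sat S) (m' : Md S' el')
    (r : ∀ g ∈ 𝐍(S), Rz el el' S g) (hg : g ∈ 𝐍(G el (LR b))) : Rz el el' (G el (LR b)) g := by
  have o := m.ok pS
  have hR := m.gp_le_S (em (LR b))
  have e : S ⊓ 𝐍(G el (LR b)) = S := inf_eq_left.2 (o.sR b)
  have := ls pS hF (fn_of_norm hR (o.sR b)) (k := 2) (g := g)
    (X := fun i => match i with | 0 => G el (LR b) | 1 => G el LP | _ => G el LH) rfl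
    (fun i hi => by
      interval_cases i
      · exact m.leB (av_em _) (av_em _) (by cases b <;> decide +kernel)
      · exact m.leB (av_em _) (av_em _) (by decide +kernel))
    (o.phR b).ge
    (fun i hi => by
      rw [e, ← m.top pS]
      interval_cases i
      · exact m.cmB (av_em _) (av_em _) (av_em _) (by cases b <;> decide +kernel)
      · exact m.cmB (av_em _) (av_em _) (av_em _) (by decide +kernel))
    (fun i hi => by
      interval_cases i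
      · exact hg
      · exact o.nR b hg)
  rw [e] at this
  have l : 𝐍(G el (LR b)) ⊓ 𝐍(S) ⊔ 𝐂(G el (LR b)) ≤ EQ_RZ m el' _ hR :=
    sup_le (fun g c => EQ_rz.2 ⟨c.1, EQ_res hR (r g c.2)⟩) (EQ_C m)
  exact (EQ_rz.1 (l this)).2

omit [Finite Γ] in
/-- an element acting trivially on `E4 / A` fixes the regular element, up to `A` -/
theorem EQ_fix (m : Md S el) (o : Ok S el) (h : ⁅g, el (enc (rr b))⁆ ∈ G el LA) :
    ∃ c ∈ G el LA, c * g * el (enc (rr b)) * (c * g)⁻¹ = el (enc (rr b)) := by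
  have r3 : el (enc (rr b)) ^ 3 = 1 := by
    rw [← m.cu (val_enc _), m.eq_one (val_enc _).cu]
    cases b <;> decide +kernel
  obtain ⟨c, hc, e⟩ := o.c4 b _ (conj_mem' (o.sA (m.mem (enc (rr b)))) h) (by
    rw [show el (enc (rr b)) * ((el (enc (rr b)))⁻¹ * ⁅g, el (enc (rr b))⁆ * el (enc (rr b))) =
      g * el (enc (rr b)) * g⁻¹ by rw [commutatorElement_def]; group, conj_pow, r3]; group)
  refine ⟨c⁻¹, inv_mem hc, ?_⟩
  calc _ = c⁻¹ * (el (enc (rr b)) * ((el (enc (rr b)))⁻¹ * ⁅g, el (enc (rr b))⁆ *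
        el (enc (rr b)))) * c := by rw [commutatorElement_def]; group
    _ = _ := by rw [← e]; group

theorem EQ_M (m : Md S el) (pS : IsPGroup 3 S) (m' : Md S' el') (pS' : IsPGroup 3 S') (hF' : Sat S')
    {k : Γ'} {M : List ℕ} (hg : g ∈ 𝐍(G el (LE4 b))) (hr : g ∈ relCentralizer (G el (LE4 b)) (G el LA))
    (a : Ac el g M) (a' : Ac el' k M) (d : allL (dm M) IA = true) : Rz el el' (G el (LE4 b)) g := by
  have o := m.ok pS
  have o' := m'.ok pS'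
  have hA := m.gp_le_S (em LA)
  have hE := m.gp_le_S (em (LE4 b))
  have vr := val_enc (rr b)
  have mr : el (enc (rr b)) ∈ G el (LE4 b) := mem_gp List.mem_cons_self
  have mr' : el' (enc (rr b)) ∈ G el' (LE4 b) := mem_gp List.mem_cons_self
  have eE : G el' (LE4 b) = G el' LA ⊔ zpowers (el' (enc (rr b))) := G_cons _ _
  rw [mem_rc] at hr
  have p1 : (g, k) ∈ EQ_PZ m el' _ hA := ⟨hr.1, EQ_ac m m' a a' fun n hn =>
    (allL_iff _ _).1 d n (by revert n; decide)⟩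
  have p2 : (el (enc (rr b)), el' (enc (rr b))) ∈ EQ_PZ m el' _ hA := EQ_in m m' vr (o.sA (m.mem _))
  -- consequences of membership
  have q1 : ∀ {k : Γ'}, (g, k) ∈ EQ_PZ m el' _ hA → ∀ z ∈ G el' LA, k * z * k⁻¹ ∈ G el' LA :=
    fun {k} p z hz => by
      obtain ⟨x, v, rfl, c⟩ := EQ_gp' m' m (av_em _) hz
      obtain ⟨y, w, e⟩ := m.sur _ (hA (conj_mem hr.1 c))
      rw [p.2 x y v w c e.symm]
      exact EQ_gp m m' (av_em _) w (e ▸ conj_mem hr.1 c)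
  have q2 : ∀ {k : Γ'}, (g, k) ∈ EQ_PZ m el' _ hA → ⁅k, el' (enc (rr b))⁆ ∈ 𝐂(G el' LA) :=
    fun {k} p => mem_cent fun z hz => by
      obtain ⟨x, v, rfl, c⟩ := EQ_gp' m' m (av_em _) hz
      have p3 := mul_mem (mul_mem (mul_mem p p2) (inv_mem p)) (inv_mem p2)
      have := p3.2 x x v v c (conj_eq (o.eaA.comm (hr.2 _ mr)) c)
      rw [commutatorElement_eq_one_iff_mul_comm]
      exact mul_inv_eq_iff_eq_mul.1 this
  have nk : k ∈ 𝐍(G el' LA) := mem_norm (q1 p1)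
  have q3 : G el' (LE4 b) ⊔ 𝐂(G el' LA) ≤ cn k⁻¹ (G el' (LE4 b) ⊔ 𝐂(G el' LA)) := by
    refine sup_le (eE.le.trans (sup_le (fun z hz => ?_) (zpowers_le_of_mem ?_))) fun z hz => ?_ <;>
      rw [mem_cn, inv_inv]
    · exact mem_sup_left (eE ▸ mem_sup_left (q1 p1 z hz))
    · rw [show k * el' (enc (rr b)) * k⁻¹ = ⁅k, el' (enc (rr b))⁆ * el' (enc (rr b)) by
        rw [commutatorElement_def]; group]
      exact mul_mem (mem_sup_right (q2 p1)) (mem_sup_left mr')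
    · exact mem_sup_right (conj_mem (norm_cent le_rfl nk) hz)
  obtain ⟨c, hc, hk⟩ := ext pS' hF' (eE.ge.trans' le_sup_left) (m'.gp_le_S _) o'.sA o'.cA nk
    (mem_norm fun z hz => by have := q3 hz; rwa [mem_cn, inv_inv] at this)
  have tr : ∀ {c : Γ'}, c ∈ 𝐂(G el' LA) → ((1 : Γ), c) ∈ EQ_PZ m el' _ hA := fun hc =>
    EQ_cent m (one_mem _) fun x v h => conj_eq hc (EQ_gp m m' (av_em _) v h)
  have p3 : (g, k * c) ∈ EQ_PZ m el' _ hA := by simpa using mul_mem p1 (tr hc)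
  obtain ⟨c₁, h1, e1⟩ := EQ_fix m o (hr.2 _ mr)
  obtain ⟨c₂, h2, e2⟩ := EQ_fix m' o' (o'.cA ⟨m'.gp_le_S _ (comm_mem_r hk mr'), q2 p3⟩)
  have p4 : (c₁ * g, c₂ * (k * c)) ∈ EQ_PZ m el' _ hA := by
    simpa using mul_mem (mul_mem (EQ_cent (hH := hA) (k := (1 : Γ')) m (o.eaA.comm h1) fun x _ _ => by simp)
      (tr (o'.eaA.comm h2))) p3
  have n1 : c₁ ∈ 𝐍(G el (LE4 b)) := le_normalizer (((G_cons _ _).ge.trans' le_sup_left :
    G el LA ≤ G el (LE4 b)) h1)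
  have r1 : c₁ * g ∈ EQ_RZ m el' _ hE := EQ_rz.2 ⟨mul_mem n1 hg, c₂ * (k * c),
    EQ_gen m m' (av_em _) fun x hx => by
      rcases List.mem_cons.1 (show x ∈ enc (rr b) :: em LA from hx) with rfl | hx
      · exact ⟨_, vr, e1, e2⟩
      · obtain ⟨y, w, e⟩ := m.sur _ (hA (conj_mem p4.1 (mem_gp hx)))
        exact ⟨y, w, e.symm, p4.2 x y (av_em _ x hx) w (mem_gp hx) e.symm⟩⟩
  exact (EQ_rz.1 (mem_of_mul' r1 (EQ_S m m' (hA h1) n1))).2

theorem EQ_E4 (m : Md S el) (pS : IsPGroup 3 S) (hF : Sat S) (m' : Md S' el') (pS' : IsPGroup 3 S')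
    (hF' : Sat S') (n : Gn el b) (n' : Gn el' b) (r : ∀ g ∈ 𝐍(S), Rz el el' S g) {c : Bool}
    (hg : g ∈ 𝐍(G el (LE4 c))) : Rz el el' (G el (LE4 c)) g := by
  have o := m.ok pS
  have hE := m.gp_le_S (em (LE4 c))
  have l : 𝐍(G el (LE4 c)) ⊓ 𝐍(G el (LR c)) ⊔ 𝐂(G el (LE4 c)) ≤ EQ_RZ m el' _ hE :=
    sup_le (fun g h => EQ_rz.2 ⟨h.1, EQ_res (m.leB (av_em _) (av_em _) (by cases c <;> decide +kernel))
      (EQ_R m pS hF m' r h.2)⟩) (EQ_C m)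
  by_cases h : Mv S (G el (LE4 c))
  · cases b
    · exact absurd h (m.e4_L pS hF n)
    · obtain ⟨w, w1, w2, w3, k, M, a, a', d⟩ := m.e4_M pS hF m' n n' h
      refine (EQ_rz.1 ((m.pl4 pS c).le (H := EQ_RZ m el' _ hE)
        (o.nA ((G_cons _ _).ge.trans' le_sup_left) hE) (o.ph4 c ▸ norm_ph le_rfl) ?_ w1 w2
        ((m.ls4 pS hF c).trans l) (EQ_rz.2 ⟨w1, EQ_M m pS m' pS' hF' w1 w3 a a' d⟩) hg)).2
      exact ((o.n4 c).ge (mem_gp (by simp [LR, em]))).2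
  · rw [Mv, not_not, o.n4] at h
    exact (EQ_rz.1 (l (h hg))).2

theorem Md.rz (m : Md S el) (pS : IsPGroup 3 S) (hF : Sat S) (m' : Md S' el') (pS' : IsPGroup 3 S') (hF' : Sat S')
    (t : Tw S el) (n : Gn el b) (n' : Gn el' b) (d : Dl el → Dl el')
    (hE : E = S ∨ E = G el LE1 ∨ E = G el LE2 ∨ E = G el LE3 ∨ ∃ b, ∃ s ∈ S, E = cn s (G el (LE4 b)))
    (hg : g ∈ 𝐍(E)) : Rz el el' E g := by
  have o := m.ok pS
  have r : ∀ g ∈ 𝐍(S), Rz el el' S g := fun g => EQ_top m pS m' t n n' d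
  have lA : ∀ {L}, H18.CO.leB (em LA) (em L) = true → 𝐍(G el L) ≤ 𝐍(G el LA) := fun e =>
    o.nA (m.leB (av_em _) (av_em _) e) (m.gp_le_S _)
  rcases hE with rfl | rfl | rfl | rfl | ⟨c, s, hs, rfl⟩
  · exact r g hg
  · exact EQ_pl m m' r (m.pl1 pS) le_rfl (lA (by decide +kernel)) (m.mem _) o.nS1 (m.ls1 pS hF) n.w1 n'.w1
      pS (x := 243) (y := 2187) (by decide) (by decide) (by simp [LP, em]) (by decide +kernel) hg
  · exact EQ_pl m m' r (m.pl2 pS) le_rfl (lA (by decide +kernel)) (m.mem _) o.nS2 (m.ls2 pS hF) n.w2 n'.w2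
      pS (x := 243) (y := 6561) (by cases b <;> decide) (by decide) (by simp [LP, em])
      (by cases b <;> decide +kernel) hg
  · exact EQ_pl m m' r (m.pl3 pS) o.n3V (o.ph3 ▸ norm_ph le_rfl) (m.mem _) o.nS3 (m.ls3 pS hF) n.w3 n'.w3
      pS (x := 81) (y := 2187) (by decide) (by decide) (by simp [LF, em]) (by decide +kernel) hg
  · exact EQ_conj m m' hs (fun g => EQ_E4 m pS hF m' pS' hF' n n' r) hg

end H18.CO
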