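import Mathlib
import Cfsg.Agent.Base
import Cfsg.Agent.Lib.CO3.EQ
import Cfsg.Agent.Lib.SpX.Ev

set_option autoImplicit false
set_option maxRecDepth 100000

namespace H18.CO

open Subgroup H54 H2 H90 H91 H93.R3 H18.TH Cfsg Cfsg.FusionSystem
open scoped commutatorElement Pointwise

local notation:max "𝐍(" A ")" => Subgroup.normalizer (SetLike.coe A)
local notation:max "𝐂(" A ")" => Subgroup.centralizer (SetLike.coe A)

universe u v

variable {Γ : Type u} [Group Γ] [Finite Γ] {Γ' : Type v} [Group Γ'] [Finite Γ'] {S E : Subgroup Γ}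
  {S' : Subgroup Γ'} {el : ℕ → Γ} {el' : ℕ → Γ'} {g : Γ} {b : Bool}

omit [Finite Γ] [Finite Γ'] in
theorem RL_eq (m' : Md S' el') {E' H' : Subgroup Γ'} {H : Subgroup Γ} (hE' : E' ≤ S') (hH' : H' ≤ S')
    (co : ∀ x, Val x → (el x ∈ E ↔ el' x ∈ E')) (k : ∀ x, Val x → (el x ∈ H ↔ el' x ∈ H'))
    (e : E = H) : E' = H' := by
  refine le_antisymm (fun z hz => ?_) fun z hz => ?_
  · obtain ⟨x, v, rfl⟩ := m'.sur z (hE' hz)
    exact (k x v).1 (e ▸ (co x v).2 hz)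
  · obtain ⟨x, v, rfl⟩ := m'.sur z (hH' hz)
    exact (co x v).1 (e ▸ (k x v).2 hz)

omit [Finite Γ] [Finite Γ'] in
theorem RL_tr (m : Md S el) (m' : Md S' el') {E' : Subgroup Γ'} (hE' : E' ≤ S')
    (co : ∀ x, Val x → (el x ∈ E ↔ el' x ∈ E'))
    (h : E = S ∨ E = G el LE1 ∨ E = G el LE2 ∨ E = G el LE3 ∨ ∃ b, ∃ s ∈ S, E = cn s (G el (LE4 b))) :
    E' = S' ∨ E' = G el' LE1 ∨ E' = G el' LE2 ∨ E' = G el' LE3 ∨
      ∃ b, ∃ s ∈ S', E' = cn s (G el' (LE4 b)) := by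
  have k : ∀ L x, Val x → (el x ∈ G el L ↔ el' x ∈ G el' L) := fun L x v =>
    ⟨EQ_gp m m' (av_em _) v, EQ_gp m' m (av_em _) v⟩
  refine h.imp (RL_eq m' hE' le_rfl co fun x _ => iff_of_true (m.mem x) (m'.mem x))
    (Or.imp (RL_eq m' hE' (m'.gp_le_S _) co (k _)) (Or.imp (RL_eq m' hE' (m'.gp_le_S _) co (k _))
      (Or.imp (RL_eq m' hE' (m'.gp_le_S _) co (k _)) fun ⟨b, s, hs, e⟩ => ?_)))
  obtain ⟨z, hz, rfl⟩ := m.sur s hs
  refine ⟨b, el' z, m'.mem z, RL_eq m' hE' (cn_le (m'.gp_le_S _) (le_normalizer (m'.mem z))) co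
    (fun x v => ?_) e⟩
  have := k (LE4 b) _ (hz.iv.1.cg v)
  rwa [m.cg hz.iv.1 v, m'.cg hz.iv.1 v, m.iv hz, m'.iv hz, inv_inv, inv_inv, ← mem_cn, ← mem_cn] at this

omit [Finite Γ'] in
theorem RL_eqv {W : Type*} [Group W] {ι : W →* Γ} {ψ : W →* Γ'} {τ : ℕ → W}
    (h1 : ∀ x, Val x → ι (τ x) = el x) (h2 : ∀ x, Val x → ψ (τ x) = el' x)
    (hs : ∀ w, ∃ x, Val x ∧ τ x = w) {E : Subgroup W}
    (h : ∀ g ∈ 𝐍(E.map ι), Rz el el' (E.map ι) g) : H93.SX.Eqv ι ψ E := fun g hg => by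
  obtain ⟨k, hk⟩ := h g (mem_norm (by
    rintro _ ⟨x, hx, rfl⟩
    obtain ⟨y, hy, e⟩ := hg x hx
    exact ⟨y, hy, Eq.symm e⟩))
  refine ⟨k, fun x hx y _ e => ?_⟩
  obtain ⟨x, v, rfl⟩ := hs x
  obtain ⟨y, w, rfl⟩ := hs y
  rw [H93.SX.Cj, h1 x v, h1 y w] at e
  rw [H93.SX.Cj, h2 x v, h2 y w]
  exact hk x y v w ⟨_, hx, h1 x v⟩ e

theorem Md.real (m : Md S el) (pS : IsPGroup 3 S) (hF : Sat S) (m' : Md S' el') (T : Sylow 3 Γ') (hT : (T : Subgroup Γ') = S')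
    (c : Cls S el) (c' : Cls S' el') (t : Tw S el) (t' : Tw S' el') (n : Gn el b) (n' : Gn el' b)
    (d : Dl el ↔ Dl el') : (groupFusionSystem S).IsRealizable 3 := by
  have pS' : IsPGroup 3 S' := hT ▸ T.isPGroup'
  have hF' : Sat S' := hT ▸ H93.isSaturated_groupFusionSystem T
  obtain ⟨θ, hθ⟩ := m.equiv m'
  have r1 : S.subtype.range = S := range_subtype S
  have r2 : (S'.subtype.comp θ.toMonoidHom).range = S' := by
    rw [MonoidHom.range_comp, MonoidHom.range_eq_top.2 θ.surjective, ← MonoidHom.range_eq_map,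
      range_subtype]
  have i2 : Function.Injective (S'.subtype.comp θ.toMonoidHom) :=
    Subtype.val_injective.comp θ.injective
  have hs : ∀ w : S, ∃ x, Val x ∧ (⟨el x, m.mem x⟩ : S) = w := fun w =>
    let ⟨x, v, e⟩ := m.sur w w.2; ⟨x, v, Subtype.ext e⟩
  have := H93.SX.real_of_eqv (p := 3) (ι := S.subtype) (ψ := S'.subtype.comp θ.toMonoidHom)
    ⟨Subtype.val_injective, pS, r1.symm ▸ hF⟩ ⟨i2, pS, r2.symm ▸ hF'⟩ T (hT.trans r2.symm) fun E hE => ?_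
  · rwa [r1] at this
  have l1 : E.map S.subtype ≤ S := map_subtype_le E
  have l2 : E.map (S'.subtype.comp θ.toMonoidHom) ≤ S' := (map_le_range _ _).trans r2.le
  have co : ∀ x, Val x → (el x ∈ E.map S.subtype ↔ el' x ∈ E.map (S'.subtype.comp θ.toMonoidHom)) :=
    fun x v => by
      rw [← hθ x v]
      exact (mem_map_iff_mem (K := E) (x := ⟨el x, m.mem x⟩) Subtype.val_injective).trans
        (mem_map_iff_mem (K := E) (x := ⟨el x, m.mem x⟩) i2).symm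
  have k : E.map S.subtype = S ∨ E.map S.subtype = G el LE1 ∨ E.map S.subtype = G el LE2 ∨
      E.map S.subtype = G el LE3 ∨ ∃ b, ∃ s ∈ S, E.map S.subtype = cn s (G el (LE4 b)) := by
    rcases hE with rfl | h | h
    · exact Or.inl ((MonoidHom.range_eq_map _).symm.trans r1)
    · rw [H93.SX.Es, r1] at h
      exact Or.inr (c _ h)
    · rw [H93.SX.Es, r2] at h
      exact RL_tr m' m l1 (fun x v => (co x v).symm) (Or.inr (c' _ h))
  exact ⟨RL_eqv (τ := fun x => ⟨el x, m.mem x⟩) (fun _ _ => rfl) hθ hs fun g =>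
      m.rz pS hF m' pS' hF' t n n' d.1 k,
    RL_eqv (τ := fun x => ⟨el x, m.mem x⟩) hθ (fun _ _ => rfl) hs fun g =>
      m'.rz pS' hF' m pS hF t' n' n d.2 (RL_tr m m' l2 co k)⟩

theorem real_back {Ω : Type u} [Group Ω] {S₀ : Subgroup Ω} [Finite S₀] (hS : IsPGroup 3 S₀)
    (F : FusionSystem S₀) (hF : F.IsSaturated 3) (hc : F.core = ⊥)
    (h : ∀ (Γ : Type u) [Group Γ] [Finite Γ] (S : Subgroup Γ), Nonempty (S₀ ≃* S) → Sat S →
      (groupFusionSystem S).core = ⊥ → (groupFusionSystem S).IsRealizable 3) : F.IsRealizable 3 := by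
  obtain ⟨Γ, _, _, ι, hι⟩ := H93.Park.exists_finite_realization hS F
  obtain ⟨θ, h1, h2, -⟩ := H91.exists_quot_of_real hι (H93.groupFusionSystem_isRealizedBy ι.range)
    (Subgroup.range_subtype _).symm
  obtain ⟨G, _, _, ψ, h5, P, hP⟩ := h Γ ι.range ⟨MonoidHom.ofInjective hι.1⟩ (h1.isSaturated hS hF)
    (core_image hS hF h1 h2 hc)
  refine ⟨G, _, ‹_›, ψ.comp ι.rangeRestrict, ⟨h5.1.comp (MonoidHom.ofInjective hι.1).injective,
    fun Q hQ φ hφ => (hι.2 Q hQ φ hφ).trans ⟨fun ⟨g, hg⟩ => ?_, fun ⟨k, hk⟩ => ?_⟩⟩, P, by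
      rw [hP, MonoidHom.range_comp, MonoidHom.range_eq_top.2 ι.rangeRestrict_surjective,
        ← MonoidHom.range_eq_map]⟩
  · obtain ⟨k, hk⟩ := (h5.2 ((Q.subgroupOf S₀).map ι) (Subgroup.map_le_range _ _) (conjHom _ g) (by
      rintro ⟨_, x, hx, rfl⟩
      exact ⟨_, hg ⟨x, hx⟩⟩)).1 ⟨Subgroup.map_le_range _ _, by
        rintro ⟨_, x, hx, rfl⟩
        exact ⟨_, hg ⟨x, hx⟩⟩, g, fun _ => rfl⟩
    exact ⟨k, fun x => (congrArg ψ (Subtype.ext (hg x))).trans (hk ⟨_, ⟨x, hQ x.2⟩, x.2, rfl⟩)⟩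
  · let i := (MonoidHom.ofInjective hι.1).symm
    let χ : (Q.subgroupOf S₀).map ι →* Γ := ι.comp ((φ.codRestrict S₀ hφ).comp
      (((S₀.subtype.comp i.toMonoidHom).comp (Subgroup.inclusion (Subgroup.map_le_range _ _))).codRestrict
        Q (by
          rintro ⟨_, x, hx, rfl⟩
          exact (congrArg (fun y : S₀ => y.1 ∈ Q) ((MonoidHom.ofInjective hι.1).symm_apply_apply x)).mpr hx)))
    have hχ : ∀ x : Q, χ ⟨_, ⟨x, hQ x.2⟩, x.2, rfl⟩ = ι ⟨φ x, hφ x⟩ := fun x =>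
      congrArg (fun y => ι ⟨φ y, hφ y⟩) (Subtype.ext (congrArg S₀.subtype
        ((MonoidHom.ofInjective hι.1).symm_apply_apply ⟨x, hQ x.2⟩)))
    obtain ⟨-, -, g, hg⟩ := (h5.2 _ (Subgroup.map_le_range _ _) χ fun _ => ⟨_, rfl⟩).2 ⟨k, by
      rintro ⟨_, x, hx, rfl⟩
      exact (congrArg ψ (Subtype.ext (hχ ⟨x, hx⟩))).trans (hk ⟨x, hx⟩)⟩
    exact ⟨g, fun x => (hχ x).symm.trans (hg _)⟩

theorem Md.mv_all (m : Md S el) (pS : IsPGroup 3 S) (hF : Sat S) (c : Cls S el) (hc : (groupFusionSystem S).core = ⊥) :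
    Mv S (G el LE1) ∧ Mv S (G el LE2) ∧ Mv S (G el LE3) := by
  have o := m.ok pS
  have le : ∀ {L K}, H18.CO.leB (em L) (em K) = true → G el L ≤ G el K := m.leB (av_em _) (av_em _)
  have ne : ∀ {L}, enc 1 ∈ em L → G el L ≠ ⊥ := fun h e => by
    have := mem_bot.1 (e.le (mem_gp h))
    rw [m.eq_one (val_enc _)] at this
    revert this; decide +kernel
  have zz : ∀ {X Z : Subgroup Γ}, X ⊓ 𝐂(X) = Z → Z ≤ X ∧ 𝐍(X) ≤ 𝐍(Z) := fun e =>
    e ▸ ⟨inf_le_left, norm_inf le_rfl (norm_cent le_rfl)⟩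
  have e4 : ∀ {b s}, s ∈ S → Es S (cn s (G el (LE4 b))) → Mv S (G el LE1) ∧ Mv S (G el LE2) :=
    fun hs h => by
      have := ess_cn pS hF h (inv_mem hs)
      rw [cn_inv_cn] at this
      exact m.e4_mv pS hF (mv_of_es pS hF this)
  refine ⟨by_contra fun h => ?_, by_contra fun h => ?_, by_contra fun h => ?_⟩
  · refine ne (L := LZ) (by simp [LZ, em]) (eq_bot_of_norm pS hF hc (m.gp_le_S _) (zz o.zS).2 fun E hE => ?_)
    rcases c E hE with rfl | rfl | rfl | ⟨b, s, hs, rfl⟩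
    · exact absurd (mv_of_es pS hF hE) h
    · exact zz o.z2
    · exact zz o.z3
    · exact absurd (e4 hs hE).1 h
  · refine ne (L := LW) (by simp [LW, em]) (eq_bot_of_norm pS hF hc (m.gp_le_S _)
      (o.nS1.trans (zz o.z1).2) fun E hE => ?_)
    rcases c E hE with rfl | rfl | rfl | ⟨b, s, hs, rfl⟩
    · exact zz o.z1
    · exact absurd (mv_of_es pS hF hE) h
    · exact ⟨le (by decide +kernel), o.n3V.trans o.nVW⟩
    · exact absurd (e4 hs hE).2 h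
  · refine ne (L := LA) (by simp [LA, em]) (eq_bot_of_norm pS hF hc (m.gp_le_S _)
      (o.nA (m.gp_le_S _) le_rfl) fun E hE => ?_)
    have k : G el LA ≤ E → E ≤ S → G el LA ≤ E ∧ 𝐍(E) ≤ 𝐍(G el LA) := fun a b => ⟨a, o.nA a b⟩
    rcases c E hE with rfl | rfl | rfl | ⟨b, s, hs, rfl⟩
    · exact k (le (by decide +kernel)) (m.gp_le_S _)
    · exact k (le (by decide +kernel)) (m.gp_le_S _)
    · exact absurd (mv_of_es pS hF hE) h
    · exact k ((cn_eq (o.sA hs)).ge.trans (cn_mono (le (by cases b <;> decide +kernel))))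
        (cn_le (m.gp_le_S _) (le_normalizer hs))

end H18.CO
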