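import Mathlib
import Cfsg.Agent.Base
import Cfsg.Agent.Lib.CO3.PC
import Cfsg.Agent.S0245

set_option autoImplicit false
set_option maxRecDepth 100000
set_option linter.unusedSectionVars false

namespace H18.CO

open Subgroup H54 H2 H90 H91 H93.R3 H18.TH Cfsg Cfsg.FusionSystem
open scoped commutatorElement Pointwise

local notation:max "𝐍(" A ")" => Subgroup.normalizer (SetLike.coe A)
local notation:max "𝐂(" A ")" => Subgroup.centralizer (SetLike.coe A)

universe u v

namespace SP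
open Matrix

abbrev Mx := Matrix (Fin 3 ⊕ Fin 3) (Fin 3 ⊕ Fin 3) (ZMod 3)
abbrev Sp := Matrix.symplecticGroup (Fin 3) (ZMod 3)

def ix : Fin 3 ⊕ Fin 3 → ℕ := Sum.elim (fun i => i.1) fun i => i.1 + 3

theorem ix_lt : ∀ i, ix i < 6 := by decide

noncomputable def en (c i j : ℕ) : ℕ := Nat.mod (Nat.div c (Nat.pow 3 (Nat.add (Nat.mul 6 i) j))) 3

/-- the matrix with the code `c` -/
noncomputable def mv (c : ℕ) : Mx := Matrix.of fun i j => ((en c (ix i) (ix j) : ℕ) : ZMod 3)

noncomputable def pk3 (f : ℕ → ℕ) (n : ℕ) : ℕ :=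
  Nat.rec (motive := fun _ => ℕ) 0 (fun k a => Nat.add a (Nat.mul (Nat.mod (f k) 3) (Nat.pow 3 k))) n

theorem pk3_spec (f : ℕ → ℕ) : ∀ n, pk3 f n < 3 ^ n ∧ ∀ k < n, pk3 f n / 3 ^ k % 3 = f k % 3
  | 0 => ⟨Nat.one_pos, fun _ h => absurd h (Nat.not_lt_zero _)⟩
  | n + 1 => by
    obtain ⟨h1, h2⟩ := pk3_spec f n
    have e : pk3 f (n + 1) = pk3 f n + f n % 3 * 3 ^ n := rfl
    have l : f n % 3 < 3 := Nat.mod_lt _ (by norm_num)
    refine ⟨by rw [e, pow_succ]; nlinarith, fun k hk => ?_⟩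
    rcases Nat.lt_succ_iff_lt_or_eq.1 hk with h | rfl
    · obtain ⟨d, rfl⟩ := Nat.exists_eq_add_of_lt h
      rw [e, show f (k + d + 1) % 3 * 3 ^ (k + d + 1) = 3 ^ k * (3 * (f (k + d + 1) % 3 * 3 ^ d)) by ring,
        Nat.add_mul_div_left _ _ (by positivity), Nat.add_mul_mod_self_left, h2 k h]
    · rw [e, Nat.add_mul_div_right _ _ (by positivity), Nat.div_eq_of_lt h1, zero_add, Nat.mod_mod]

noncomputable def pk6 (f : ℕ → ℕ → ℕ) : ℕ := pk3 (fun k => f (Nat.div k 6) (Nat.mod k 6)) 36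

theorem mv_pk6 (f : ℕ → ℕ → ℕ) (i j : Fin 3 ⊕ Fin 3) : mv (pk6 f) i j = (f (ix i) (ix j) : ℕ) := by
  have a := ix_lt i
  have b := ix_lt j
  have := (pk3_spec (fun k => f (k / 6) (k % 6)) 36).2 (6 * ix i + ix j) (by omega)
  rw [show (6 * ix i + ix j) / 6 = ix i by omega, show (6 * ix i + ix j) % 6 = ix j by omega] at this
  exact (congrArg Nat.cast this).trans (ZMod.natCast_mod _ 3)

noncomputable def mm (c d : ℕ) : ℕ := pk6 fun i j =>
  Nat.rec (motive := fun _ => ℕ) 0 (fun k a => Nat.add a (Nat.mul (en c i k) (en d k j))) 6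

theorem mv_mm (c d : ℕ) : mv (mm c d) = mv c * mv d := by
  ext i j
  rw [mm, mv_pk6, Matrix.mul_apply, Fintype.sum_sum_type, Fin.sum_univ_three, Fin.sum_univ_three]
  show ((0 + en c (ix i) 0 * en d 0 (ix j) + en c (ix i) 1 * en d 1 (ix j) + en c (ix i) 2 * en d 2 (ix j) +
    en c (ix i) 3 * en d 3 (ix j) + en c (ix i) 4 * en d 4 (ix j) + en c (ix i) 5 * en d 5 (ix j) : ℕ) : ZMod 3) =
    (en c (ix i) 0 : ℕ) * (en d 0 (ix j) : ℕ) + (en c (ix i) 1 : ℕ) * (en d 1 (ix j) : ℕ) +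
    (en c (ix i) 2 : ℕ) * (en d 2 (ix j) : ℕ) + ((en c (ix i) 3 : ℕ) * (en d 3 (ix j) : ℕ) +
    (en c (ix i) 4 : ℕ) * (en d 4 (ix j) : ℕ) + (en c (ix i) 5 : ℕ) * (en d 5 (ix j) : ℕ))
  push_cast
  ring

noncomputable def tr (c : ℕ) : ℕ := pk6 fun i j => en c j i

theorem mv_tr (c : ℕ) : mv (tr c) = (mv c)ᵀ := by
  ext i j
  rw [tr, mv_pk6]; rfl

theorem mv_one : mv 50054432356593028 = 1 := by decide +kernel
theorem mv_J : mv 1853868123280251 = J (Fin 3) (ZMod 3) := by decide +kernel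

noncomputable def pr (L : List ℕ) : ℕ :=
  List.rec (motive := fun _ => ℕ) 50054432356593028 (fun c _ ih => force c fun c => force ih (mm c)) L

theorem mv_pr : ∀ L : List ℕ, mv (pr L) = (L.map mv).prod
  | [] => mv_one
  | c :: L => by
    rw [show pr (c :: L) = force c fun c => force (pr L) (mm c) from rfl, force_eq, force_eq, mv_mm, mv_pr L,
      List.map_cons, List.prod_cons]

/-- `x12, x23, e33, x13, e23, e13, e22, e12, e11, t1, t3, w1, w2, w3` -/
def cA (i : ℕ) : ℕ := [50069683551563005, 83408795755932727, 50054432485733191, 61172553489704083,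
  50054432399816896, 50054432370942178, 50054432356652077, 50054432356612792, 50054432356593055,
  50054442816946232, 100085977460375704, 50039233463387616, 33423004240246432, 3728927759654197].getD i
  50054432356593028

theorem sy_chk : allLt (fun i => Nat.beq (pr [cA i, 1853868123280251, tr (cA i)]) 1853868123280251) 14 = true := by
  decide +kernel

theorem sy (i : ℕ) : mv (cA i) ∈ Sp := by
  by_cases h : i < 14
  · have := congrArg mv (Nat.eq_of_beq_eq_true ((allLt_iff _ _).1 sy_chk i h))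
    rw [mv_pr] at this
    simpa only [SymplecticGroup.mem_iff, List.map_cons, List.map_nil, List.prod_cons, List.prod_nil, mv_J, mv_tr,
      mul_one, mul_assoc] using this
  · rw [cA, List.getD_eq_default _ _ (not_lt.1 h), mv_one]; exact one_mem _

noncomputable def a (i : ℕ) : Sp := ⟨mv (cA i), sy i⟩

theorem coe_pr (L : List ℕ) : ((L.map a).prod : Sp).1 = mv (pr (L.map cA)) := by
  rw [mv_pr, List.map_map, Submonoid.coe_list_prod, List.map_map]; rfl

noncomputable def eqW (L K : List ℕ) : Bool := Nat.beq (pr (L.map cA)) (pr (K.map cA))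

theorem eqW_spec {L K : List ℕ} (e : eqW L K = true) : (L.map a).prod = (K.map a).prod :=
  Subtype.ext (by rw [coe_pr, coe_pr, Nat.eq_of_beq_eq_true e])

theorem pc_chk : band (allLt (fun i => eqW [i, i, i] []) 9)
    (allLt (fun j => allLt (fun i => eqW [j, i] (i :: rw0 j i)) j) 9) = true := by decide +kernel

theorem pc : Pc a := by
  have := pc_chk
  simp only [band_eq_true, allLt_iff] at this
  exact ⟨fun i hi => by simpa [pow_succ'] using eqW_spec (this.1 i hi),
    fun j hj i hi => by simpa using eqW_spec (this.2 j hj i hi)⟩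

theorem z_eq : (a 8).1 = 1 + single (.inl 0) (.inr 0) 1 ∧ (a 8).1 * (a 8).1 = 1 + single (.inl 0) (.inr 0) 2 ∧
    (a 8).1 ≠ 1 := by
  show mv (cA 8) = _ ∧ mv (cA 8) * mv (cA 8) = _ ∧ mv (cA 8) ≠ _
  decide +kernel

theorem z_ne : a 8 ≠ 1 := fun e => z_eq.2.2 (congrArg Subtype.val e)

/-- the long root element is not conjugate to its inverse -/
theorem z_nc (g : Sp) : g * a 8 * g⁻¹ ≠ a 8 * a 8 := fun e => by
  have e := congrArg Subtype.val (mul_inv_eq_iff_eq_mul.1 e)
  rw [Submonoid.coe_mul, Submonoid.coe_mul, Submonoid.coe_mul, z_eq.2.1, z_eq.1, mul_add, add_mul, mul_one, one_mul,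
    add_right_inj] at e
  have k : ∀ j, j ≠ .inr 0 → g.1 (.inr 0) j = 0 := fun j h => by
    have := congrFun (congrFun e (.inl 0)) j
    rw [mul_single_apply_of_ne _ _ _ _ _ h, single_mul_apply_same] at this
    revert this; generalize g.1 (.inr 0) j = x; revert x; decide
  have k0 := congrFun (congrFun e (.inl 0)) (.inr 0)
  rw [mul_single_apply_same, single_mul_apply_same] at k0
  have s := congrFun (congrFun (SymplecticGroup.mem_iff.1 g.2) (.inr 0)) (.inl 0)
  simp [Matrix.mul_apply, Fintype.sum_sum_type, Fin.sum_univ_three, J, k, Matrix.one_apply] at s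
  revert s k0
  generalize g.1 (.inr 0) (.inr 0) = x
  generalize g.1 (.inl 0) (.inl 0) = y
  revert x y; decide

noncomputable def acB (c : ℕ) (M : List ℕ) : Bool :=
  band (Nat.beq M.length 9) (allLt (fun i => force (M.getD i 0) fun y => bor (Nat.beq y 0) (anyL (fun j => bor
    (band (Nat.beq y (LS.getD j 0)) (Nat.beq (pr [c, cA i]) (pr [cA j, c])))
    (band (Nat.beq y (Nat.mul 2 (LS.getD j 0))) (Nat.beq (pr [c, cA i]) (pr [cA j, cA j, c])))) (List.range 9))) 9)

variable {Γ : Type u} [Group Γ] {S : Subgroup Γ} {b : ℕ → Γ}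

theorem ac_of (m : Md S (ea b)) {c : ℕ} {M : List ℕ} {g : Γ} (e : acB c M = true)
    (h : ∀ i (L : List ℕ), mv c * (a i).1 = ((L.map a).prod : Sp).1 * mv c → g * b i * g⁻¹ = (L.map b).prod) :
    Ac (ea b) g M := by
  simp only [acB, band_eq_true, allLt_iff, force_eq, bor_eq_true, anyL_iff, Nat.beq_eq, List.mem_range] at e
  have d : ∀ j < 9, enc (Nat.mul 2 (LS.getD j 0)) = mu (enc (LS.getD j 0)) (enc (LS.getD j 0)) := by decide +kernel
  refine List.forall₂_of_length_eq_of_get e.1.symm fun i h1 h2 => ?_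
  rw [List.get_eq_getElem, List.get_eq_getElem, ← List.getD_eq_getElem _ 0, ← List.getD_eq_getElem _ 0, ea_gen b i h1]
  refine (e.2 i h1).imp_right ?_
  rintro ⟨j, hj, ⟨e1, e2⟩ | ⟨e1, e2⟩⟩ <;> have e2 := congrArg mv e2 <;> rw [mv_pr, mv_pr] at e2
  · rw [e1, ea_gen b j hj]
    simpa using h i [j] (by simpa [a] using e2)
  · rw [e1, d j hj, m.mul (val_enc _) (val_enc _), ea_gen b j hj]
    simpa using h i [j, j] (by simpa [a, mul_assoc] using e2)

theorem gn (φ : Sp →* Γ) (m : Md S (ea (φ ∘ a))) : Gn (ea (φ ∘ a)) false := by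
  have k : ∀ n M, acB (cA n) M = true → ∃ g, Ac (ea (φ ∘ a)) g M := fun n M e =>
    ⟨φ (a n), ac_of m e fun i L h => by
      rw [← List.map_map, ← map_list_prod, mul_inv_eq_iff_eq_mul, Function.comp, ← map_mul, ← map_mul]
      exact congrArg φ (Subtype.ext h)⟩
  exact ⟨k 9 _ (by decide +kernel), k 10 _ (by decide +kernel), k 11 _ (by decide +kernel),
    k 12 _ (by decide +kernel), k 13 _ (by decide +kernel)⟩

theorem syl [Finite Γ] (φ : Sp →* Γ) (hφ : Function.Injective φ) (hc : ¬ 3 ^ 10 ∣ Nat.card Γ) :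
    ∃ T : Sylow 3 Γ, Md (T : Subgroup Γ) (ea (φ ∘ a)) := by
  have m := Pc.md (a := φ ∘ a) ⟨fun i hi => by rw [Function.comp, ← map_pow, pc.cb i hi, map_one], fun j hj i hi => by
    rw [← List.map_map, ← map_list_prod, Function.comp, Function.comp, ← map_mul, ← map_mul, pc.rw j hj i hi]⟩
    fun e => z_ne (hφ (e.trans φ.map_one.symm))
  refine ⟨(IsPGroup.of_card m.card).toSylow fun ⟨k, e⟩ => hc ⟨k, ?_⟩, m⟩
  rw [← card_mul_index (closure ((φ ∘ a) '' {i | i < 9})), m.card, e]; ring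

theorem card_sp : Nat.card Sp = 9170703360 := by
  rw [Cfsg.Agent.S0245.result (ZMod.card 3) 3]; decide

theorem d_eq : mv 100108864708400899 * mv 100108864708400899 = 1 ∧ (mv 100108864708400899)ᵀ = mv 100108864708400899 ∧
    mv 100108864708400899 * J (Fin 3) (ZMod 3) = -(J (Fin 3) (ZMod 3) * mv 100108864708400899) := by decide +kernel

theorem d_mem (g : Sp) : mv 100108864708400899 * g.1 * mv 100108864708400899 ∈ Sp := by
  obtain ⟨h1, h2, h3⟩ := d_eq
  generalize mv 100108864708400899 = D at h1 h2 h3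
  rw [SymplecticGroup.mem_iff, transpose_mul, transpose_mul, h2]
  calc _ = D * (g.1 * (D * J (Fin 3) (ZMod 3) * D) * g.1ᵀ) * D := by simp only [mul_assoc]
    _ = -(D * (g.1 * J (Fin 3) (ZMod 3) * g.1ᵀ) * D) := by rw [h3, neg_mul, mul_assoc _ D D, h1]; simp
    _ = _ := by rw [SymplecticGroup.mem_iff.1 g.2, h3, neg_mul, neg_neg, mul_assoc, h1, mul_one]

theorem d_d (X : Mx) : mv 100108864708400899 * (mv 100108864708400899 * X * mv 100108864708400899) *
    mv 100108864708400899 = X := by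
  rw [← mul_assoc, ← mul_assoc, d_eq.1, one_mul, mul_assoc, d_eq.1, mul_one]

/-- the diagonal automorphism -/
noncomputable def δ : MulAut Sp where
  toFun g := ⟨_, d_mem g⟩
  invFun g := ⟨_, d_mem g⟩
  left_inv g := Subtype.ext (d_d _)
  right_inv g := Subtype.ext (d_d _)
  map_mul' g h := Subtype.ext (by
    show _ * (g.1 * h.1) * _ = _ * g.1 * _ * (_ * h.1 * _)
    simp only [mul_assoc]
    rw [← mul_assoc (mv _) (mv _), d_eq.1, one_mul])

end SP
open SP

theorem exists_sp : ∃ (G₀ : Type) (_ : Group G₀) (_ : Finite G₀) (T : Sylow 3 G₀) (el : ℕ → G₀),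
    Md (T : Subgroup G₀) el ∧ Gn el false ∧ Nd (T : Subgroup G₀) el := by
  obtain ⟨T, m⟩ := syl (MonoidHom.id Sp) Function.injective_id (by rw [card_sp]; decide)
  refine ⟨Sp, inferInstance, inferInstance, T, _, m, gn _ m, fun g hg => ?_⟩
  have z : ea (MonoidHom.id Sp ∘ a) (enc 1) = a 8 := ea_gen _ 8 (by norm_num)
  have e := m.ceQ (H := LS) (A := [6561, 2187, 729, 243, 81, 27, 9, 3]) (B := LZ) (L := LS) (by decide +kernel)
  rw [m.top T.isPGroup'] at e
  have hz : ea (MonoidHom.id Sp ∘ a) (enc 1) ∈ (T : Subgroup Sp) ⊓ 𝐂((T : Subgroup Sp)) :=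
    e ▸ mem_gp (List.mem_singleton_self _)
  obtain ⟨t, -, c, d⟩ := m.allG (L := LZ) (f := fun t => anyL (Nat.beq t) [0, enc 1, mu (enc 1) (enc 1)])
    (by decide +kernel) (by decide +kernel)
    (e ▸ mem_inf.2 ⟨conj_mem hg hz.1, conj_mem (norm_cent le_rfl hg) hz.2⟩)
  simp only [anyL_iff, Nat.beq_eq, List.mem_cons, List.not_mem_nil, or_false, exists_eq_right'] at c
  rcases c with rfl | rfl | rfl
  · rw [m.one, z, conj_eq_one_iff] at d
    exact absurd d z_ne
  · exact d
  · rw [m.mul (val_enc _) (val_enc _), z] at d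
    exact absurd d (z_nc g)

theorem exists_gsp : ∃ (G₀ : Type) (_ : Group G₀) (_ : Finite G₀) (T : Sylow 3 G₀) (el : ℕ → G₀),
    Md (T : Subgroup G₀) el ∧ Gn el false ∧ Dl el := by
  have : Finite (Sp ⋊[(zpowers δ).subtype] zpowers δ) := .of_equiv _ SemidirectProduct.equivProd.symm
  obtain ⟨T, m⟩ := syl (Γ := Sp ⋊[(zpowers δ).subtype] zpowers δ) SemidirectProduct.inl
    SemidirectProduct.inl_injective (by
      have : orderOf δ ∣ 2 := orderOf_dvd_of_pow_eq_one (MulEquiv.ext fun g => Subtype.ext (d_d _))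
      rw [SemidirectProduct.card, card_sp, Nat.card_zpowers]
      exact fun h => absurd (h.trans (Nat.mul_dvd_mul_left _ this)) (by decide))
  refine ⟨_, inferInstance, this, T, _, m, gn _ m, SemidirectProduct.inr ⟨δ, mem_zpowers δ⟩,
    ac_of m (c := 100108864708400899) (by decide +kernel) fun i L h => ?_⟩
  rw [← List.map_map, ← map_list_prod, ← map_inv, Function.comp, ← SemidirectProduct.inl_aut]
  refine congrArg _ (Subtype.ext ?_)
  show mv 100108864708400899 * (a i).1 * mv 100108864708400899 = _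
  rw [h, mul_assoc, d_eq.1, mul_one]

end H18.CO
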