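import Mathlib
import Cfsg.Agent.Base
import Cfsg.Agent.Lib.CO3.LS

set_option autoImplicit false
set_option maxRecDepth 100000

namespace H18.CO

open Subgroup H54 H2 H90 H91 H93.R3 H18.TH Cfsg Cfsg.FusionSystem
open scoped commutatorElement Pointwise

local notation:max "𝐍(" A ")" => Subgroup.normalizer (SetLike.coe A)
local notation:max "𝐂(" A ")" => Subgroup.centralizer (SetLike.coe A)

universe u v

variable {Γ : Type u} [Group Γ] [Finite Γ] {Γ' : Type v} [Group Γ'] [Finite Γ'] {S E : Subgroup Γ}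
  {S' : Subgroup Γ'} {el : ℕ → Γ} {el' : ℕ → Γ'} {g : Γ} {b : Bool}

theorem TT.sec {K : Subgroup Γ} {s y z : Γ} (hs : s ∈ 𝐍(K)) (h1 : y * z ∈ K) (h2 : ⁅s, z⁻¹⁆ ∈ K) :
    s * y * s⁻¹ * z ∈ K := by
  rw [show s * y * s⁻¹ * z = s * (y * z) * s⁻¹ * ⁅s, z⁻¹⁆ by rw [commutatorElement_def]; group]
  exact mul_mem (conj_mem hs h1) h2

/-- the sign of an element of `N(S)` on a section -/
theorem Md.tt_sec (m : Md S el) (pS : IsPGroup 3 S) {X K : List ℕ} {s y z : Γ} {n k : ℕ} (hs : s ∈ S)
    (hz : z ∈ G el X) (h1 : y * z ∈ G el K) (e : s * y * s⁻¹ = el (enc n)) (ez : z = el (enc k))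
    (c : band (H18.CO.cmB (em LS) (em X) (em K)) (band (H18.CO.nmB (em LS) (em K)) (band (H18.CO.lgB (em K))
      ((H18.CO.tb (em K)).nm (len (em K)) (mu (enc n) (enc k))))) = true) : False := by
  simp only [band_eq_true] at c
  rw [← m.top pS] at hs
  have := TT.sec (m.nmB (av_em _) (av_em _) c.2.1 hs) h1
    (comm_mem (m.cmB (av_em _) (av_em _) (av_em _) c.1) hs (inv_mem hz))
  rw [e, ez, ← m.mul (val_enc _) (val_enc _)] at this
  exact m.nmemB pS (av_em _) c.2.2.1 ((val_enc _).mu (val_enc _)) c.2.2.2 this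

theorem Md.tt_core (m : Md S el) (pS : IsPGroup 3 S) (t : Tw S el) {w x : Γ} (nS : 𝐍(S) ≤ 𝐍(E))
    (ls : 𝐍(E) ⊓ 𝐍(G el LP) ≤ 𝐍(S) ⊔ 𝐂(E)) (hA : G el LA ≤ E) (hE : E ≤ S) (hw : w ∈ 𝐍(E)) (hx : x ∈ S)
    (h1 : w * el (enc 243) * w⁻¹ * x⁻¹ ∈ G el LA) (h2 : w * x * w⁻¹ * el (enc 243) ∈ G el LA) :
    ∃ s ∈ S, ∃ g a b c, Ac el g (tau a b c) ∧ (∀ y ∈ E, s * (w * w * y * (w * w)⁻¹) * s⁻¹ = g * y * g⁻¹) ∧
      w * w * el (enc 243) * (w * w)⁻¹ * el (enc 243) ∈ G el LA ∧ w * w * x * (w * w)⁻¹ * x ∈ G el LA := by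
  have o := m.ok pS
  have wA := o.nA hA hE hw
  have k1 : w * w * el (enc 243) * (w * w)⁻¹ * el (enc 243) ∈ G el LA := by
    rw [show w * w * el (enc 243) * (w * w)⁻¹ * el (enc 243) =
      w * (w * el (enc 243) * w⁻¹ * x⁻¹) * w⁻¹ * (w * x * w⁻¹ * el (enc 243)) by group]
    exact mul_mem (conj_mem wA h1) h2
  have k2 : w * w * x * (w * w)⁻¹ * x ∈ G el LA := by
    rw [show w * w * x * (w * w)⁻¹ * x = w * (w * x * w⁻¹ * el (enc 243)) * w⁻¹ *
      (x⁻¹ * (w * el (enc 243) * w⁻¹ * x⁻¹) * x)⁻¹ by group]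
    exact mul_mem (conj_mem wA h2) (inv_mem (conj_mem' (o.sA hx) h1))
  have eP : G el LP = G el (243 :: LA) := le_antisymm (m.leB (av_em _) (av_em _) (by decide +kernel))
    (m.leB (av_em _) (av_em _) (by decide +kernel))
  have lA : G el LA ≤ G el (243 :: LA) := by rw [G_cons]; exact le_sup_left
  have wP : w * w ∈ 𝐍(G el LP) := by
    rw [eP]
    refine Md.norm_of fun y hy => ?_
    rcases List.mem_cons.1 (show y ∈ enc 243 :: em LA from hy) with rfl | h
    · exact mem_of_mul (lA k1) (mem_gp hy)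
    · exact lA (conj_mem (mul_mem wA wA) (mem_gp h))
  obtain ⟨n, hn, c, hc, e⟩ := (mem_sup_iff' (nS.trans (norm_cent le_rfl))).1 (ls ⟨mul_mem hw hw, wP⟩)
  obtain ⟨s, hs, a, b, c', h⟩ := t n hn
  refine ⟨s, hs, _, a, b, c', h, fun y hy => ?_, k1, k2⟩
  calc _ = s * (n * (c * y * c⁻¹) * n⁻¹) * s⁻¹ := by rw [e]; group
    _ = _ := by rw [conj_eq hc hy]; group

theorem Md.ex_t3 (m : Md S el) (pS : IsPGroup 3 S) (hF : Sat S) (t : Tw S el) (h : Mv S (G el LE1)) :
    ∃ g, Ac el g (tau false true false) := by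
  obtain ⟨w, hw, hr, h1, h2⟩ := m.raw1 pS hF h
  have lA : G el LA ≤ G el LE1 := m.leB (av_em _) (av_em _) (by decide +kernel)
  have lP : G el LA ≤ G el LP := m.leB (av_em _) (av_em _) (by decide +kernel)
  obtain ⟨s, hs, g, a, b, c, hg, e, k1, k2⟩ := m.tt_core pS t (m.ok pS).nS1 (m.ls1 pS hF) lA (m.gp_le_S _) hw
    (m.mem _) h1 h2
  have mm : ∀ {x : ℕ} {L : List ℕ}, (H18.CO.tb (em L)).mem (enc x) = true → el (enc x) ∈ G el L :=
    fun c => m.memB (av_em _) (val_enc _) c
  have k3 : w * w * el (enc 729) * (w * w)⁻¹ * el (enc 1458) ∈ G el LH := by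
    have := (mem_rc.1 (mul_mem hr hr)).2 _ (mm (x := 729) (by decide +kernel))
    rwa [commutatorElement_def, ← m.iv (val_enc _), show H18.CO.iv (enc 729) = enc 1458 by decide +kernel] at this
  obtain rfl : b = true := by
    cases b
    · exact (m.tt_sec pS (X := LS) hs (mm (by decide +kernel)) (lP k2) ((e _ (mm (by decide +kernel))).trans
        (hg.get (y := 2187) (by cases a <;> cases c <;> decide) (by decide))) rfl (by decide +kernel)).elim
    · rfl
  obtain rfl : a = false := by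
    cases a
    · rfl
    · exact (m.tt_sec pS (X := LP) hs (mm (by decide +kernel)) k1 ((e _ (mm (by decide +kernel))).trans
        (hg.get (y := 243) (by cases c <;> decide) (by decide))) rfl (by decide +kernel)).elim
  obtain rfl : c = false := by
    cases c
    · rfl
    · exact (m.tt_sec pS (X := LA) hs (mm (by decide +kernel)) k3 ((e _ (mm (by decide +kernel))).trans
        (hg.get (y := 1458) (by decide) (by decide))) rfl (by decide +kernel)).elim
  exact ⟨g, hg⟩

theorem Md.ex_t1 (m : Md S el) (pS : IsPGroup 3 S) (hF : Sat S) (t : Tw S el) (h : Mv S (G el LE2)) :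
    ∃ g, Ac el g (tau true false false) := by
  obtain ⟨w, hw, hr, h1, h2⟩ := m.raw2 pS hF h
  have lA : G el LA ≤ G el LE2 := m.leB (av_em _) (av_em _) (by decide +kernel)
  have lP : G el LA ≤ G el LP := m.leB (av_em _) (av_em _) (by decide +kernel)
  obtain ⟨s, hs, g, a, b, c, hg, e, k1, k2⟩ := m.tt_core pS t (m.ok pS).nS2 (m.ls2 pS hF) lA (m.gp_le_S _) hw
    (m.mem _) h1 h2
  have mm : ∀ {x : ℕ} {L : List ℕ}, (H18.CO.tb (em L)).mem (enc x) = true → el (enc x) ∈ G el L :=
    fun c => m.memB (av_em _) (val_enc _) c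
  have k3 : w * w * el (enc 1) * (w * w)⁻¹ * el (enc 2) ∈ G el [] := by
    rw [conj_eq (mul_mem hr hr) (mm (x := 1) (by decide +kernel)), ← m.mul (val_enc _) (val_enc _),
      show mu (enc 1) (enc 2) = 0 by decide +kernel, m.one]
    exact one_mem _
  obtain rfl : a = true := by
    cases a
    · exact (m.tt_sec pS (X := LS) hs (mm (by decide +kernel)) (lP k2) ((e _ (mm (by decide +kernel))).trans
        (hg.get (y := 6561) (by cases b <;> cases c <;> decide) (by decide))) rfl (by decide +kernel)).elim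
    · rfl
  obtain rfl : b = false := by
    cases b
    · rfl
    · exact (m.tt_sec pS (X := LP) hs (mm (by decide +kernel)) k1 ((e _ (mm (by decide +kernel))).trans
        (hg.get (y := 243) (by cases c <;> decide) (by decide))) rfl (by decide +kernel)).elim
  obtain rfl : c = false := by
    cases c
    · rfl
    · exact (m.tt_sec pS (X := LZ) hs (mm (by decide +kernel)) k3 ((e _ (mm (by decide +kernel))).trans
        (hg.get (y := 2) (by decide) (by decide))) rfl (by decide +kernel)).elim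
  exact ⟨g, hg⟩

/-- the lists of the eigenvectors -/
def egL (i j : Bool) : List ℕ :=
  cond i (cond j [0, 27, 54, 243, 272, 298, 486, 514, 542] [0, 3, 6, 6561, 6566, 6568, 13122, 13126, 13130])
    (cond j [0, 81, 162, 2187, 2286, 2358, 4374, 4464, 4554]
      [0, 1, 2, 9, 10, 11, 18, 19, 20, 729, 730, 731, 738, 739, 740, 747, 748, 749, 1458, 1459, 1460,
        1467, 1468, 1469, 1476, 1477, 1478])

noncomputable def egB (n : ℕ) : Bool :=
  force (enc n) fun c => force (iv c) fun d => force (eb (tau true false false) n) fun a =>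
    band (band (dm (tau true false false) n) (dm (tau false true false) n))
      (bimp (bor (Nat.beq a c) (Nat.beq a d)) (force (eb (tau false true false) n) fun b =>
        allL (fun i => allL (fun j => bimp (Nat.beq a (cond i d c)) (bimp (Nat.beq b (cond j d c))
          (anyL (Nat.beq n) (egL i j)))) [false, true]) [false, true]))

theorem TT.chk1 : allLt egB 6561 = true := by decide +kernel
theorem TT.chk2 : allLt (fun n => egB (Nat.add 6561 n)) 6561 = true := by decide +kernel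
theorem TT.chk3 : allLt (fun n => egB (Nat.add 13122 n)) 6561 = true := by decide +kernel

theorem TT.chk {n : ℕ} (h : n < 19683) : egB n = true := by
  by_cases h1 : n < 6561
  · exact (allLt_iff _ _).1 TT.chk1 n h1
  by_cases h2 : n < 13122
  · have := (allLt_iff _ _).1 TT.chk2 (n - 6561) (by omega)
    rwa [show Nat.add 6561 (n - 6561) = n from Nat.add_sub_cancel' (by omega)] at this
  · have := (allLt_iff _ _).1 TT.chk3 (n - 13122) (by omega)
    rwa [show Nat.add 13122 (n - 13122) = n from Nat.add_sub_cancel' (by omega)] at this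

/-- the elements of `S` inverted or centralised by the two involutions -/
theorem Md.eig (m : Md S el) {h k : Γ} (a : Ac el h (tau true false false))
    (c : Ac el k (tau false true false)) {y : Γ} (hy : y ∈ S) {i j : Bool}
    (e1 : h * y * h⁻¹ = cond i y⁻¹ y) (e2 : k * y * k⁻¹ = cond j y⁻¹ y) :
    ∃ n ∈ cond i (cond j [0, 27, 54, 243, 272, 298, 486, 514, 542] [0, 3, 6, 6561, 6566, 6568, 13122, 13126, 13130])
      (cond j [0, 81, 162, 2187, 2286, 2358, 4374, 4464, 4554]
        [0, 1, 2, 9, 10, 11, 18, 19, 20, 729, 730, 731, 738, 739, 740, 747, 748, 749, 1458, 1459, 1460,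
          1467, 1468, 1469, 1476, 1477, 1478]), y = el (enc n) := by
  obtain ⟨x, v, rfl⟩ := m.sur y hy
  obtain ⟨n, hn, rfl⟩ := v.ex
  have k := TT.chk hn
  simp only [egB, force_eq, band_eq_true, bimp_eq_true, bor_eq_true, allL_iff, anyL_iff, Nat.beq_eq] at k
  have q : ∀ {x : ℕ} {i : Bool}, Val x → el x = cond i (el (enc n))⁻¹ (el (enc n)) →
      x = cond i (H18.CO.iv (enc n)) (enc n) := fun {x i} vx e => by
    cases i
    exacts [m.inj vx v e, m.inj vx v.iv.1 (e.trans (m.iv v).symm)]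
  have a1 := q (val_eb _ _) ((m.ap a k.1.1).symm.trans e1)
  have a2 := q (val_eb _ _) ((m.ap c k.1.2).symm.trans e2)
  obtain ⟨n', h', rfl⟩ := k.2 (by cases i; exacts [.inl a1, .inr a1]) i (by cases i <;> simp) j
    (by cases j <;> simp) a1 a2
  exact ⟨n, h', rfl⟩

end H18.CO
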