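import Mathlib
import Cfsg.Agent.Base
import Cfsg.Agent.Lib.CO3.TT
import Cfsg.Agent.Lib.CO3.GI
import Cfsg.Agent.Lib.CO3.PC
import Cfsg.Agent.Lib.CO3.WD

set_option autoImplicit false
set_option maxRecDepth 100000

namespace H18.CO

open Subgroup H54 H2 H90 H91 H93.R3 H18.TH Cfsg Cfsg.FusionSystem
open scoped commutatorElement Pointwise

local notation:max "𝐍(" A ")" => Subgroup.normalizer (SetLike.coe A)
local notation:max "𝐂(" A ")" => Subgroup.centralizer (SetLike.coe A)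

universe u v

variable {Γ : Type u} [Group Γ] [Finite Γ] {Γ' : Type v} [Group Γ'] [Finite Γ'] {S E : Subgroup Γ}
  {S' : Subgroup Γ'} {el : ℕ → Γ} {el' : ℕ → Γ'} {g : Γ} {b : Bool}

/-- the images of all generators of `E₁` from those of `x23`, `x13`, `e33` (codes) -/
noncomputable def w1fl (a b c : ℕ) : List ℕ :=
  [0, dec a, dec c, dec b, dec (mu (cm a c) (cm a (cm a c))), dec (mu (cm b c) (cm b (cm b c))),
    dec (iv (cm a (cm a c))), dec (cm b (mu (cm a c) (cm a (cm a c)))), dec (iv (cm b (cm b c)))]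

def w1n (n : ℕ) : List ℕ := [0, 486, n, 2187, 54, 81, 1, 6, 9]

def w1s (k : ℕ) : List ℕ := [6561, 2187, 729 + k, 243, 81, 27, 9, 3, 1]

def w1L : List ℕ := [729, 730, 731, 738, 739, 740, 747, 748, 749]

/-- the check for the transfer of an action to the twisted enumeration -/
noncomputable def w1tr (T N M : List ℕ) : Bool :=
  allL (fun p : ℕ × ℕ => bor (Nat.beq p.2 0) (band (dm N (dec (eb T (dec (enc p.1)))))
    (Nat.beq (eb N (dec (eb T (dec (enc p.1))))) (eb T (dec (enc p.2)))))) (LS.zip M)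

omit [Finite Γ] in
theorem w1_pos {A : Subgroup Γ} {w h k x y : Γ} (hw : w * h * w⁻¹ ∈ 𝐍(A)) (e : w * y * w⁻¹ * x⁻¹ ∈ A)
    (e1 : h * y * h⁻¹ = y) (e2 : k * x * k⁻¹ = x) : ⁅w * h * w⁻¹ * k⁻¹, x⁆ ∈ A := by
  have e3 : k⁻¹ * x * k = x := by
    conv_lhs => rw [← e2]
    group
  have := mul_mem (inv_mem (conj_mem hw e)) e
  convert this using 1
  calc _ = w * h * w⁻¹ * (k⁻¹ * x * k) * (w * h * w⁻¹)⁻¹ * x⁻¹ := by rw [commutatorElement_def]; group
    _ = w * h * w⁻¹ * x * w * (y⁻¹ * h⁻¹ * (h * y * h⁻¹)) * w⁻¹ * x⁻¹ := by rw [e3]; group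
    _ = _ := by rw [e1]; group

omit [Finite Γ] in
theorem w1_neg {A : Subgroup Γ} {w h k x y : Γ} (hw : w * h * w⁻¹ ∈ 𝐍(A)) (hx : x ∈ 𝐍(A))
    (e : w * y * w⁻¹ * x⁻¹ ∈ A) (e1 : h * y * h⁻¹ = y⁻¹) (e2 : k * x * k⁻¹ = x⁻¹) :
    ⁅w * h * w⁻¹ * k⁻¹, x⁆ ∈ A := by
  have e3 : k⁻¹ * x * k = x⁻¹ := by
    conv_lhs => rw [← inv_inv x, ← e2]
    group
  have := mul_mem e (conj_mem hx (conj_mem hw e))
  convert this using 1
  calc _ = w * h * w⁻¹ * (k⁻¹ * x * k) * (w * h * w⁻¹)⁻¹ * x⁻¹ := by rw [commutatorElement_def]; group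
    _ = w * (y * y⁻¹) * h * w⁻¹ * x⁻¹ * (w * h * w⁻¹)⁻¹ * x⁻¹ := by rw [e3]; group
    _ = _ := by rw [← e1]; group

omit [Finite Γ] in
theorem w1_inv {h x y : Γ} (e : h * x * h⁻¹ = y) : h * x⁻¹ * h⁻¹ = y⁻¹ := by rw [← e]; group

omit [Finite Γ] in
/-- eigenvalues of a conjugate -/
theorem w1_eig {w h₁ h₃ x : Γ} (hw : w ∈ 𝐍(E)) (hx : x ∈ E) (d1 : w * h₁ * w⁻¹ * (h₁ * h₃)⁻¹ ∈ 𝐂(E))
    (d3 : w * h₃ * w⁻¹ * h₃⁻¹ ∈ 𝐂(E)) {i j : Bool} (e1 : h₁ * x * h₁⁻¹ = cond i x⁻¹ x)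
    (e3 : h₃ * x * h₃⁻¹ = cond j x⁻¹ x) :
    h₁ * (w * x * w⁻¹) * h₁⁻¹ = cond (xor i j) (w * x * w⁻¹)⁻¹ (w * x * w⁻¹) ∧
      h₃ * (w * x * w⁻¹) * h₃⁻¹ = cond j (w * x * w⁻¹)⁻¹ (w * x * w⁻¹) := by
  have hy := conj_mem hw hx
  have key : ∀ {h k : Γ} {i : Bool}, w * h * w⁻¹ * k⁻¹ ∈ 𝐂(E) → h * x * h⁻¹ = cond i x⁻¹ x →
      k * (w * x * w⁻¹) * k⁻¹ = cond i (w * x * w⁻¹)⁻¹ (w * x * w⁻¹) := fun {h k i} d e => by
    have m : cond i (w * x * w⁻¹)⁻¹ (w * x * w⁻¹) ∈ E := by cases i; exacts [hy, inv_mem hy]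
    rw [← conj_eq (inv_mem d) m]
    have : cond i (w * x * w⁻¹)⁻¹ (w * x * w⁻¹) = w * (h * x * h⁻¹) * w⁻¹ := by
      rw [e]; cases i <;> simp only [cond_true, cond_false] <;> group
    rw [this]; group
  have a := key d1 e1
  have c := key d3 e3
  refine ⟨?_, c⟩
  generalize w * x * w⁻¹ = y at a c
  have a' : h₁ * (h₃ * y * h₃⁻¹) * h₁⁻¹ = cond i y⁻¹ y := by rw [← a]; group
  rw [c] at a'
  cases j
  · simpa using a'
  · have := w1_inv a'
    cases i <;> simpa using this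

theorem w1_chk : allL (fun a => allL (fun b => allL (fun c => bor (nb (co (enc a) (enc b)))
    (anyL (fun k => anyL (fun n => eqL (cn0 k (w1fl (enc a) (enc b) (enc c))) (w1n n)) w1L) [0, 729, 1458]))
    w1L) [2187, 2286, 2358]) [486, 514, 542] = true := by
  decide +kernel

namespace Md
variable (m : Md S el)
include m

omit [Finite Γ] in
theorem w1_fl {a b c : ℕ} (va : Val a) (vb : Val b) (vc : Val c) (ea : g * el (enc 2187) * g⁻¹ = el a)
    (eb : g * el (enc 243) * g⁻¹ = el b) (ec : g * el (enc 729) * g⁻¹ = el c) : Ac el g (w1fl a b c) := by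
  let P : ℕ → ℕ → Prop := fun x y => Val x ∧ Val y ∧ g * el x * g⁻¹ = el y
  have pc : ∀ {x y x' y'}, P x y → P x' y' → P (H18.CO.cm x x') (H18.CO.cm y y') := fun h k =>
    ⟨h.1.cm k.1, h.2.1.cm k.2.1, by rw [m.cm h.1 k.1, m.cm h.2.1 k.2.1, conj_comm, h.2.2, k.2.2]⟩
  have pm : ∀ {x y x' y'}, P x y → P x' y' → P (mu x x') (mu y y') := fun h k =>
    ⟨h.1.mu k.1, h.2.1.mu k.2.1, by rw [m.mul h.1 k.1, m.mul h.2.1 k.2.1, ← conj_mul, h.2.2, k.2.2]⟩
  have pi : ∀ {x y}, P x y → P (H18.CO.iv x) (H18.CO.iv y) := fun h =>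
    ⟨h.1.iv.1, h.2.1.iv.1, by rw [m.iv h.1, m.iv h.2.1, w1_inv h.2.2]⟩
  have fin : ∀ {x y n}, P x y → Nat.beq x (enc n) = true →
      dec y = 0 ∨ g * el (enc n) * g⁻¹ = el (enc (dec y)) := fun h e =>
    Or.inr (by rw [h.2.1.enc_dec.1, ← Nat.eq_of_beq_eq_true e, h.2.2])
  have pa : P (enc 2187) a := ⟨val_enc _, va, ea⟩
  have pb : P (enc 243) b := ⟨val_enc _, vb, eb⟩
  have pc' : P (enc 729) c := ⟨val_enc _, vc, ec⟩
  exact .cons (Or.inl rfl) (.cons (fin pa (Nat.beq_refl _)) (.cons (fin pc' (Nat.beq_refl _))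
    (.cons (fin pb (Nat.beq_refl _))
    (.cons (fin (pm (pc pa pc') (pc pa (pc pa pc'))) (by decide +kernel))
    (.cons (fin (pm (pc pb pc') (pc pb (pc pb pc'))) (by decide +kernel))
    (.cons (fin (pi (pc pa (pc pa pc'))) (by decide +kernel))
    (.cons (fin (pc pb (pm (pc pa pc') (pc pa (pc pa pc')))) (by decide +kernel))
    (.cons (fin (pi (pc pb (pc pb pc'))) (by decide +kernel)) .nil))))))))

omit [Finite Γ] in
theorem w1_tr {T N M : List ℕ} (a : Ac el g N) (e : w1tr T N M = true) (l : LS.length = M.length) :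
    Ac (fun x => el (eb T (dec x))) g M := by
  refine List.forall₂_iff_zip.2 ⟨l, fun {x y} h => ?_⟩
  have := (allL_iff _ _).1 e _ h
  simp only [bor_eq_true, band_eq_true, Nat.beq_eq] at this
  refine this.imp_right fun k => ?_
  have c := m.ap a k.1
  rwa [(val_eb _ _).enc_dec.1, k.2] at c

omit [Finite Γ] in
theorem w1_cent (a : Ac el g LS) : g ∈ 𝐂(G el LE1) :=
  cent_symm (A := G el LE1) (X := zpowers g) (gp_le.2 fun y hy => mem_cent_zpowers.2 (by
    have k : ∀ x, (x, x) ∈ LS.zip LS → x ≠ 0 → ⁅el (enc x), g⁆ = 1 := fun x b c => by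
      rw [commutatorElement_eq_one_iff_mul_comm]
      exact (mul_inv_eq_iff_eq_mul.1 (a.get b c)).symm
    simp only [LE1, em, List.mem_cons, List.not_mem_nil, or_false] at hy
    rcases hy with rfl | rfl | rfl | rfl | rfl | rfl | rfl | rfl <;> exact k _ (by decide) (by decide)))
    (mem_zpowers g)

theorem w1_rc {M : List ℕ} (a : Ac el g M) (h : (729, 729) ∈ LS.zip M)
    (e : allL (fun n => band (dm M n) ((H18.CO.tb (em LH)).mem (eb M n))) LH = true) :
    g ∈ relCentralizer (G el LA) (G el LH) := by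
  have n := m.ac_norm a e
  refine mem_rc.2 ⟨n, comm_gp (m.nmB (av_em _) (av_em _) (by decide +kernel)) fun x hx => ?_⟩
  rcases List.mem_cons.1 (show x ∈ enc 729 :: em LH from hx) with rfl | hx
  · rw [commutatorElement_def, a.get h (by decide), mul_inv_cancel]
    exact one_mem _
  · exact comm_mem_r n (mem_gp hx)

variable [Fact (Nat.Prime 3)] (pS : IsPGroup 3 S)
include pS

theorem w1_flt {L L' K : List ℕ} {n z : ℕ} (vz : Val z) (l : H18.CO.lgB (em K) = true)
    (e : allL (fun n => bor ((H18.CO.tb (em K)).nm (len (em K)) (mu (enc n) z)) (anyL (Nat.beq n) L')) L = true)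
    (hn : n ∈ L) (h : el (enc n) * el z ∈ G el K) : n ∈ L' := by
  rcases (bor_eq_true _ _).1 ((allL_iff _ _).1 e n hn) with c | c
  · exact absurd (m.mul (val_enc n) vz ▸ h) (m.nmemB pS (av_em _) l ((val_enc n).mu vz) c)
  · obtain ⟨a, ha, c⟩ := (anyL_iff _ _).1 c
    exact Nat.eq_of_beq_eq_true c ▸ ha

theorem w1_G {T L : List ℕ} (m₁ : Md S fun x => el (eb T (dec x))) (l : H18.CO.lgB (em L) = true)
    (e : allL (fun x => (H18.CO.tb (em L)).mem (eb T (dec x))) (em L) = true) :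
    G (fun x => el (eb T (dec x))) L = G el L :=
  eq_of_lg (pS.to_le (m.gp_le_S _))
    (gp_le.2 fun x hx => m.memB (av_em _) (val_eb _ _) ((allL_iff _ _).1 e x hx))
    ((m.lgG pS l).trans (m₁.lgG pS l).symm).le

/-- the involutions are normalised -/
theorem w1_gi (hF : Sat S) (h : Mv S (G el LE1)) {h₁ h₃ : Γ} (t1 : Ac el h₁ (tau true false false))
    (t3 : Ac el h₃ (tau false true false)) :
    ∃ w ∈ 𝐍(G el LE1), w ∈ relCentralizer (G el LA) (G el LH) ∧
      w * el (enc 243) * w⁻¹ * (el (enc 2187))⁻¹ ∈ G el LA ∧ w * el (enc 2187) * w⁻¹ * el (enc 243) ∈ G el LA ∧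
      w * h₁ * w⁻¹ * (h₁ * h₃)⁻¹ ∈ 𝐂(G el LE1) ∧ w * h₃ * w⁻¹ * h₃⁻¹ ∈ 𝐂(G el LE1) := by
  obtain ⟨w, hw, r, e1, e2⟩ := m.raw1 pS hF h
  have o := m.ok pS
  have lE : G el LE1 ≤ S := m.gp_le_S _
  have lA : G el LA ≤ G el LE1 := m.leB (av_em _) (av_em _) (by decide +kernel)
  have nA : 𝐍(G el LE1) ≤ 𝐍(G el LA) := o.nA lA lE
  have sE : S ≤ 𝐍(G el LE1) := m.top pS ▸ m.nmB (av_em LS) (av_em _) (by decide +kernel)
  have n1 : h₁ ∈ 𝐍(G el LE1) := m.ac_norm t1 (by decide +kernel)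
  have n3 : h₃ ∈ 𝐍(G el LE1) := m.ac_norm t3 (by decide +kernel)
  have r1 := m.w1_rc t1 (by decide) (by decide +kernel)
  have r3 := m.w1_rc t3 (by decide) (by decide +kernel)
  have t13 := m.ac_mul t1 t3 (by decide +kernel)
  rw [(eqL_iff (cp _ _) (tau true true false)).1 (by decide +kernel)] at t13
  have sq : ∀ {k M}, Ac el k M → allL (dm M) M = true → eqL (cp M M) LS = true → k ^ 2 ∈ 𝐂(G el LE1) :=
    fun a d e => pow_two (M := Γ) _ ▸ m.w1_cent ((eqL_iff _ _).1 e ▸ m.ac_mul a a d)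
  have b1 := sq t1 (by decide +kernel) (by decide +kernel)
  have b3 := sq t3 (by decide +kernel) (by decide +kernel)
  have b13 := sq t13 (by decide +kernel) (by decide +kernel)
  have bc : ⁅h₁, h₃⁆ ∈ 𝐂(G el LE1) := by
    have := mul_mem (mul_mem b13 (conj_mem' (norm_cent le_rfl n3) (inv_mem b1))) (inv_mem b3)
    convert this using 1
    simp only [commutatorElement_def, pow_two]
    group
  have i1 : el (enc 4374) = (el (enc 2187))⁻¹ := by
    rw [← m.iv (val_enc _), show H18.CO.iv (enc 2187) = enc 4374 by decide +kernel]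
  have i2 : el (enc 486) = (el (enc 243))⁻¹ := by
    rw [← m.iv (val_enc _), show H18.CO.iv (enc 243) = enc 486 by decide +kernel]
  have x1 : el (enc 2187) ∈ 𝐍(G el LA) := o.sA (m.mem _)
  have x2 : el (enc 243) ∈ 𝐍(G el LA) := o.sA (m.mem _)
  have e2' : w * (el (enc 2187))⁻¹ * w⁻¹ * (el (enc 243))⁻¹ ∈ G el LA := by
    convert inv_mem (conj_mem x2 e2) using 1
    group
  have rd : ∀ {q}, q ∈ 𝐍(G el LE1) → q ∈ relCentralizer (G el LA) (G el LH) → ⁅q, el (enc 2187)⁆ ∈ G el LA →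
      ⁅q, el (enc 243)⁆ ∈ G el LA → q ∈ G el LE1 ⊔ 𝐂(G el LE1) := fun {q} a c d e => by
    refine rad pS hF (fn_of_norm lE sE) ?_ h (X := fun i => [G el LE1, G el LA].getD i (G el LH)) (k := 2) rfl ?_
      o.ph1.ge ?_ a ?_
    · rw [inf_eq_left.2 sE, m.lgG pS (L := LE1) (by decide +kernel), ← m.top pS,
        m.lgG pS (L := LS) (by decide +kernel)]
      rfl
    · intro i hi
      interval_cases i
      · exact lA
      · exact m.leB (av_em _) (av_em _) (by decide +kernel)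
    · intro i hi
      interval_cases i
      · exact le_rfl
      · exact nA
    · intro i hi
      interval_cases i
      · refine comm_gp (lE.trans o.sA) fun x hx => ?_
        have k : ∀ n, (H18.CO.tb (em LA)).mem (enc n) = true → ⁅q, el (enc n)⁆ ∈ G el LA := fun n c =>
          comm_mem_r (nA a) (m.memB (av_em _) (val_enc _) c)
        simp only [LE1, em, List.mem_cons, List.not_mem_nil, or_false] at hx
        rcases hx with rfl | rfl | rfl | rfl | rfl | rfl | rfl | rfl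
        exacts [d, k _ (by decide +kernel), e, k _ (by decide +kernel), k _ (by decide +kernel),
          k _ (by decide +kernel), k _ (by decide +kernel), k _ (by decide +kernel)]
      · exact (mem_rc.1 c).2
  have w1 := nA (mul_mem (mul_mem hw n1) (inv_mem hw))
  have w3 := nA (mul_mem (mul_mem hw n3) (inv_mem hw))
  have d1 := rd (mul_mem (mul_mem (mul_mem hw n1) (inv_mem hw)) (inv_mem (mul_mem n1 n3)))
    (mul_mem (mul_mem (mul_mem r r1) (inv_mem r)) (inv_mem (mul_mem r1 r3)))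
    (w1_neg w1 x1 e1 ((t1.get (y := 486) (by decide) (by decide)).trans i2)
      ((t13.get (y := 4374) (by decide) (by decide)).trans i1))
    (w1_pos w1 e2' (w1_inv (t1.get (by decide) (by decide))) (t13.get (by decide) (by decide)))
  have d3 := rd (mul_mem (mul_mem (mul_mem hw n3) (inv_mem hw)) (inv_mem n3))
    (mul_mem (mul_mem (mul_mem r r3) (inv_mem r)) (inv_mem r3))
    (w1_neg w3 x1 e1 ((t3.get (y := 486) (by decide) (by decide)).trans i2)
      ((t3.get (y := 4374) (by decide) (by decide)).trans i1))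
    (w1_neg w3 x2 e2' (w1_inv ((t3.get (y := 4374) (by decide) (by decide)).trans i1))
      ((t3.get (y := 486) (by decide) (by decide)).trans i2))
  obtain ⟨e, he, c1, c3⟩ := gi (pS.to_le lE) n1 n3 (mul_mem n1 n3) n3 hw b1 b3 bc b13 b3
    (by convert bc using 1; simp only [commutatorElement_def]; group) d1 d3
  have cE : ⁅G el LE1, G el LE1⁆ ≤ G el LA := m.cmB (av_em _) (av_em _) (av_em _) (by decide +kernel)
  have y1 : el (enc 2187) ∈ G el LE1 := m.memB (av_em _) (val_enc _) (by decide +kernel)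
  have y2 : el (enc 243) ∈ G el LE1 := m.memB (av_em _) (val_enc _) (by decide +kernel)
  refine ⟨e * w, mul_mem (le_normalizer he) hw, mul_mem (le_rc (m.nmB (av_em _) (av_em _) (by decide +kernel))
    (m.cmB (av_em LE1) (av_em _) (av_em _) (by decide +kernel)) he) r, ?_, ?_, c1, c3⟩
  · convert mul_mem (comm_mem cE he (conj_mem hw y2)) e1 using 1
    rw [commutatorElement_def]; group
  · convert mul_mem (comm_mem cE he (conj_mem hw y1)) e2 using 1
    rw [commutatorElement_def]; group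

theorem w1_n (hF : Sat S) (h : Mv S (G el LE1)) {h₁ h₃ : Γ} (t1 : Ac el h₁ (tau true false false))
    (t3 : Ac el h₃ (tau false true false)) : ∃ n ∈ w1L, ∃ g, Ac el g (w1n n) := by
  obtain ⟨w, hw, r, e1, e2, d1, d3⟩ := m.w1_gi pS hF h t1 t3
  have lE : G el LE1 ≤ S := m.gp_le_S _
  have i1 : el (enc 4374) = (el (enc 2187))⁻¹ := by
    rw [← m.iv (val_enc _), show H18.CO.iv (enc 2187) = enc 4374 by decide +kernel]
  have i2 : el (enc 486) = (el (enc 243))⁻¹ := by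
    rw [← m.iv (val_enc _), show H18.CO.iv (enc 243) = enc 486 by decide +kernel]
  have y1 : el (enc 2187) ∈ G el LE1 := m.memB (av_em _) (val_enc _) (by decide +kernel)
  have y2 : el (enc 243) ∈ G el LE1 := m.memB (av_em _) (val_enc _) (by decide +kernel)
  have y3 : el (enc 729) ∈ G el LE1 := m.memB (av_em _) (val_enc _) (by decide +kernel)
  obtain ⟨a1, a3⟩ := w1_eig hw y1 d1 d3 (i := false) (j := true) (t1.get (by decide) (by decide))
    ((t3.get (y := 4374) (by decide) (by decide)).trans i1)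
  obtain ⟨b1, b3⟩ := w1_eig hw y2 d1 d3 (i := true) (j := true)
    ((t1.get (y := 486) (by decide) (by decide)).trans i2) ((t3.get (y := 486) (by decide) (by decide)).trans i2)
  obtain ⟨c1, c3⟩ := w1_eig hw y3 d1 d3 (i := false) (j := false) (t1.get (by decide) (by decide))
    (t3.get (by decide) (by decide))
  obtain ⟨a, ha, ea⟩ := m.eig t1 t3 (lE (conj_mem hw y1)) a1 a3
  obtain ⟨b, hb, eb⟩ := m.eig t1 t3 (lE (conj_mem hw y2)) b1 b3
  obtain ⟨c, hc, ec⟩ := m.eig t1 t3 (lE (conj_mem hw y3)) c1 c3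
  have ha' := m.w1_flt pS (K := LA) (L' := [486, 514, 542]) (val_enc 243) (by decide +kernel)
    (by decide +kernel) ha (ea ▸ e2)
  have hb' := m.w1_flt pS (K := LA) (L' := [2187, 2286, 2358]) (val_enc 4374) (by decide +kernel)
    (by decide +kernel) hb (eb ▸ i1 ▸ e1)
  have hc' := m.w1_flt pS (K := LH) (L' := w1L) (val_enc 729).iv.1 (by decide +kernel)
    (by decide +kernel) hc (by
      rw [← ec, m.iv (val_enc _)]
      exact (mem_rc.1 r).2 _ (mem_gp List.mem_cons_self))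
  have k := (allL_iff _ _).1 ((allL_iff _ _).1 ((allL_iff _ _).1 w1_chk a ha') b hb') c hc'
  have cm : H18.CO.co (enc a) (enc b) = true := by
    rw [m.co (val_enc _) (val_enc _), ← ea, ← eb, ← conj_comm,
      (m.co (val_enc _) (val_enc _)).1 (by decide +kernel), mul_one, mul_inv_cancel]
  rw [bor_eq_true, nb_eq, anyL_iff] at k
  obtain ⟨s, -, k⟩ := k.resolve_left (not_not.2 cm)
  obtain ⟨n, hn, k⟩ := (anyL_iff _ _).1 k
  exact ⟨n, hn, _, (eqL_iff _ _).1 k ▸ m.ac_cn s (m.w1_fl (val_enc _) (val_enc _) (val_enc _) ea eb ec)⟩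

theorem w1_tw (t : Tw S el) {h₁ h₃ : Γ} (t1 : Ac el h₁ (tau true false false))
    (t3 : Ac el h₃ (tau false true false)) {k n : ℕ} (a : Ac el g (w1n n)) (e : pcM (w1s k) = true)
    (e1 : ∀ a b c, w1tr (w1s k) (tau a b c) (tau a b c) = true) (e2 : w1tr (w1s k) (w1n n) w1 = true)
    (e4 : allL (fun x => (H18.CO.tb (em LE2)).mem (eb (w1s k) (dec x))) (em LE2) = true)
    (e5 : allL (fun x => (H18.CO.tb (em LE3)).mem (eb (w1s k) (dec x))) (em LE3) = true) :
    ∃ el₁, Md S el₁ ∧ Tw S el₁ ∧ (∃ g, Ac el₁ g (tau true false false)) ∧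
      (∃ g, Ac el₁ g (tau false true false)) ∧ (∃ g, Ac el₁ g w1) ∧
      G el₁ LE2 = G el LE2 ∧ G el₁ LE3 = G el LE3 :=
  ⟨_, m.tw e, fun g hg => by
    obtain ⟨s, hs, a, b, c, h⟩ := t g hg
    exact ⟨s, hs, a, b, c, m.w1_tr h (e1 a b c) rfl⟩, ⟨_, m.w1_tr t1 (e1 _ _ _) rfl⟩,
    ⟨_, m.w1_tr t3 (e1 _ _ _) rfl⟩, ⟨_, m.w1_tr a e2 rfl⟩, m.w1_G pS (m.tw e) (by decide +kernel) e4,
    m.w1_G pS (m.tw e) (by decide +kernel) e5⟩

theorem w1_k9 (hF : Sat S) {n : ℕ} (a : Ac el g (w1n n))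
    (d : allL (fun x => band (dm (w1n n) x) ((H18.CO.tb (em LA)).mem (eb (w1n n) x))) LA = true)
    (e : H18.CO.k9 (wdM (fun i => [mx12, w1n n].getD i []) [0, 1]) 2 = true)
    (e' : eqL (wdM (fun i => [mx12, w1n n].getD i []) [0, 1]) [] = false) : False := by
  have o := m.ok pS
  have := m.ac_wd (Ls := fun i => [mx12, w1n n].getD i []) (x := fun i => [el (enc 6561), g].getD i 1)
    (w := [0, 1]) (fun i hi => by
      simp only [List.mem_cons, List.not_mem_nil, or_false] at hi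
      rcases hi with rfl | rfl
      exacts [m.ac_x12, a]) fun c => by rw [(eqL_iff _ _).2 c] at e'; cases e'
  exact m.k9 (e9 pS hF (m.gp_le_S _) o.sA fun s hs => o.eaA.comm (o.s3 s hs))
    (mul_mem (o.sA (m.mem _)) (mul_mem (m.ac_norm a d) (one_mem _))) this e

end Md

theorem Md.exists_w1 (m : Md S el) (pS : IsPGroup 3 S) (hF : Sat S) (t : Tw S el) (h : Mv S (G el LE1))
    (t1 : ∃ g, Ac el g (tau true false false)) (t3 : ∃ g, Ac el g (tau false true false)) :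
    ∃ el₁, Md S el₁ ∧ Tw S el₁ ∧ (∃ g, Ac el₁ g (tau true false false)) ∧
      (∃ g, Ac el₁ g (tau false true false)) ∧ (∃ g, Ac el₁ g w1) ∧
      G el₁ LE2 = G el LE2 ∧ G el₁ LE3 = G el LE3 := by
  haveI : Fact (Nat.Prime 3) := ⟨Nat.prime_three⟩
  obtain ⟨h₁, t1⟩ := t1
  obtain ⟨h₃, t3⟩ := t3
  obtain ⟨n, hn, g, a⟩ := m.w1_n pS hF h t1 t3
  simp only [w1L, List.mem_cons, List.not_mem_nil, or_false] at hn
  rcases hn with rfl | rfl | rfl | rfl | rfl | rfl | rfl | rfl | rfl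
  · exact ⟨el, m, t, ⟨_, t1⟩, ⟨_, t3⟩, ⟨_, a⟩, rfl, rfl⟩
  · exact (m.w1_k9 pS hF a (by decide +kernel) (by decide +kernel) (by decide +kernel)).elim
  · exact (m.w1_k9 pS hF a (by decide +kernel) (by decide +kernel) (by decide +kernel)).elim
  · exact (m.w1_k9 pS hF a (by decide +kernel) (by decide +kernel) (by decide +kernel)).elim
  · exact (m.w1_k9 pS hF a (by decide +kernel) (by decide +kernel) (by decide +kernel)).elim
  · exact m.w1_tw pS t t1 t3 (k := 2) a (by decide +kernel) (by decide +kernel) (by decide +kernel)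
      (by decide +kernel) (by decide +kernel)
  · exact (m.w1_k9 pS hF a (by decide +kernel) (by decide +kernel) (by decide +kernel)).elim
  · exact m.w1_tw pS t t1 t3 (k := 1) a (by decide +kernel) (by decide +kernel) (by decide +kernel)
      (by decide +kernel) (by decide +kernel)
  · exact (m.w1_k9 pS hF a (by decide +kernel) (by decide +kernel) (by decide +kernel)).elim

theorem auto_lemmas_co3w1 : True := by
  have := @w1n.eq_1
  have := @w1s.eq_1
  have := @w1L.eq_1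
  have := @w1fl.eq_1
  have := @w1tr.eq_1
  trivial

end H18.CO
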