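import Mathlib
import Cfsg.Agent.Base
import Cfsg.Agent.Lib.CO3.TT
import Cfsg.Agent.Lib.CO3.GI
import Cfsg.Agent.Lib.CO3.WD

set_option autoImplicit false
set_option maxRecDepth 100000
set_option linter.unusedSectionVars false

namespace H18.CO

open Subgroup H54 H2 H90 H91 H93.R3 H18.TH Cfsg Cfsg.FusionSystem
open scoped commutatorElement Pointwise

local notation:max "𝐍(" A ")" => Subgroup.normalizer (SetLike.coe A)
local notation:max "𝐂(" A ")" => Subgroup.centralizer (SetLike.coe A)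

universe u v

variable {Γ : Type u} [Group Γ] [Finite Γ] {Γ' : Type v} [Group Γ'] [Finite Γ'] {S E : Subgroup Γ}
  {S' : Subgroup Γ'} {el : ℕ → Γ} {el' : ℕ → Γ'} {g : Γ} {b : Bool}

namespace W2
variable {A : Subgroup Γ} {h k w x y z a : Γ}

theorem cent_LS (a : Ac el g LS) : g ∈ 𝐂(G el LS) :=
  cent_symm (A := G el LS) (X := zpowers g) (gp_le.2 fun y hy => mem_cent_zpowers.2 (by
    have k : ∀ x, (x, x) ∈ LS.zip LS → x ≠ 0 → ⁅el (enc x), g⁆ = 1 := fun x b c => by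
      rw [commutatorElement_eq_one_iff_mul_comm]
      exact (mul_inv_eq_iff_eq_mul.1 (a.get b c)).symm
    simp only [LS, em, List.mem_cons, List.not_mem_nil, or_false] at hy
    rcases hy with rfl | rfl | rfl | rfl | rfl | rfl | rfl | rfl | rfl <;> exact k _ (by decide) (by decide)))
    (mem_zpowers g)

theorem sub (hA : A ≤ 𝐂(A)) (ha : a ∈ A) (hy : y ∈ A) (hx : x ∈ 𝐍(A)) :
    ⁅a * y⁻¹, x⁆ = ⁅a, x⁆ * ⁅y, x⁆⁻¹ := by
  have c : ∀ {u v}, u ∈ A → v ∈ A → u * v = v * u := fun hu hv => hA hv _ hu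
  have a' := conj_mem hx (inv_mem ha)
  have y' := conj_mem hx hy
  calc _ = a * (y⁻¹ * ((x * y * x⁻¹) * (x * a⁻¹ * x⁻¹))) := by rw [commutatorElement_def]; group
    _ = a * ((x * a⁻¹ * x⁻¹) * (x * y * x⁻¹) * y⁻¹) := by rw [c (inv_mem hy) (mul_mem y' a'), c y' a']
    _ = _ := by simp only [commutatorElement_def]; group

theorem abs (hA : A ≤ 𝐂(A)) (ha : a ∈ A) (hy : y ∈ A) (hx : x ∈ 𝐍(A)) : ⁅a, y * x⁆ = ⁅a, x⁆ := by
  have c : ∀ {u v}, u ∈ A → v ∈ A → u * v = v * u := fun hu hv => hA hv _ hu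
  calc _ = a * (y * (x * a⁻¹ * x⁻¹)) * y⁻¹ := by rw [commutatorElement_def]; group
    _ = _ := by rw [c hy (conj_mem hx (inv_mem ha)), commutatorElement_def]; group

/-- `g` maps `x` to `y` modulo `A` -/
def R (A : Subgroup Γ) (g x y : Γ) : Prop := g * x * g⁻¹ * y⁻¹ ∈ A

theorem R.of_eq (e : g * x * g⁻¹ = y) : R A g x y := by rw [R, e, mul_inv_cancel]; exact one_mem _
theorem R.mul (hg : g ∈ 𝐍(A)) (h1 : R A g y z) (h2 : R A h x y) : R A (g * h) x z := by
  rw [R, show g * h * x * (g * h)⁻¹ * z⁻¹ = g * (h * x * h⁻¹ * y⁻¹) * g⁻¹ * (g * y * g⁻¹ * z⁻¹) by group]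
  exact mul_mem (conj_mem hg h2) h1
theorem R.inv (hy : y ∈ 𝐍(A)) (h1 : R A g x y) : R A g x⁻¹ y⁻¹ := by
  rw [R, show g * x⁻¹ * g⁻¹ * y⁻¹⁻¹ = (y⁻¹ * (g * x * g⁻¹ * y⁻¹) * y)⁻¹ by group]
  exact inv_mem (conj_mem' hy h1)
theorem R.div (hg : g ∈ 𝐍(A)) (hh : h ∈ 𝐍(A)) (h1 : R A g x y) (h2 : R A h x y) : R A (g * h⁻¹) y y := by
  refine R.mul hg h1 ?_
  rw [R, show h⁻¹ * y * h⁻¹⁻¹ * x⁻¹ = (h⁻¹ * (h * x * h⁻¹ * y⁻¹) * h)⁻¹ by group]
  exact inv_mem (conj_mem' hh h2)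

theorem tr (hc : w * h * w⁻¹ * k⁻¹ ∈ 𝐂(E)) (hw : w ∈ 𝐍(E)) (hk : k ∈ 𝐍(E)) (hy : y ∈ E) {i : Bool}
    (e : h * y * h⁻¹ = cond i y⁻¹ y) : k * (w * y * w⁻¹) * k⁻¹ = cond i (w * y * w⁻¹)⁻¹ (w * y * w⁻¹) := by
  rw [← conj_eq hc (conj_mem hk (conj_mem hw hy))]
  calc _ = w * (h * y * h⁻¹) * w⁻¹ := by group
    _ = _ := by rw [e]; cases i <;> simp [mul_assoc]

theorem comm_sq (hh : h ∈ 𝐍(E)) (hk : k ∈ 𝐍(E)) (h1 : h ^ 2 ∈ 𝐂(E)) (h2 : k ^ 2 ∈ 𝐂(E))
    (h3 : (h * k) ^ 2 ∈ 𝐂(E)) : ⁅h, k⁆ ∈ 𝐂(E) ∧ ⁅h, h * k⁆ ∈ 𝐂(E) := by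
  have : ⁅h, k⁆ ∈ 𝐂(E) := by
    rw [show ⁅h, k⁆ = (h * k) ^ 2 * (k⁻¹ * (h ^ 2)⁻¹ * k) * (k ^ 2)⁻¹ by
      simp only [commutatorElement_def, pow_two]; group]
    exact mul_mem (mul_mem h3 (conj_mem' (norm_cent le_rfl hk) (inv_mem h1))) (inv_mem h2)
  refine ⟨this, ?_⟩
  rw [show ⁅h, h * k⁆ = h * ⁅h, k⁆ * h⁻¹ by simp only [commutatorElement_def]; group]
  exact conj_mem (norm_cent le_rfl hh) this

/-- `g` maps the element with the code `x` to the one with the code `y` -/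
def Rl (el : ℕ → Γ) (g : Γ) (x y : ℕ) : Prop := Val x ∧ Val y ∧ g * el x * g⁻¹ = el y

theorem Rl.cm (m : Md S el) {x y x' y' : ℕ} (h1 : Rl el g x x') (h2 : Rl el g y y') :
    Rl el g (cm x y) (cm x' y') :=
  ⟨h1.1.cm h2.1, h1.2.1.cm h2.2.1, by rw [m.cm h1.1 h2.1, m.cm h1.2.1 h2.2.1, conj_comm, h1.2.2, h2.2.2]⟩
theorem Rl.eq (m : Md S el) {x y x' y' : ℕ} (h1 : Rl el g x y) (h2 : Rl el g x' y') (e : x = x') : y = y' :=
  m.inj h1.2.1 h2.2.1 (by rw [← h1.2.2, ← h2.2.2, e])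
theorem Rl.mk' {x y : ℕ} (e : g * el (enc x) * g⁻¹ = el (enc y)) : Rl el g (enc x) (enc y) :=
  ⟨val_enc _, val_enc _, e⟩

end W2
open W2

theorem Md.w2_rad (m : Md S el) (pS : IsPGroup 3 S) (hF : Sat S) (h : Mv S (G el LE2)) {q : Γ}
    (hq : q ∈ 𝐍(G el LE2)) (hz : q ∈ 𝐂(G el LZ)) (h1 : R (G el LA) q (el (enc 6561)) (el (enc 6561)))
    (h2 : R (G el LA) q (el (enc 243)) (el (enc 243))) : q ∈ G el LE2 ⊔ 𝐂(G el LE2) := by
  have o := m.ok pS
  have lA : G el LA ≤ G el LE2 := m.leB (av_em _) (av_em _) (by decide +kernel)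
  have lS : G el LE2 ≤ S := m.gp_le_S _
  have nA := o.nA lA lS
  have sE : S ≤ 𝐍(G el LE2) := le_normalizer.trans o.nS2
  have cA : G el LA ≤ 𝐂(G el LA) := m.ceB (av_em _) (av_em _) (by decide +kernel)
  have c0 : ∀ x ∈ G el LE2, ⁅q, x⁆ ∈ G el LA := fun x hx =>
    comm_gp (L := em (6561 :: 243 :: LA)) ((m.gp_le_S _).trans o.sA) (fun y hy => by
      rcases List.mem_cons.1 (show y ∈ enc 6561 :: enc 243 :: em LA from hy) with rfl | hy
      · exact h1
      rcases List.mem_cons.1 hy with rfl | hy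
      exacts [h2, comm_mem_r (nA hq) (mem_gp hy)]) x (m.leB (av_em _) (av_em _) (by decide +kernel) hx)
  have c1 : ∀ a ∈ G el LA, ⁅q, a⁆ ∈ G el LY := fun a ha => by
    have d := comm_mem_r (nA hq) ha
    rw [← m.rcQ pS (H := LA) (A := [729, 81, 9]) (L := LE2) (K := LZ) (by decide +kernel)]
    refine ⟨d, mem_rc.2 ⟨m.nmB (av_em _) (av_em _) (by decide +kernel) d, fun x hx => ?_⟩⟩
    have xA := o.sA (lS hx)
    rw [← o.z2]
    refine ⟨lA (comm_mem_l xA d), mem_cent fun y hy => ?_⟩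
    have yA := o.sA (lS hy)
    have a' := conj_mem (nA hq) ha
    have f : ⁅⁅a, x⁆, y⁆ ∈ G el LZ := comm_mem (m.cmB (av_em LY) (av_em _) (av_em _) (by decide +kernel))
      (comm_mem (m.cmB (av_em _) (av_em _) (av_em _) (by decide +kernel)) ha hx) hy
    have e := conj_eq hz f
    rw [conj_comm, conj_comm, show q * x * q⁻¹ = ⁅q, x⁆ * x by rw [commutatorElement_def]; group,
      show q * y * q⁻¹ = ⁅q, y⁆ * y by rw [commutatorElement_def]; group, W2.abs cA a' (c0 x hx) xA,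
      W2.abs cA (comm_mem_l xA a') (c0 y hy) yA] at e
    rw [commutatorElement_def q, W2.sub cA a' ha xA, W2.sub cA (comm_mem_l xA a') (comm_mem_l xA ha) yA, e,
      mul_inv_cancel]
  refine rad pS hF (fn_of_norm lS sE) ?_ h (X := fun i => [G el LE2, G el LA].getD i (G el LY)) (k := 2) rfl
    (fun i hi => ?_) o.ph2.ge (fun i hi => ?_) hq fun i hi => ?_
  · rw [inf_eq_left.2 sE, m.lgG pS (L := LE2) (by decide +kernel), ← m.top pS,
      m.lgG pS (L := LS) (by decide +kernel)]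
    rfl
  · interval_cases i
    exacts [lA, m.leB (av_em _) (av_em _) (by decide +kernel)]
  · interval_cases i
    exacts [le_rfl, nA]
  · interval_cases i
    exacts [c0, c1]

theorem Md.w2_kill (m : Md S el) (pS : IsPGroup 3 S) (hF : Sat S) (hw : ∃ g, Ac el g w1) {M wd : List ℕ} {j : ℕ}
    (a : Ac el g M) (h0 : ∀ i ∈ wd, i < 4)
    (e : band (H18.CO.k9 (wdM (fun i => [mx12, mx23, w1, M].getD i []) wd) j)
      (allL (fun n => band (dm (wdM (fun i => [mx12, mx23, w1, M].getD i []) wd) n)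
        ((H18.CO.tb (em LA)).mem (eb (wdM (fun i => [mx12, mx23, w1, M].getD i []) wd) n))) LA) = true) : False := by
  have o := m.ok pS
  rw [band_eq_true] at e
  obtain ⟨w, hw⟩ := hw
  have := m.ac_wd (Ls := fun i => [mx12, mx23, w1, M].getD i [])
    (x := fun i => [el (enc 6561), el (enc 2187), w, g].getD i 1) (w := wd) (fun i hi => by
      have := h0 i hi
      interval_cases i
      exacts [m.ac_x12, m.ac_x23, hw, a]) (fun c => by
      have := e.2
      rw [c] at this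
      exact absurd this (by decide +kernel))
  exact m.k9 (e9 pS hF (m.gp_le_S _) o.sA fun s hs => o.eaA.1 (o.s3 s hs)) (m.ac_norm this e.2) this e.1

theorem Md.exists_w2 (m : Md S el) (pS : IsPGroup 3 S) (hF : Sat S) (h : Mv S (G el LE2))
    (t1 : ∃ g, Ac el g (tau true false false)) (t3 : ∃ g, Ac el g (tau false true false))
    (hw : ∃ g, Ac el g w1) : ∃ b g, Ac el g (w2 b) := by
  obtain ⟨h1, t1⟩ := t1
  obtain ⟨h3, t3⟩ := t3
  obtain ⟨w, wE, wZ, r1, r2⟩ := m.raw2 pS hF h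
  have o := m.ok pS
  have lA : G el LA ≤ G el LE2 := m.leB (av_em _) (av_em _) (by decide +kernel)
  have lS : G el LE2 ≤ S := m.gp_le_S _
  have nA := o.nA lA lS
  have cA : G el LA ≤ 𝐂(G el LA) := m.ceB (av_em _) (av_em _) (by decide +kernel)
  have mm : ∀ {x : ℕ} {L : List ℕ}, (H18.CO.tb (em L)).mem (enc x) = true → el (enc x) ∈ G el L :=
    fun c => m.memB (av_em _) (val_enc _) c
  have t2 := m.ac_mul t1 t3 (by decide +kernel)
  rw [(eqL_iff (cp (tau true false false) (tau false true false)) (tau true true false)).1 (by decide +kernel)] at t2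
  have sq : ∀ {g M}, Ac el g M → allL (dm M) M = true → eqL (cp M M) LS = true → g ^ 2 ∈ 𝐂(G el LE2) :=
    fun a d e => by
      have := m.ac_mul a a d
      rw [(eqL_iff _ _).1 e, ← pow_two] at this
      exact cent_anti (m.leB (av_em _) (av_em _) (by decide +kernel)) (cent_LS this)
  have n1 : h1 ∈ 𝐍(G el LE2) := m.ac_norm t1 (by decide +kernel)
  have n3 : h3 ∈ 𝐍(G el LE2) := m.ac_norm t3 (by decide +kernel)
  have n2 := mul_mem n1 n3
  have s1 := sq t1 (by decide +kernel) (by decide +kernel)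
  have s2 := sq t2 (by decide +kernel) (by decide +kernel)
  have s3 := sq t3 (by decide +kernel) (by decide +kernel)
  have sg : ∀ {g M x y}, Ac el g M → (x, y) ∈ LS.zip M → y ≠ 0 → H18.CO.iv (enc x) = enc y →
      g * el (enc x) * g⁻¹ = (el (enc x))⁻¹ := fun a e k i => by rw [a.get e k, ← i, m.iv (val_enc _)]
  have cz : ∀ {g M}, Ac el g M → (1, 1) ∈ LS.zip M → g ∈ 𝐂(G el LZ) := fun a e => by
    rw [LZ, G_one, mem_cent_zpowers, commutatorElement_def, a.get e one_ne_zero, mul_inv_cancel]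
  have a1 := sg t1 (x := 6561) (y := 13122) (by decide) (by decide) (by decide +kernel)
  have a2 := sg t2 (x := 6561) (y := 13122) (by decide) (by decide) (by decide +kernel)
  have a3 := t3.get (x := 6561) (y := 6561) (by decide) (by decide)
  have c1 := sg t1 (x := 243) (y := 486) (by decide) (by decide) (by decide +kernel)
  have c2 := t2.get (x := 243) (y := 243) (by decide) (by decide)
  have c3 := sg t3 (x := 243) (y := 486) (by decide) (by decide) (by decide +kernel)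
  have iv' : ∀ {g x : Γ}, g * x * g⁻¹ = x⁻¹ → g * x⁻¹ * g⁻¹ = x := fun e => by rw [← conj_inv, e, inv_inv]
  have aN := o.sA (m.mem (enc 6561))
  have cN := o.sA (m.mem (enc 243))
  have w1' : R (G el LA) w (el (enc 243)) (el (enc 6561)) := r1
  have w2' : R (G el LA) w (el (enc 6561)) (el (enc 243))⁻¹ := by rwa [R, inv_inv]
  have w3' := w1'.inv aN
  have w4' := w2'.inv (inv_mem cN)
  rw [inv_inv] at w4'
  obtain ⟨e, he, k1, k3⟩ := gi (pS.to_le lS) n1 n2 n1 n3 wE s1 s2 (comm_sq n1 n3 s1 s3 s2).2 s1 s3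
    (comm_sq n1 n3 s1 s3 s2).1
    (m.w2_rad pS hF h (mul_mem (conj_mem (le_normalizer wE) n1) (inv_mem n1))
      (mul_mem (mul_mem (mul_mem wZ (cz t1 (by decide))) (inv_mem wZ)) (inv_mem (cz t1 (by decide))))
      (by
        rw [mul_assoc, ← mul_inv_rev]
        exact R.div (nA (mul_mem wE n1)) (nA (mul_mem n1 wE)) (.mul (nA wE) w1' (.of_eq (iv' c1)))
          (.mul (nA n1) (.of_eq (iv' a1)) w3'))
      (by
        rw [mul_assoc, ← mul_inv_rev]
        exact R.div (nA (mul_mem wE n1)) (nA (mul_mem n1 wE)) (.mul (nA wE) w4' (.of_eq a1))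
          (.mul (nA n1) (.of_eq (iv' c1)) w2')))
    (m.w2_rad pS hF h (mul_mem (conj_mem (le_normalizer wE) n2) (inv_mem n3))
      (mul_mem (mul_mem (mul_mem wZ (cz t2 (by decide))) (inv_mem wZ)) (inv_mem (cz t3 (by decide))))
      (by
        rw [mul_assoc, ← mul_inv_rev]
        exact R.div (nA (mul_mem wE n2)) (nA (mul_mem n3 wE)) (.mul (nA wE) w1' (.of_eq c2))
          (.mul (nA n3) (.of_eq a3) w1'))
      (by
        rw [mul_assoc, ← mul_inv_rev]
        exact R.div (nA (mul_mem wE n2)) (nA (mul_mem n3 wE)) (.mul (nA wE) w4' (.of_eq a2))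
          (.mul (nA n3) (.of_eq (iv' c3)) w2')))
  have eE := le_normalizer he
  have vE := mul_mem eE wE
  have cE : ⁅G el LE2, G el LE2⁆ ≤ G el LA := m.cmB (av_em _) (av_em _) (av_em _) (by decide +kernel)
  have aE : el (enc 6561) ∈ G el LE2 := mm (by decide +kernel)
  have cE' : el (enc 243) ∈ G el LE2 := mm (by decide +kernel)
  have v1 : R (G el LA) (e * w) _ _ := R.mul (nA eE) (comm_mem cE he aE) w1'
  have v2 : R (G el LA) (e * w) _ _ := R.mul (nA eE) (comm_mem cE he (inv_mem cE')) w2'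
  have vZ : e * w ∈ 𝐂(G el LZ) := mul_mem (m.ceB (av_em _) (av_em _) (by decide +kernel) he) wZ
  generalize e * w = v at k1 k3 vE v1 v2 vZ
  have eg := fun (y : Γ) (hy : y ∈ G el LE2) (i j : Bool) (e1 : h1 * y * h1⁻¹ = cond i y⁻¹ y)
    (e2 : h1 * h3 * y * (h1 * h3)⁻¹ = cond j y⁻¹ y) =>
    m.eig t1 t3 (lS (conj_mem vE hy)) (tr k1 vE n1 hy e1) (tr k3 vE n3 hy e2)
  obtain ⟨a, ha, ea⟩ := eg _ aE true true a1 a2
  obtain ⟨d, hd, ed⟩ := eg _ cE' true false c1 c2
  obtain ⟨c, hc, ec⟩ := eg (el (enc 729)) (mm (by decide +kernel)) false false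
    (t1.get (by decide) (by decide)) (t2.get (by decide) (by decide))
  obtain ⟨f, hf, ef⟩ := eg (el (enc 9)) (mm (by decide +kernel)) false false
    (t1.get (by decide) (by decide)) (t2.get (by decide) (by decide))
  obtain ⟨u, hu, eu⟩ := eg (el (enc 81)) (mm (by decide +kernel)) false true
    (t1.get (by decide) (by decide)) (sg t2 (y := 162) (by decide) (by decide) (by decide +kernel))
  rw [R, ed, ← m.iv (val_enc _), ← m.mul (val_enc _) (val_enc _).iv.1] at v1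
  rw [R, ea, inv_inv, ← m.mul (val_enc _) (val_enc _)] at v2
  have q1 : ∀ a ∈ [0, 27, 54, 243, 272, 298, 486, 514, 542], ∀ d ∈ [0, 3, 6, 6561, 6566, 6568, 13122, 13126, 13130],
      (H18.CO.tb (em LA)).nm (len (em LA)) (mu (enc a) (enc 243)) = true ∨
      (H18.CO.tb (em LA)).nm (len (em LA)) (mu (enc d) (H18.CO.iv (enc 6561))) = true ∨
      ∃ s ∈ [0, 9, 18, 1458, 1467, 1476, 729, 738, 747], (H18.CO.tb (em LA)).mem (enc s) = true ∧
        H18.CO.cg (enc s) (enc a) = enc 486 ∧ H18.CO.cg (enc s) (enc d) = enc 6561 := by decide +kernel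
  obtain ⟨s, -, hs, sa, sd⟩ := ((q1 a ha d hd).resolve_left fun c => m.nmemB pS (av_em _) (by decide +kernel)
    ((val_enc _).mu (val_enc _)) c v2).resolve_left fun c => m.nmemB pS (av_em _) (by decide +kernel)
      ((val_enc _).mu (val_enc _).iv.1) c v1
  have mv : ∀ {y : Γ}, el (enc s) * v * y * (el (enc s) * v)⁻¹ = el (enc s) * (v * y * v⁻¹) * (el (enc s))⁻¹ := by
    intro y; group
  have fA : ∀ {x n : ℕ}, (H18.CO.tb (em LA)).mem (enc x) = true → v * el (enc x) * v⁻¹ = el (enc n) →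
      Rl el (el (enc s) * v) (enc x) (enc n) := fun c e =>
    .mk' (by rw [mv, conj_eq (cA (mm hs)) (conj_mem (nA vE) (mm c)), e])
  have g0 : Rl el (el (enc s) * v) (enc 6561) (enc 486) :=
    .mk' (by rw [mv, ea, ← m.cg (val_enc _) (val_enc _), sa])
  have g3 : Rl el (el (enc s) * v) (enc 243) (enc 6561) :=
    .mk' (by rw [mv, ed, ← m.cg (val_enc _) (val_enc _), sd])
  have g2 := fA (by decide +kernel) ec
  have g4 := fA (by decide +kernel) eu
  have g6 := fA (by decide +kernel) ef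
  have g8 := fA (x := 1) (n := 1) (by decide +kernel) (conj_eq vZ (mm (by decide +kernel)))
  have g9 := fA (x := 2) (n := 2) (by decide +kernel) (conj_eq vZ (mm (by decide +kernel)))
  have gz := fA (x := 0) (n := 0) (by decide +kernel) (conj_eq vZ (mm (by decide +kernel)))
  generalize el (enc s) * v = g at g0 g2 g3 g4 g6 g8 g9 gz
  have q2 : ∀ c ∈ egL false false, H18.CO.cm (enc c) (enc 486) = enc 0 → H18.CO.cm (H18.CO.cm (enc c) (enc 6561)) (enc 6561) = enc 2 →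
      c = 9 ∨ c = 10 ∨ c = 11 := by decide +kernel
  have q3 : ∀ c ∈ egL false false, H18.CO.cm (enc c) (enc 6561) = enc 0 → H18.CO.cm (H18.CO.cm (enc c) (enc 486)) (enc 486) = enc 2 →
      c = 729 ∨ c = 730 ∨ c = 731 := by decide +kernel
  have q4 : ∀ u ∈ egL false true, ∀ f, f = 729 ∨ f = 730 ∨ f = 731 → H18.CO.cm (enc u) (enc f) = enc 0 →
      H18.CO.cm (H18.CO.cm (enc u) (enc 486)) (enc 6561) = enc 2 → u = 162 := by
    rintro u hu f (rfl | rfl | rfl) <;> revert u <;> decide +kernel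
  have hc' := q2 c hc ((g2.cm m g0).eq m gz (by decide +kernel)) (((g2.cm m g3).cm m g3).eq m g9 (by decide +kernel))
  have hf' := q3 f hf ((g6.cm m g3).eq m gz (by decide +kernel)) (((g6.cm m g0).cm m g0).eq m g9 (by decide +kernel))
  obtain rfl := q4 u hu f hf' ((g4.cm m g6).eq m gz (by decide +kernel))
    (((g4.cm m g0).cm m g3).eq m g9 (by decide +kernel))
  have g5 := (g0.cm m g4).2.2
  have g7 := (g3.cm m g4).2.2
  rw [show H18.CO.cm (enc 6561) (enc 81) = enc 27 by decide +kernel, show H18.CO.cm (enc 486) (enc 162) = enc 3 by decide +kernel] at g5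
  rw [show H18.CO.cm (enc 243) (enc 81) = enc 3 by decide +kernel, show H18.CO.cm (enc 6561) (enc 162) = enc 54 by decide +kernel] at g7
  have ac : Ac el g [486, 0, c, 6561, 162, 3, f, 54, 1] :=
    .cons (.inr g0.2.2) (.cons (.inl rfl) (.cons (.inr g2.2.2) (.cons (.inr g3.2.2) (.cons (.inr g4.2.2)
      (.cons (.inr g5) (.cons (.inr g6.2.2) (.cons (.inr g7) (.cons (.inr g8.2.2) .nil))))))))
  have kl := fun wd j => m.w2_kill pS hF hw (wd := wd) (j := j) ac
  rcases hc' with rfl | rfl | rfl <;> rcases hf' with rfl | rfl | rfl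
  · exact ⟨false, g, ac⟩
  · exact (kl [1, 3] 1 (by decide) (by decide +kernel)).elim
  · exact (kl [1, 3] 1 (by decide) (by decide +kernel)).elim
  · exact (kl [1, 3] 1 (by decide) (by decide +kernel)).elim
  · exact (kl [1, 3] 1 (by decide) (by decide +kernel)).elim
  · exact ⟨true, g, ac⟩
  · exact (kl [1, 3] 1 (by decide) (by decide +kernel)).elim
  · exact (kl [0, 1, 3, 2, 2, 2] 2 (by decide) (by decide +kernel)).elim
  · exact (kl [1, 3] 1 (by decide) (by decide +kernel)).elim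

end H18.CO
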