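import Mathlib
import Cfsg.Agent.Base
import Cfsg.Agent.Lib.CO3.TT
import Cfsg.Agent.Lib.CO3.GI
import Cfsg.Agent.Lib.CO3.WD

set_option autoImplicit false
set_option maxRecDepth 100000

namespace H18.CO

open Subgroup H54 H2 H90 H91 H93.R3 H18.TH Cfsg Cfsg.FusionSystem
open scoped commutatorElement Pointwise

local notation:max "𝐍(" A ")" => Subgroup.normalizer (SetLike.coe A)
local notation:max "𝐂(" A ")" => Subgroup.centralizer (SetLike.coe A)

universe u v

variable {Γ : Type u} [Group Γ] [Finite Γ] {Γ' : Type v} [Group Γ'] [Finite Γ'] {S E : Subgroup Γ}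
  {S' : Subgroup Γ'} {el : ℕ → Γ} {el' : ℕ → Γ'} {g : Γ} {b : Bool}

omit [Finite Γ] in
theorem W3_eig {w h x : Γ} (hw : w ∈ 𝐍(E)) (hx : x ∈ E) (d : w * h * w⁻¹ * h⁻¹ ∈ 𝐂(E)) {i : Bool}
    (e : h * x * h⁻¹ = cond i x⁻¹ x) :
    h * (w * x * w⁻¹) * h⁻¹ = cond i (w * x * w⁻¹)⁻¹ (w * x * w⁻¹) := by
  have hy := conj_mem hw hx
  have k : cond i (w * x * w⁻¹)⁻¹ (w * x * w⁻¹) ∈ E := by cases i; exacts [hy, inv_mem hy]
  rw [← conj_eq (inv_mem d) k]
  have : cond i (w * x * w⁻¹)⁻¹ (w * x * w⁻¹) = w * (h * x * h⁻¹) * w⁻¹ := by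
    rw [e]; cases i <;> simp only [cond_true, cond_false] <;> group
  rw [this]; group

omit [Finite Γ] in
theorem W3_neg {X Y : Subgroup Γ} {w h : Γ} (n1 : w ∈ 𝐍(X)) (n2 : w ∈ 𝐍(Y)) (n3 : h ∈ 𝐍(X))
    (e : ∀ x ∈ X, h * x * h⁻¹ * x ∈ Y) : ∀ x ∈ X, ⁅w * h * w⁻¹ * h⁻¹, x⁆ ∈ Y := fun x hx => by
  have a := e _ (conj_mem' n3 hx)
  have c := conj_mem n2 (e _ (conj_mem' n1 (conj_mem' n3 hx)))
  convert mul_mem c (inv_mem a) using 1
  rw [commutatorElement_def]; group

omit [Finite Γ] in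
theorem W3_cent (m : Md S el) (a : Ac el g LS) : g ∈ 𝐂(G el LE3) :=
  cent_symm (A := G el LE3) (X := zpowers g) (gp_le.2 fun y hy => mem_cent_zpowers.2 (by
    have k : ∀ x, (x, x) ∈ LS.zip LS → x ≠ 0 → ⁅el (enc x), g⁆ = 1 := fun x b c => by
      rw [commutatorElement_eq_one_iff_mul_comm]
      exact (mul_inv_eq_iff_eq_mul.1 (a.get b c)).symm
    simp only [LE3, em, List.mem_cons, List.not_mem_nil, or_false] at hy
    rcases hy with rfl | rfl | rfl | rfl | rfl | rfl | rfl | rfl <;> exact k _ (by decide) (by decide)))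
    (mem_zpowers g)

theorem W3_ev (m : Md S el) {M : List ℕ} (a : Ac el g M) {i : Bool}
    (e : allE (fun t => band (dm M (dec t)) ((tb (em LF3)).mem
      (mu (eb M (dec t)) (Bool.rec (motive := fun _ => ℕ) (iv t) t i)))) (em LV) 0 = true) :
    ∀ x ∈ G el LV, g * x * g⁻¹ * cond i x x⁻¹ ∈ G el LF3 := fun x hx => by
  obtain ⟨t, v, c, rfl⟩ := m.allG (by decide +kernel) e hx
  rw [band_eq_true] at c
  have k := m.ap a c.1
  rw [v.enc_dec.1] at k
  cases i
  · have := m.memB (av_em _) ((val_eb _ _).mu v.iv.1) c.2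
    rwa [m.mul (val_eb _ _) v.iv.1, m.iv v, ← k] at this
  · have := m.memB (av_em _) ((val_eb _ _).mu v) c.2
    rwa [m.mul (val_eb _ _) v, ← k] at this

omit [Finite Γ] in
theorem W3_cm (m : Md S el) {x y z x' y' z' : ℕ} (h : g * el (enc x) * g⁻¹ = el (enc x'))
    (k : g * el (enc y) * g⁻¹ = el (enc y'))
    (e : band (Nat.beq (enc z) (cm (enc x) (enc y))) (Nat.beq (enc z') (cm (enc x') (enc y'))) = true) :
    g * el (enc z) * g⁻¹ = el (enc z') := by
  rw [band_eq_true, Nat.beq_eq, Nat.beq_eq] at e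
  rw [e.1, e.2, m.cm (val_enc _) (val_enc _), m.cm (val_enc _) (val_enc _), conj_comm, h, k]

omit [Finite Γ] in
theorem W3_fl (m : Md S el) (a : Ac el g [6561, 162, 0, 0, 2187, 0, 0, 0, 0]) : Ac el g w3 := by
  have e0 := a.get (x := 6561) (y := 6561) (by decide) (by decide)
  have e1 := a.get (x := 2187) (y := 162) (by decide) (by decide)
  have e4 := a.get (x := 81) (y := 2187) (by decide) (by decide)
  have e3 := W3_cm m e0 e1 (z := 243) (z' := 54) (by decide +kernel)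
  have e5 := W3_cm m e0 e4 (z := 27) (z' := 243) (by decide +kernel)
  have e6 := W3_cm m e4 e1 (z := 9) (z' := 9) (by decide +kernel)
  have e7 := W3_cm m e3 e4 (z := 3) (z' := 3) (by decide +kernel)
  have e8 := W3_cm m e5 e3 (z := 1) (z' := 1) (by decide +kernel)
  exact .cons (.inr e0) (.cons (.inr e1) (.cons (.inl rfl) (.cons (.inr e3) (.cons (.inr e4)
    (.cons (.inr e5) (.cons (.inr e6) (.cons (.inr e7) (.cons (.inr e8) .nil))))))))

/-- the candidates in a coset -/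
theorem W3_pick (m : Md S el) (pS : IsPGroup 3 S) {K L L' : List ℕ} {z n : ℕ} (hz : Val z) (hn : n ∈ L)
    (h : el (enc n) * el z ∈ G el K)
    (e : band (lgB (em K)) (allL (fun n => bor (anyL (Nat.beq n) L')
      ((tb (em K)).nm (len (em K)) (mu (enc n) z))) L) = true) : n ∈ L' := by
  rw [band_eq_true, allL_iff] at e
  rcases (bor_eq_true _ _).1 (e.2 n hn) with c | c
  · obtain ⟨k, hk, c⟩ := (anyL_iff _ _).1 c
    exact Nat.eq_of_beq_eq_true c ▸ hk
  · exact absurd (m.mul (val_enc n) hz ▸ h) (m.nmemB pS (av_em _) e.1 ((val_enc n).mu hz) c)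

theorem Md.exists_w3 (m : Md S el) (pS : IsPGroup 3 S) (hF : Sat S) (h : Mv S (G el LE3))
    (t1 : ∃ g, Ac el g (tau true false false)) (t3 : ∃ g, Ac el g (tau false true false)) :
    ∃ g, Ac el g w3 := by
  have o := m.ok pS
  obtain ⟨h₁, t1⟩ := t1
  obtain ⟨h₃, t3⟩ := t3
  obtain ⟨w, w1, w2, w3, w4⟩ := m.raw3 pS hF h
  have hE := m.gp_le_S (em LE3)
  have sE : S ≤ 𝐍(G el LE3) := le_normalizer.trans o.nS3
  have nF : 𝐍(G el LE3) ≤ 𝐍(G el LF3) := o.ph3 ▸ norm_ph le_rfl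
  have n1 : h₁ ∈ 𝐍(G el LE3) := m.ac_norm t1 (by decide +kernel)
  have n3 : h₃ ∈ 𝐍(G el LE3) := m.ac_norm t3 (by decide +kernel)
  have lV : G el LV ≤ G el LE3 := m.leB (av_em _) (av_em _) (by decide +kernel)
  have ct : ∀ {g M}, Ac el g M → eqL M LS = true → g ∈ 𝐂(G el LE3) := fun a e =>
    W3_cent m ((eqL_iff _ _).1 e ▸ a)
  have s1 : h₁ ^ 2 ∈ 𝐂(G el LE3) := by
    rw [pow_two]; exact ct (m.ac_mul t1 t1 (by decide +kernel)) (by decide +kernel)
  have s3 : h₃ ^ 2 ∈ 𝐂(G el LE3) := by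
    rw [pow_two]; exact ct (m.ac_mul t3 t3 (by decide +kernel)) (by decide +kernel)
  have s13 : ⁅h₁, h₃⁆ ∈ 𝐂(G el LE3) := by
    have a := m.ac_mul t1 t3 (by decide +kernel)
    have c := ct (m.ac_mul a a (by decide +kernel)) (by decide +kernel)
    convert mul_mem (mul_mem c (conj_mem' (norm_cent le_rfl n3) (inv_mem s1))) (inv_mem s3) using 1
    rw [commutatorElement_def]; group
  have rd : ∀ {k}, k ∈ 𝐍(G el LE3) → (∀ x ∈ G el LV, ⁅w * k * w⁻¹ * k⁻¹, x⁆ ∈ G el LF3) →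
      w * k * w⁻¹ * k⁻¹ ∈ G el LE3 ⊔ 𝐂(G el LE3) := fun {k} nk c =>
    rad pS hF (fn_of_norm hE sE) (by
        rw [inf_eq_left.2 sE, m.lgG pS (by decide +kernel)]
        conv_rhs => rw [← m.top pS, m.lgG pS (by decide +kernel)]
        rfl) h (k := 2)
      (X := fun i => match i with | 0 => G el LE3 | 1 => G el LV | _ => G el LF3) rfl
      (fun i hi => by
        interval_cases i
        · exact lV
        · exact m.leB (av_em _) (av_em _) (by decide +kernel))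
      o.ph3.ge
      (fun i hi => by
        interval_cases i
        · exact le_rfl
        · exact o.n3V)
      (mul_mem (mul_mem (mul_mem w1 nk) (inv_mem w1)) (inv_mem nk))
      (fun i hi => by
        interval_cases i
        · exact (mem_rc.1 (comm_mem_l (norm_rc le_rfl o.n3V nk) w2)).2
        · exact c)
  have d1 := rd n1 (mem_rc.1 (comm_mem_r (norm_rc o.n3V nF w1) (mem_rc.2 ⟨nF n1,
    W3_ev m t1 (i := false) (by decide +kernel)⟩))).2
  have d3 := rd n3 (W3_neg (o.n3V w1) (nF w1) (o.n3V n3) (W3_ev m t3 (i := true) (by decide +kernel)))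
  obtain ⟨e, he, c1, c3⟩ := gi (pS.to_le hE) n1 n3 n1 n3 w1 s1 s3 s13 s1 s3 s13 d1 d3
  have nw : e * w ∈ 𝐍(G el LE3) := mul_mem (le_normalizer he) w1
  have eg : ∀ {x i j}, enc x ∈ em LE3 → h₁ * el (enc x) * h₁⁻¹ = cond i (el (enc x))⁻¹ (el (enc x)) →
      h₃ * el (enc x) * h₃⁻¹ = cond j (el (enc x))⁻¹ (el (enc x)) → _ := fun hx a c =>
    m.eig t1 t3 (hE (conj_mem nw (mem_gp hx))) (W3_eig nw (mem_gp hx) c1 a) (W3_eig nw (mem_gp hx) c3 c)
  have iv : ∀ {x y}, Nat.beq (enc y) (H18.CO.iv (enc x)) = true → el (enc y) = (el (enc x))⁻¹ :=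
    fun c => by rw [Nat.eq_of_beq_eq_true c, m.iv (val_enc _)]
  have md : ∀ {x z}, enc x ∈ em LE3 → w * el (enc x) * w⁻¹ * z ∈ G el LF3 ⊔ G el LF3 →
      e * w * el (enc x) * (e * w)⁻¹ * z ∈ G el LF3 := fun {x z} hx c => by
    have := comm_mem (o.ph3 ▸ (eq_ph (pS.to_le hE)).comm) he (conj_mem w1 (mem_gp hx))
    rw [sup_idem] at c
    convert mul_mem this c using 1
    rw [commutatorElement_def]; group
  obtain ⟨a, ha, ea⟩ := eg (x := 6561) (i := true) (j := false) (by simp [LE3, em])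
    ((t1.get (y := 13122) (by decide) (by decide)).trans (iv (by decide +kernel)))
    (t3.get (by decide) (by decide))
  obtain ⟨c, hc, ec⟩ := eg (x := 2187) (i := false) (j := true) (by simp [LE3, em])
    (t1.get (by decide) (by decide))
    ((t3.get (y := 4374) (by decide) (by decide)).trans (iv (by decide +kernel)))
  obtain ⟨d, hd, ed⟩ := eg (x := 81) (i := false) (j := true) (by simp [LE3, em])
    (t1.get (by decide) (by decide))
    ((t3.get (y := 162) (by decide) (by decide)).trans (iv (by decide +kernel)))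
  have ka : a ∈ [6561, 6566, 6568] := W3_pick m pS (K := LV) (val_enc 6561).iv.1 ha (by
    rw [← ea, m.iv (val_enc _)]
    have x1 : el (enc 6561) ∈ G el LE3 := mem_gp (by simp [LE3, em])
    have a1 := (mem_rc.1 w2).2 _ x1
    have a2 : ⁅e, w * el (enc 6561) * w⁻¹⁆ ∈ G el LV :=
      m.leB (av_em _) (av_em _) (by decide +kernel : H18.CO.leB (em LF3) (em LV) = true)
        (comm_mem ((eq_ph (pS.to_le hE)).comm.trans o.ph3.le) he (conj_mem w1 x1))
    convert mul_mem a2 a1 using 1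
    simp only [commutatorElement_def]; group) (by decide +kernel)
  have kc : c ∈ [162] := W3_pick m pS (K := LF3) (val_enc 81) hc
    (ec ▸ md (by simp [LE3, em]) (mem_sup_left w4)) (by decide +kernel)
  have kd : d ∈ [2187] := W3_pick m pS (K := LF3) (val_enc 2187).iv.1 hd
    (by rw [← ed, m.iv (val_enc _)]; exact md (by simp [LE3, em]) (mem_sup_left w3)) (by decide +kernel)
  rw [List.mem_singleton] at kc kd
  subst kc kd
  have ac : Ac el (e * w) [a, 162, 0, 0, 2187, 0, 0, 0, 0] :=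
    .cons (.inr ea) (.cons (.inr ec) (.cons (.inl rfl) (.cons (.inl rfl) (.cons (.inr ed)
      (.cons (.inl rfl) (.cons (.inl rfl) (.cons (.inl rfl) (.cons (.inl rfl) .nil))))))))
  obtain ⟨s, -, hs⟩ := (anyL_iff _ _).1 ((allL_iff _ _).1 (by decide +kernel : allL (fun a => anyL (fun s =>
    eqL (cn0 s [a, 162, 0, 0, 2187, 0, 0, 0, 0]) [6561, 162, 0, 0, 2187, 0, 0, 0, 0]) [0, 9, 18])
      [6561, 6566, 6568] = true) a ka)
  exact ⟨_, W3_fl m ((eqL_iff _ _).1 hs ▸ m.ac_cn s ac)⟩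

end H18.CO
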