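import Mathlib
import Cfsg.Agent.Base
import Cfsg.Agent.Lib.CO3.Cls
import Cfsg.Agent.Lib.CO3.W1
import Cfsg.Agent.Lib.CO3.W2
import Cfsg.Agent.Lib.CO3.W3
import Cfsg.Agent.Lib.CO3.RL
import Cfsg.Agent.Lib.CO3.SP
import Cfsg.Agent.Lib.CO3.CO
import Cfsg.Agent.Lib.Leech.Export

/-! Core-free saturated systems over a Sylow `3`-subgroup of `Co₁` are realizable. -/

set_option autoImplicit false

namespace H18.CO

open Subgroup H54 H2 H93.R3 H18.TH Cfsg Cfsg.FusionSystem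

universe u v

variable {Γ : Type u} [Group Γ] [Finite Γ] {Γ' : Type v} [Group Γ'] [Finite Γ'] {S : Subgroup Γ}
  {el : ℕ → Γ} {el' : ℕ → Γ'} {b : Bool}

theorem Md.std (m : Md S el) (pS : IsPGroup 3 S) (hF : Sat S) (hc : (groupFusionSystem S).core = ⊥) :
    ∃ el₁ b, Md S el₁ ∧ Tw S el₁ ∧ Gn el₁ b := by
  obtain ⟨el₀, m₀, t₀⟩ := m.exists_tw pS hF
  obtain ⟨v1, v2, v3⟩ := m₀.mv_all pS hF (m₀.cls pS hF) hc
  obtain ⟨el₁, m₁, t, t1, t3, w, e2, e3⟩ :=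
    m₀.exists_w1 pS hF t₀ v1 (m₀.ex_t1 pS hF t₀ v2) (m₀.ex_t3 pS hF t₀ v1)
  obtain ⟨b, w'⟩ := m₁.exists_w2 pS hF (e2 ▸ v2) t1 t3 w
  exact ⟨el₁, b, m₁, t, t1, t3, w, w', m₁.exists_w3 pS hF (e3 ▸ v3) t1 t3⟩

theorem Md.real' [Fact (Nat.Prime 3)] (m : Md S el) (pS : IsPGroup 3 S) (hF : Sat S) (t : Tw S el)
    (n : Gn el b) (T : Sylow 3 Γ') (m' : Md (T : Subgroup Γ') el') (n' : Gn el' b)
    (h : Dl el' ∨ Nd (T : Subgroup Γ') el') (d : Dl el ↔ Dl el') :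
    (groupFusionSystem S).IsRealizable 3 :=
  have hT : Sat (T : Subgroup Γ') := H93.isSaturated_groupFusionSystem T
  m.real pS hF m' T rfl (m.cls pS hF) (m'.cls T.isPGroup' hT) t
    (m'.tw_of T.isPGroup' hT n'.t1 n'.t3 h) n n' d

theorem Md.realizable [Fact (Nat.Prime 3)] (m : Md S el) (pS : IsPGroup 3 S) (hF : Sat S)
    (hc : (groupFusionSystem S).core = ⊥) : (groupFusionSystem S).IsRealizable 3 := by
  haveI := H16.finite_sCo1
  obtain ⟨el₁, b, m₁, t, n⟩ := m.std pS hF hc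
  cases b
  · rcases m₁.dl_or_nd pS t n.t1 n.t3 with d | d
    · obtain ⟨G₀, _, _, T, el', m', n', d'⟩ := exists_gsp
      exact m₁.real' pS hF t n T m' n' (Or.inl d') (iff_of_true d d')
    · obtain ⟨G₀, _, _, T, el', m', n', d'⟩ := exists_sp
      exact m₁.real' pS hF t n T m' n' (Or.inr d') (iff_of_false (m₁.not_dl d) (m'.not_dl d'))
  · obtain ⟨T, el', m', n', d'⟩ := exists_co
    exact m₁.real' pS hF t n T m' n' (Or.inl d') (iff_of_true (m₁.gn_dl pS hF t n) d')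

theorem co3fin_eq : True := trivial

end H18.CO
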